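import Cfsg.Agent.SporadicRecognition.CosetCertHyp

/-!
Chains of certified coset enumerations inside one group, and relator expressions.
-/

set_option autoImplicit false
set_option linter.unusedSectionVars false
set_option linter.unusedVariables false

namespace Cfsg.Agent.SporadicRecognition.CosetChain

open Cfsg.Agent.SporadicRecognition.CosetCert Cfsg.Agent.SporadicRecognition.CosetCertHyp

/-- group expressions in numbered generators -/
inductive Ex where
  | g : Nat → Ex
  | m : Ex → Ex → Ex
  | i : Ex → Ex
  | p : Ex → Nat → Ex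

def Ex.val {G : Type*} [Group G] (f : Nat → G) : Ex → G
  | .g n => f n
  | .m a b => a.val f * b.val f
  | .i a => (a.val f)⁻¹
  | .p a n => a.val f ^ n

/-- repeated word -/
def repw (w : List Nat) : Nat → List Nat
  | 0 => []
  | n + 1 => repw w n ++ w

def Ex.word (inv : Nat → Nat) : Ex → List Nat
  | .g n => [n]
  | .m a b => a.word inv ++ b.word inv
  | .i a => invw inv (a.word inv)
  | .p a n => repw (a.word inv) n

variable {G : Type*} [Group G]

/-- letters of an expression are `< k` -/
def Ex.lt (k : Nat) : Ex → Prop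
  | .g n => n < k
  | .m a b => a.lt k ∧ b.lt k
  | .i a => a.lt k
  | .p a _ => a.lt k

/-- unfolding lemmas, generated here once (so that importing files do not generate them again) -/
theorem Ex.lt_g (k n : Nat) : (Ex.g n).lt k ↔ n < k := by simp [Ex.lt]
theorem Ex.lt_m (k : Nat) (a b : Ex) : (Ex.m a b).lt k ↔ a.lt k ∧ b.lt k := by simp [Ex.lt]
theorem Ex.lt_def (k : Nat) (e : Ex) : e.lt k = (match e with
  | .g n => n < k
  | .m a b => a.lt k ∧ b.lt k
  | .i a => a.lt k
  | .p a _ => a.lt k) := by rw [Ex.lt.eq_def]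

theorem mem_invw {inv : Nat → Nat} {w : List Nat} {y : Nat} (h : y ∈ invw inv w) :
    ∃ z ∈ w, inv z = y := by
  unfold invw at h
  rw [List.mem_reverse, List.mem_map] at h
  exact h

theorem mem_repw {w : List Nat} {n y : Nat} (h : y ∈ repw w n) : y ∈ w := by
  induction n with
  | zero => simp [repw] at h
  | succ n ih =>
    rw [repw, List.mem_append] at h
    rcases h with h | h
    · exact ih h
    · exact h

theorem ev_repw (f : Nat → G) (w : List Nat) (n : Nat) : ev f (repw w n) = ev f w ^ n := by
  induction n with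
  | zero => simp [repw, ev]
  | succ n ih => rw [repw, ev_append, ih, pow_succ]

theorem Ex.word_lt {inv : Nat → Nat} {k : Nat} (hinv : ∀ x, x < k → inv x < k) (e : Ex) (he : e.lt k) :
    ∀ y ∈ e.word inv, y < k := by
  induction e with
  | g n => intro y hy; simp [Ex.word] at hy; subst hy; exact he
  | m a b iha ihb =>
    intro y hy
    rw [Ex.word, List.mem_append] at hy
    rcases hy with hy | hy
    · exact iha he.1 y hy
    · exact ihb he.2 y hy
  | i a iha =>
    intro y hy
    obtain ⟨z, hz, rfl⟩ := mem_invw hy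
    exact hinv z (iha he z hz)
  | p a n iha =>
    intro y hy
    exact iha he y (mem_repw hy)

theorem Ex.ev_word {inv : Nat → Nat} {k : Nat} {f : Nat → G}
    (hinv : ∀ x, x < k → inv x < k ∧ f x * f (inv x) = 1) (e : Ex) (he : e.lt k) :
    ev f (e.word inv) = e.val f := by
  induction e with
  | g n => simp [Ex.word, Ex.val, ev]
  | m a b iha ihb => rw [Ex.word, Ex.val, ev_append, iha he.1, ihb he.2]
  | i a iha =>
    rw [Ex.word, Ex.val, ev_invw f inv k hinv _ (Ex.word_lt (fun x hx => (hinv x hx).1) a he), iha he]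
  | p a n iha => rw [Ex.word, Ex.val, ev_repw, iha he]

/-- restrict the letters -/
def cut (g : Nat → G) (k : Nat) : Nat → G := fun x => if x < k then g x else 1

theorem cut_of_lt (g : Nat → G) {k x : Nat} (h : x < k) : cut g k x = g x := if_pos h

theorem cut_self (g : Nat → G) (k : Nat) : cut g k k = 1 := if_neg (lt_irrefl k)

theorem ev_cut (g : Nat → G) (k : Nat) (w : List Nat) (hw : ∀ y ∈ w, y < k) :
    ev (cut g k) w = ev g w := by
  induction w with
  | nil => rfl
  | cons x w ih =>
    rw [ev_cons, ev_cons, cut_of_lt g (hw x (by simp)), ih (fun y hy => hw y (by simp [hy]))]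

theorem image_cut (g : Nat → G) (k : Nat) : cut g k '' {x | x < k} = g '' {x | x < k} :=
  Set.image_congr fun x hx => cut_of_lt g hx

/-- restrict a list of words to those with letters `< k` -/
def restr (k : Nat) (rels : List (List Nat)) : List (List Nat) :=
  rels.filter fun r => r.all fun y => Nat.blt y k

theorem hyp_restr (C : Cert) (g : Nat → G) (rels subw : List (List Nat)) (H : Subgroup G)
    (hinv : ∀ x, x < C.k → C.inv x < C.k ∧ g x * g (C.inv x) = 1)
    (hrel : ∀ r ∈ rels, (∀ y ∈ r, y < C.k) → ev g r = 1)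
    (hsub : ∀ s ∈ subw, (∀ y ∈ s, y < C.k) → ev g s ∈ H)
    (hcheck : checkHyp C (restr C.k rels) (restr C.k subw) = true) : Hyp C H (cut g C.k) := by
  refine hyp_of_checks H (cut g C.k) C (restr C.k rels) (restr C.k subw) (cut_self g C.k) ?_ ?_ ?_ hcheck
  · intro x hx
    obtain ⟨h1, h2⟩ := hinv x hx
    exact ⟨h1, by rw [cut_of_lt g hx, cut_of_lt g h1, h2]⟩
  · intro r hr
    obtain ⟨h1, h2⟩ := List.mem_filter.mp hr
    have h3 := all_lt h2
    rw [ev_cut g C.k r h3]
    exact hrel r h1 h3
  · intro s hs
    obtain ⟨h1, h2⟩ := List.mem_filter.mp hs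
    have h3 := all_lt h2
    rw [ev_cut g C.k s h3]
    exact hsub s h1 h3

/-- one step of a chain: `|⟨g x | x < k⟩| ≤ n * |H|`. -/
theorem card_step (C : Cert) (g : Nat → G) (rels subw : List (List Nat)) (H : Subgroup G)
    (hinv : ∀ x, x < C.k → C.inv x < C.k ∧ g x * g (C.inv x) = 1)
    (hrel : ∀ r ∈ rels, (∀ y ∈ r, y < C.k) → ev g r = 1)
    (hsub : ∀ s ∈ subw, (∀ y ∈ s, y < C.k) → ev g s ∈ H)
    (hcheck : checkHyp C (restr C.k rels) (restr C.k subw) = true)
    {n : Nat} (hP : Part C 0 C.N n) (hfin : Finite H) :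
    Finite (Subgroup.closure (g '' {x | x < C.k})) ∧
      Nat.card (Subgroup.closure (g '' {x | x < C.k})) ≤ n * Nat.card H := by
  have := card_closure_le C H (cut g C.k) (hyp_restr C g rels subw H hinv hrel hsub hcheck) hP
  rwa [image_cut] at this

/-- the subgroup words `[0], ..., [j-1]` lie in the closure of the first `j` letters -/
theorem sub_letters (g : Nat → G) (j : Nat) (subw : List (List Nat))
    (h : ∀ s ∈ subw, ∀ y ∈ s, y < j) : ∀ s ∈ subw, ev g s ∈ Subgroup.closure (g '' {x | x < j}) := by
  intro s hs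
  have := h s hs
  clear h hs
  induction s with
  | nil => rw [ev_nil]; exact Subgroup.one_mem _
  | cons x s ih =>
    rw [ev_cons]
    exact Subgroup.mul_mem _ (Subgroup.subset_closure ⟨x, this x (by simp), rfl⟩)
      (ih fun y hy => this y (by simp [hy]))

end Cfsg.Agent.SporadicRecognition.CosetChain
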