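import Cfsg.Prelude.Def_SporadicB
import Cfsg.Agent.Lib.AltCarmichael
import Cfsg.Agent.CharactersDeep.DoubleCover

/-!
# Uniqueness of the non-split double cover of an alternating group

`IsCover π z`: `π : C →* A_n` is a central extension by `{1, z}` without a section.
`exists_mulEquiv`: for `n ≥ 5` any two of them are isomorphic over `A_n`.
`exists_model`: hence each is isomorphic over `A_n` to the Clifford model.
-/

set_option autoImplicit false

namespace Cfsg.Agent.SporadicRecognition.AltCover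

open Subgroup
open Cfsg.Agent.Lib.AltCarmichael

/-- a non-split central extension of `A_n` by a group `{1, z}` of order two -/
structure IsCover {C : Type*} [Group C] {n : ℕ} (π : C →* alternatingGroup (Fin n)) (z : C) :
    Prop where
  z_ne : z ≠ 1
  z_mul : z * z = 1
  z_comm : ∀ x, x * z = z * x
  surj : Function.Surjective π
  ker : ∀ x, π x = 1 ↔ x = 1 ∨ x = z
  nonsplit : ∀ s : alternatingGroup (Fin n) →* C, ¬ ∀ g, π (s g) = g

section basic

variable {C : Type*} [Group C] {n : ℕ} {π : C →* alternatingGroup (Fin n)} {z : C}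

theorem IsCover.eq_or_of_map_eq (h : IsCover π z) {x y : C} (hxy : π x = π y) :
    x = y ∨ x = y * z := by
  have h1 : π (y⁻¹ * x) = 1 := by rw [map_mul, map_inv, hxy, inv_mul_cancel]
  rcases (h.ker _).1 h1 with h2 | h2
  · left; exact (inv_mul_eq_one.1 h2).symm
  · right; rw [← h2, mul_inv_cancel_left]

theorem IsCover.map_z (h : IsCover π z) : π z = 1 := (h.ker z).2 (Or.inr rfl)

theorem IsCover.mem_center (h : IsCover π z) : z ∈ center C :=
  mem_center_iff.2 fun x => h.z_comm x

theorem IsCover.z_pow_three (h : IsCover π z) : z ^ 3 = z := by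
  rw [pow_succ, pow_two, h.z_mul, one_mul]

theorem IsCover.mul_z_pow_three (h : IsCover π z) (x : C) : (x * z) ^ 3 = x ^ 3 * z := by
  have : Commute x z := h.z_comm x
  rw [this.mul_pow, h.z_pow_three]

/-- an element with cube one is determined by its image -/
theorem IsCover.eq_of_cube (h : IsCover π z) {x y : C} (hx : x ^ 3 = 1) (hy : y ^ 3 = 1)
    (hxy : π x = π y) : x = y := by
  rcases h.eq_or_of_map_eq hxy with h1 | h1
  · exact h1
  · exfalso
    rw [h1, h.mul_z_pow_three, hy, one_mul] at hx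
    exact h.z_ne hx

/-- existence of lifts with cube one -/
theorem IsCover.exists_cube (h : IsCover π z) {a : alternatingGroup (Fin n)} (ha : a ^ 3 = 1) :
    ∃ x : C, x ^ 3 = 1 ∧ π x = a := by
  obtain ⟨y, rfl⟩ := h.surj a
  rw [← map_pow] at ha
  rcases (h.ker _).1 ha with h1 | h1
  · exact ⟨y, h1, rfl⟩
  · refine ⟨y * z, ?_, ?_⟩
    · rw [h.mul_z_pow_three, h1, h.z_mul]
    · rw [map_mul, h.map_z, mul_one]

/-- The data of a non-split double cover in the sense of the prelude. -/
theorem exists_isCover (h : Cfsg.IsNonsplitDoubleCover C (alternatingGroup (Fin n))) :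
    ∃ (π : C →* alternatingGroup (Fin n)) (z : C), IsCover π z ∧
      (∀ x, x ∈ center C ↔ x = 1 ∨ x = z) := by
  obtain ⟨h2, ⟨e⟩, h3⟩ := h
  obtain ⟨z, hz1, hz2⟩ := (Nat.card_eq_two_iff' (1 : center C)).1 h2
  have hc : ∀ x, x ∈ center C ↔ x = 1 ∨ x = (z : C) := by
    intro x
    constructor
    · intro hx
      by_cases hx1 : x = 1
      · exact Or.inl hx1
      · right
        have := hz2 ⟨x, hx⟩ (fun h => hx1 (congrArg Subtype.val h))
        exact congrArg Subtype.val this
    · rintro (rfl | rfl)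
      · exact one_mem _
      · exact z.2
  have hz1' : (z : C) ≠ 1 := fun h => hz1 (Subtype.ext h)
  have hzz : (z : C) * z = 1 := by
    rcases (hc (z * z)).1 (mul_mem z.2 z.2) with h | h
    · exact h
    · exfalso
      exact hz1' (mul_eq_left.1 h)
  let π : C →* alternatingGroup (Fin n) := e.toMonoidHom.comp (QuotientGroup.mk' (center C))
  have hker : ∀ x, π x = 1 ↔ x = 1 ∨ x = (z : C) := by
    intro x
    change e (x : C ⧸ center C) = 1 ↔ _
    rw [e.map_eq_one_iff, QuotientGroup.eq_one_iff, hc]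
  refine ⟨π, z, ⟨hz1', hzz, fun x => mem_center_iff.1 z.2 x,
    e.surjective.comp (QuotientGroup.mk'_surjective _), hker, ?_⟩, hc⟩
  intro s hs
  refine h3 s.range (isComplement'_of_disjoint_and_mul_eq_univ ?_ ?_)
  · rw [Subgroup.disjoint_def]
    rintro x hx ⟨g, rfl⟩
    have h4 := hs g
    rw [(hker (s g)).2 ((hc _).1 hx)] at h4
    rw [← h4, map_one]
  · rw [Set.eq_univ_iff_forall]
    intro x
    have h4 : x * (s (π x))⁻¹ ∈ center C := by
      rw [hc, ← hker, map_mul, map_inv, hs, mul_inv_cancel]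
    exact Set.mem_mul.2 ⟨_, h4, s (π x), ⟨_, rfl⟩, by group⟩

end basic

section uniqueness

variable {m : ℕ}

/-- the Carmichael generators as elements of the alternating group -/
def cy (m : ℕ) (i : ℕ) (hi : i < m) : alternatingGroup (Fin (m + 2)) := ⟨cyc m i, cyc_mem m i hi⟩

theorem cy_cube {i : ℕ} (hi : i < m) : cy m i hi ^ 3 = 1 :=
  Subtype.ext ((rel_cyc m).cube i hi)

theorem cy_sq {i j : ℕ} (hi : i < m) (hj : j < m) (hij : i ≠ j) : (cy m i hi * cy m j hj) ^ 2 = 1 :=
  Subtype.ext ((rel_cyc m).sq i hi j hj hij)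

/-- homs out of the alternating group agreeing on the Carmichael generators are equal -/
theorem hom_ext {H : Type*} [Group H] (hm : 1 ≤ m) {f g : alternatingGroup (Fin (m + 2)) →* H}
    (h : ∀ i (hi : i < m), f (cy m i hi) = g (cy m i hi)) : f = g := by
  have key : ∀ x ∈ gen m (cyc m), ∀ hx : x ∈ alternatingGroup (Fin (m + 2)), f ⟨x, hx⟩ = g ⟨x, hx⟩ := by
    intro x hx
    rw [gen_def] at hx
    induction hx using Subgroup.closure_induction with
    | one => intro _; exact (map_one f).trans (map_one g).symm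
    | mem x hx =>
      obtain ⟨i, hi, rfl⟩ := hx
      intro _
      exact h i hi
    | mul x y hx' hy' hx hy =>
      intro hxy
      have hx1 : x ∈ alternatingGroup (Fin (m + 2)) := by
        rw [← gen_cyc m hm, gen_def]; exact hx'
      have hy1 : y ∈ alternatingGroup (Fin (m + 2)) := by
        rw [← gen_cyc m hm, gen_def]; exact hy'
      have e : (⟨x * y, hxy⟩ : alternatingGroup (Fin (m + 2))) = ⟨x, hx1⟩ * ⟨y, hy1⟩ := rfl
      rw [e, map_mul, map_mul, hx hx1, hy hy1]
    | inv x hx' hx =>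
      intro hxi
      have hx1 : x ∈ alternatingGroup (Fin (m + 2)) := by
        rw [← gen_cyc m hm, gen_def]; exact hx'
      have e : (⟨x⁻¹, hxi⟩ : alternatingGroup (Fin (m + 2))) = (⟨x, hx1⟩)⁻¹ := rfl
      rw [e, map_inv, map_inv, hx hx1]
  refine MonoidHom.ext fun x => ?_
  obtain ⟨x, hx⟩ := x
  refine key x ?_ hx
  rw [gen_cyc m hm]
  exact hx

/-- an even permutation fixing the last two points and moving one pair of the others to another one,
up to the order -/
theorem exists_move {i j k l : ℕ} (hi : i < m) (hj : j < m) (hij : i ≠ j) (hk : k < m) (hl : l < m)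
    (hkl : k ≠ l) : ∃ ρ : alternatingGroup (Fin (m + 2)),
      (ρ * cy m i hi * ρ⁻¹ = cy m k hk ∧ ρ * cy m j hj * ρ⁻¹ = cy m l hl) ∨
      (ρ * cy m i hi * ρ⁻¹ = cy m l hl ∧ ρ * cy m j hj * ρ⁻¹ = cy m k hk) := by
  classical
  set I := Fin.ofNat (m + 2) i with hI
  set J := Fin.ofNat (m + 2) j with hJ
  set K := Fin.ofNat (m + 2) k with hK
  set L := Fin.ofNat (m + 2) l with hL
  set a := Fin.ofNat (m + 2) m with ha
  set b := Fin.ofNat (m + 2) (m + 1) with hb
  have hIJ : I ≠ J := ofNat_ne (by omega) (by omega) hij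
  have hKL : K ≠ L := ofNat_ne (by omega) (by omega) hkl
  have hIa : I ≠ a := ofNat_ne (by omega) (by omega) (by omega)
  have hIb : I ≠ b := ofNat_ne (by omega) (by omega) (by omega)
  have hJa : J ≠ a := ofNat_ne (by omega) (by omega) (by omega)
  have hJb : J ≠ b := ofNat_ne (by omega) (by omega) (by omega)
  have hKa : K ≠ a := ofNat_ne (by omega) (by omega) (by omega)
  have hKb : K ≠ b := ofNat_ne (by omega) (by omega) (by omega)
  have hLa : L ≠ a := ofNat_ne (by omega) (by omega) (by omega)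
  have hLb : L ≠ b := ofNat_ne (by omega) (by omega) (by omega)
  set ρ₁ : Equiv.Perm (Fin (m + 2)) := Equiv.swap I K with hρ₁
  set ρ₀ : Equiv.Perm (Fin (m + 2)) := Equiv.swap (ρ₁ J) L * ρ₁ with hρ₀
  have h1I : ρ₁ I = K := Equiv.swap_apply_left _ _
  have h1a : ρ₁ a = a := Equiv.swap_apply_of_ne_of_ne hIa.symm hKa.symm
  have h1b : ρ₁ b = b := Equiv.swap_apply_of_ne_of_ne hIb.symm hKb.symm
  have h0J : ρ₀ J = L := by rw [hρ₀, Equiv.Perm.mul_apply, Equiv.swap_apply_left]
  have hJK : K ≠ ρ₁ J := by rw [← h1I]; exact fun h => hIJ (ρ₁.injective h)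
  have h0I : ρ₀ I = K := by
    rw [hρ₀, Equiv.Perm.mul_apply, h1I, Equiv.swap_apply_of_ne_of_ne hJK hKL]
  have h0a : ρ₀ a = a := by
    rw [hρ₀, Equiv.Perm.mul_apply, h1a, Equiv.swap_apply_of_ne_of_ne _ hLa.symm]
    intro h
    rw [← h1a] at h
    exact hJa (ρ₁.injective (h1a ▸ h)).symm
  have h0b : ρ₀ b = b := by
    rw [hρ₀, Equiv.Perm.mul_apply, h1b, Equiv.swap_apply_of_ne_of_ne _ hLb.symm]
    intro h
    rw [← h1b] at h
    exact hJb (ρ₁.injective (h1b ▸ h)).symm
  have hconj : ∀ (ρ : Equiv.Perm (Fin (m + 2))) (c d : ℕ), ρ a = a → ρ b = b →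
      ρ (Fin.ofNat (m + 2) c) = Fin.ofNat (m + 2) d → ρ * cyc m c * ρ⁻¹ = cyc m d := by
    intro ρ c d h1 h2 h3
    have e1 := Equiv.swap_apply_apply ρ (Fin.ofNat (m + 2) c) a
    have e2 := Equiv.swap_apply_apply ρ a b
    rw [h1, h3] at e1
    rw [h1, h2] at e2
    rw [cyc_def, cyc_def, ← ha, ← hb]
    calc ρ * (Equiv.swap (Fin.ofNat (m + 2) c) a * Equiv.swap a b) * ρ⁻¹
        = (ρ * Equiv.swap (Fin.ofNat (m + 2) c) a * ρ⁻¹) * (ρ * Equiv.swap a b * ρ⁻¹) := by group
      _ = Equiv.swap (Fin.ofNat (m + 2) d) a * Equiv.swap a b := by rw [← e1, ← e2]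
  by_cases hs : Equiv.Perm.sign ρ₀ = 1
  · refine ⟨⟨ρ₀, Equiv.Perm.mem_alternatingGroup.2 hs⟩, Or.inl ⟨?_, ?_⟩⟩
    · exact Subtype.ext (hconj ρ₀ i k h0a h0b h0I)
    · exact Subtype.ext (hconj ρ₀ j l h0a h0b h0J)
  · have hs' : Equiv.Perm.sign ρ₀ = -1 := (Int.units_eq_one_or _).resolve_left hs
    have h2a : (Equiv.swap K L * ρ₀) a = a := by
      rw [Equiv.Perm.mul_apply, h0a, Equiv.swap_apply_of_ne_of_ne hKa.symm hLa.symm]
    have h2b : (Equiv.swap K L * ρ₀) b = b := by
      rw [Equiv.Perm.mul_apply, h0b, Equiv.swap_apply_of_ne_of_ne hKb.symm hLb.symm]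
    refine ⟨⟨Equiv.swap K L * ρ₀, Equiv.Perm.mem_alternatingGroup.2 ?_⟩, Or.inr ⟨?_, ?_⟩⟩
    · rw [map_mul, hs', Equiv.Perm.sign_swap hKL]; rfl
    · refine Subtype.ext (hconj _ i l h2a h2b ?_)
      rw [Equiv.Perm.mul_apply, ← hI, h0I, Equiv.swap_apply_left]
    · refine Subtype.ext (hconj _ j k h2a h2b ?_)
      rw [Equiv.Perm.mul_apply, ← hJ, h0J, Equiv.swap_apply_right]

variable {C : Type*} [Group C] {π : C →* alternatingGroup (Fin (m + 2))} {z : C}

/-- In a non-split double cover the products of two Carmichael generators have square `z`. -/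
theorem IsCover.sq_eq (h : IsCover π z) (hm : 3 ≤ m) {i j : ℕ} (hi : i < m) (hj : j < m)
    (hij : i ≠ j) {x y : C} (hx : x ^ 3 = 1) (hx' : π x = cy m i hi) (hy : y ^ 3 = 1)
    (hy' : π y = cy m j hj) : (x * y) ^ 2 = z := by
  have h0 : π ((x * y) ^ 2) = 1 := by rw [map_pow, map_mul, hx', hy', cy_sq hi hj hij]
  rcases (h.ker _).1 h0 with h1 | h1
  swap
  · exact h1
  exfalso
  -- all the pairs have square one
  choose X hX3 hXπ using fun (k : Fin m) => h.exists_cube (cy_cube k.2)
  have hall : ∀ k l (hk : k < m) (hl : l < m), k ≠ l → (X ⟨k, hk⟩ * X ⟨l, hl⟩) ^ 2 = 1 := by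
    intro k l hk hl hkl
    obtain ⟨ρ, hρ⟩ := exists_move hi hj hij hk hl hkl
    obtain ⟨g, rfl⟩ := h.surj ρ
    have hc : ∀ (u : C), u ^ 3 = 1 → (g * u * g⁻¹) ^ 3 = 1 := by
      intro u hu
      rw [conj_pow, hu, mul_one, mul_inv_cancel]
    have hsq : (g * x * g⁻¹ * (g * y * g⁻¹)) ^ 2 = 1 := by
      have : g * x * g⁻¹ * (g * y * g⁻¹) = g * (x * y) * g⁻¹ := by group
      rw [this, conj_pow, h1, mul_one, mul_inv_cancel]
    rcases hρ with ⟨e1, e2⟩ | ⟨e1, e2⟩
    · have f1 : g * x * g⁻¹ = X ⟨k, hk⟩ := by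
        refine h.eq_of_cube (hc x hx) (hX3 _) ?_
        rw [map_mul, map_mul, map_inv, hx', e1, hXπ]
      have f2 : g * y * g⁻¹ = X ⟨l, hl⟩ := by
        refine h.eq_of_cube (hc y hy) (hX3 _) ?_
        rw [map_mul, map_mul, map_inv, hy', e2, hXπ]
      rw [← f1, ← f2]; exact hsq
    · have f1 : g * x * g⁻¹ = X ⟨l, hl⟩ := by
        refine h.eq_of_cube (hc x hx) (hX3 _) ?_
        rw [map_mul, map_mul, map_inv, hx', e1, hXπ]
      have f2 : g * y * g⁻¹ = X ⟨k, hk⟩ := by
        refine h.eq_of_cube (hc y hy) (hX3 _) ?_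
        rw [map_mul, map_mul, map_inv, hy', e2, hXπ]
      rw [← f1, ← f2]; exact swap_rel hsq
  have hrel : Rel m (fun k => if hk : k < m then X ⟨k, hk⟩ else 1) := by
    constructor
    · intro k hk
      simp only [dif_pos hk]
      exact hX3 _
    · intro k hk l hl hkl
      simp only [dif_pos hk, dif_pos hl]
      exact hall k l hk hl hkl
  obtain ⟨s, hs⟩ := exists_hom (by omega) hrel
  refine h.nonsplit s fun g => ?_
  have : π.comp s = MonoidHom.id _ := by
    refine hom_ext (by omega) fun k hk => ?_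
    rw [MonoidHom.comp_apply, MonoidHom.id_apply]
    have e : s (cy m k hk) = X ⟨k, hk⟩ := by
      have := hs k hk
      simp only [dif_pos hk] at this
      exact this
    rw [e, hXπ]
  exact DFunLike.congr_fun this g

/-- **Uniqueness** of the non-split double cover of `A_n`, `n ≥ 5`. -/
theorem exists_mulEquiv_aux (hm : 3 ≤ m) {C₁ C₂ : Type*} [Group C₁] [Group C₂]
    {π₁ : C₁ →* alternatingGroup (Fin (m + 2))} {z₁ : C₁} (h₁ : IsCover π₁ z₁)
    {π₂ : C₂ →* alternatingGroup (Fin (m + 2))} {z₂ : C₂} (h₂ : IsCover π₂ z₂) :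
    ∃ e : C₁ ≃* C₂, (∀ x, π₂ (e x) = π₁ x) ∧ e z₁ = z₂ := by
  classical
  set N : Subgroup (C₁ × C₂) := zpowers (z₁, z₂) with hN
  have hNz : (z₁, z₂) * (z₁, z₂) = (1 : C₁ × C₂) := Prod.ext h₁.z_mul h₂.z_mul
  have hmemN : ∀ p : C₁ × C₂, p ∈ N ↔ p = 1 ∨ p = (z₁, z₂) := by
    intro p
    constructor
    · intro hp
      obtain ⟨k, hk⟩ := mem_zpowers_iff.1 hp
      rcases Int.even_or_odd' k with ⟨l, hl | hl⟩
      · left
        rw [← hk, hl, zpow_mul, zpow_two, hNz, one_zpow]
      · right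
        rw [← hk, hl, zpow_add, zpow_mul, zpow_two, hNz, one_zpow, one_mul, zpow_one]
    · rintro (rfl | rfl)
      · exact one_mem _
      · exact mem_zpowers _
  have hNn : N.Normal := by
    refine ⟨fun p hp g => ?_⟩
    rcases (hmemN p).1 hp with rfl | rfl
    · rw [mul_one, mul_inv_cancel]; exact one_mem _
    · have : g * (z₁, z₂) * g⁻¹ = (z₁, z₂) := by
        refine Prod.ext ?_ ?_
        · change g.1 * z₁ * g.1⁻¹ = z₁
          rw [h₁.z_comm, mul_inv_cancel_right]
        · change g.2 * z₂ * g.2⁻¹ = z₂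
          rw [h₂.z_comm, mul_inv_cancel_right]
      rw [this]; exact mem_zpowers _
  choose X hX3 hXπ using fun (k : Fin m) => h₁.exists_cube (cy_cube k.2)
  choose Y hY3 hYπ using fun (k : Fin m) => h₂.exists_cube (cy_cube k.2)
  let q : C₁ × C₂ →* (C₁ × C₂) ⧸ N := QuotientGroup.mk' N
  have hq : ∀ p, q p = 1 ↔ p = 1 ∨ p = (z₁, z₂) := by
    intro p
    rw [← hmemN]
    exact QuotientGroup.eq_one_iff p
  have hrel : Rel m (fun k => if hk : k < m then q (X ⟨k, hk⟩, Y ⟨k, hk⟩) else 1) := by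
    constructor
    · intro k hk
      simp only [dif_pos hk]
      rw [← map_pow, hq]
      left
      exact Prod.ext (hX3 _) (hY3 _)
    · intro k hk l hl hkl
      simp only [dif_pos hk, dif_pos hl]
      rw [← map_mul, ← map_pow, hq]
      right
      exact Prod.ext (h₁.sq_eq hm hk hl hkl (hX3 _) (hXπ _) (hX3 _) (hXπ _))
        (h₂.sq_eq hm hk hl hkl (hY3 _) (hYπ _) (hY3 _) (hYπ _))
  obtain ⟨s, hs⟩ := exists_hom (by omega) hrel
  have hs' : ∀ k (hk : k < m), s (cy m k hk) = q (X ⟨k, hk⟩, Y ⟨k, hk⟩) := by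
    intro k hk
    have := hs k hk
    simp only [dif_pos hk] at this
    exact this
  -- the two projections
  have hN1 : N ≤ (π₁.comp (MonoidHom.fst C₁ C₂)).ker := by
    intro p hp
    rw [MonoidHom.mem_ker]
    rcases (hmemN p).1 hp with rfl | rfl
    · exact map_one _
    · exact h₁.map_z
  have hN2 : N ≤ (π₂.comp (MonoidHom.snd C₁ C₂)).ker := by
    intro p hp
    rw [MonoidHom.mem_ker]
    rcases (hmemN p).1 hp with rfl | rfl
    · exact map_one _
    · exact h₂.map_z
  have key1 : ∀ p g, q p = s g → π₁ p.1 = g := by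
    have hc : (QuotientGroup.lift N (π₁.comp (MonoidHom.fst C₁ C₂)) hN1).comp s =
        MonoidHom.id _ := by
      refine hom_ext (by omega) fun k hk => ?_
      rw [MonoidHom.comp_apply, hs']
      exact hXπ ⟨k, hk⟩
    intro p g hp
    have h1 := DFunLike.congr_fun hc g
    rw [MonoidHom.comp_apply, ← hp] at h1
    exact h1
  have key2 : ∀ p g, q p = s g → π₂ p.2 = g := by
    have hc : (QuotientGroup.lift N (π₂.comp (MonoidHom.snd C₁ C₂)) hN2).comp s =
        MonoidHom.id _ := by
      refine hom_ext (by omega) fun k hk => ?_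
      rw [MonoidHom.comp_apply, hs']
      exact hYπ ⟨k, hk⟩
    intro p g hp
    have h1 := DFunLike.congr_fun hc g
    rw [MonoidHom.comp_apply, ← hp] at h1
    exact h1
  -- the graph
  let Γ : Subgroup (C₁ × C₂) := s.range.comap q
  have hΓz : (z₁, z₂) ∈ Γ := ⟨1, by rw [map_one]; exact ((hq _).2 (Or.inr rfl)).symm⟩
  let f₁ : Γ →* C₁ := (MonoidHom.fst C₁ C₂).comp Γ.subtype
  let f₂ : Γ →* C₂ := (MonoidHom.snd C₁ C₂).comp Γ.subtype
  have hΓ : ∀ g, ∃ p ∈ Γ, π₁ p.1 = g ∧ π₂ p.2 = g := by
    intro g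
    obtain ⟨p, hp⟩ := QuotientGroup.mk'_surjective N (s g)
    exact ⟨p, ⟨g, hp.symm⟩, key1 p g hp, key2 p g hp⟩
  have hf₁ : Function.Bijective f₁ := by
    constructor
    · rw [injective_iff_map_eq_one]
      rintro ⟨⟨a, b⟩, g, hg⟩ hab
      have ha : a = 1 := hab
      subst ha
      have h1 := key1 (1, b) g hg.symm
      rw [map_one] at h1
      rw [← h1, map_one] at hg
      rcases (hq (1, b)).1 hg.symm with h2 | h2
      · exact Subtype.ext h2
      · exact absurd (congrArg Prod.fst h2).symm h₁.z_ne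
    · intro x
      obtain ⟨p, hp, hp1, -⟩ := hΓ (π₁ x)
      rcases h₁.eq_or_of_map_eq hp1.symm with h1 | h1
      · exact ⟨⟨p, hp⟩, h1.symm⟩
      · exact ⟨⟨p * (z₁, z₂), mul_mem hp hΓz⟩, h1.symm⟩
  have hf₂ : Function.Bijective f₂ := by
    constructor
    · rw [injective_iff_map_eq_one]
      rintro ⟨⟨a, b⟩, g, hg⟩ hab
      have hb : b = 1 := hab
      subst hb
      have h1 := key2 (a, 1) g hg.symm
      rw [map_one] at h1
      rw [← h1, map_one] at hg
      rcases (hq (a, 1)).1 hg.symm with h2 | h2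
      · exact Subtype.ext h2
      · exact absurd (congrArg Prod.snd h2).symm h₂.z_ne
    · intro x
      obtain ⟨p, hp, -, hp2⟩ := hΓ (π₂ x)
      rcases h₂.eq_or_of_map_eq hp2.symm with h1 | h1
      · exact ⟨⟨p, hp⟩, h1.symm⟩
      · exact ⟨⟨p * (z₁, z₂), mul_mem hp hΓz⟩, h1.symm⟩
  let e₁ : Γ ≃* C₁ := MulEquiv.ofBijective f₁ hf₁
  let e₂ : Γ ≃* C₂ := MulEquiv.ofBijective f₂ hf₂
  have he : ∀ p : Γ, (e₁.symm.trans e₂) p.1.1 = p.1.2 := by
    intro p
    have h1 : e₁.symm (p.1.1) = p := e₁.symm_apply_eq.2 rfl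
    rw [MulEquiv.trans_apply, h1]
    rfl
  refine ⟨e₁.symm.trans e₂, fun x => ?_, he ⟨(z₁, z₂), hΓz⟩⟩
  obtain ⟨⟨p, g, hg⟩, rfl⟩ := hf₁.2 x
  have h1 := he ⟨p, g, hg⟩
  change π₂ ((e₁.symm.trans e₂) p.1) = π₁ p.1
  rw [h1, key1 p g hg.symm]
  exact key2 p g hg.symm

end uniqueness

/-- **Uniqueness** of the non-split double cover of `A_n`, `n ≥ 5`. -/
theorem exists_mulEquiv {n : ℕ} (hn : 5 ≤ n) {C₁ C₂ : Type*} [Group C₁] [Group C₂]
    {π₁ : C₁ →* alternatingGroup (Fin n)} {z₁ : C₁} (h₁ : IsCover π₁ z₁)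
    {π₂ : C₂ →* alternatingGroup (Fin n)} {z₂ : C₂} (h₂ : IsCover π₂ z₂) :
    ∃ e : C₁ ≃* C₂, (∀ x, π₂ (e x) = π₁ x) ∧ e z₁ = z₂ := by
  obtain ⟨m, rfl⟩ : ∃ m, n = m + 2 := ⟨n - 2, by omega⟩
  exact exists_mulEquiv_aux (by omega) h₁ h₂

section model

open Cfsg.Agent.CharactersDeep.DoubleCover
open Equiv

variable {n : ℕ}

/-- the lift of the transposition `(i j)` in the double cover of `S_n` (`1` if `i = j`) -/
def T (i j : Fin n) : cover n := if h : i = j then 1 else ⟨(tu i j h, swap i j), tu_mem_cover i j h⟩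

theorem T_of_ne {i j : Fin n} (h : i ≠ j) : T i j = ⟨(tu i j h, swap i j), tu_mem_cover i j h⟩ :=
  dif_neg h

theorem proj_T {i j : Fin n} (h : i ≠ j) : proj n (T i j) = swap i j := by
  rw [T_of_ne h]; rfl

theorem ext_val {x y : cover n} (h1 : (((x : (E n)ˣ × Perm (Fin n)).1 : (E n)ˣ) : E n) =
    (((y : (E n)ˣ × Perm (Fin n)).1 : (E n)ˣ) : E n)) (h2 : proj n x = proj n y) : x = y :=
  Subtype.ext (Prod.ext (Units.ext h1) h2)

theorem val_mul (x y : cover n) : (((x * y : cover n) : (E n)ˣ × Perm (Fin n)).1 : E n) =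
    ((x : (E n)ˣ × Perm (Fin n)).1 : E n) * ((y : (E n)ˣ × Perm (Fin n)).1 : E n) := rfl

theorem val_zz : (((zz n : cover n) : (E n)ˣ × Perm (Fin n)).1 : E n) = -1 := rfl

theorem val_one : (((1 : cover n) : (E n)ˣ × Perm (Fin n)).1 : E n) = 1 := rfl

theorem val_T {i j : Fin n} (h : i ≠ j) : ((T i j : (E n)ˣ × Perm (Fin n)).1 : E n) = t i j := by
  rw [T_of_ne h]; rfl

theorem proj_zz : proj n (zz n) = 1 := rfl

theorem T_mul_self {i j : Fin n} (h : i ≠ j) : T i j * T i j = 1 := by
  refine ext_val ?_ ?_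
  · rw [val_mul, val_T h, t_mul_self h, val_one]
  · rw [map_mul, proj_T h, swap_mul_self, map_one]

theorem T_symm {i j : Fin n} (h : i ≠ j) : T j i = zz n * T i j := by
  refine ext_val ?_ ?_
  · rw [val_mul, val_T h, val_T h.symm, val_zz, t_def, t_def]
    noncomm_ring
  · rw [map_mul, proj_T h, proj_T h.symm, proj_zz, one_mul, swap_comm]

/-- conjugation of the lifts of transpositions by even elements -/
theorem conj_T_even {x : cover n} (hx : Perm.sign (proj n x) = 1) {i j : Fin n} (h : i ≠ j) :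
    x * T i j * x⁻¹ = T (proj n x i) (proj n x j) := by
  have h' : proj n x i ≠ proj n x j := fun e => h ((proj n x).injective e)
  rw [mul_inv_eq_iff_eq_mul]
  refine ext_val ?_ ?_
  · rw [val_mul, val_mul, val_T h, val_T h']
    have := mul_t (x := (x : (E n)ˣ × Perm (Fin n)).1) (σ := proj n x) x.2 i j
    rw [hx, one_smul] at this
    exact this
  · rw [map_mul, map_mul, proj_T h, proj_T h', swap_apply_apply]
    group

/-- conjugation of the lifts of transpositions by odd elements -/
theorem conj_T_odd {x : cover n} (hx : Perm.sign (proj n x) = -1) {i j : Fin n} (h : i ≠ j) :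
    x * T i j * x⁻¹ = zz n * T (proj n x i) (proj n x j) := by
  have h' : proj n x i ≠ proj n x j := fun e => h ((proj n x).injective e)
  rw [mul_inv_eq_iff_eq_mul]
  refine ext_val ?_ ?_
  · rw [val_mul, val_mul, val_mul, val_T h, val_T h', val_zz]
    have := mul_t (x := (x : (E n)ˣ × Perm (Fin n)).1) (σ := proj n x) x.2 i j
    rw [hx, neg_one_units_smul] at this
    rw [this]
    noncomm_ring
  · rw [map_mul, map_mul, map_mul, proj_T h, proj_T h', proj_zz, one_mul, swap_apply_apply]
    group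

/-- lifts of disjoint transpositions anticommute -/
theorem T_mul_T_disjoint {i j k l : Fin n} (hij : i ≠ j) (hkl : k ≠ l) (hik : i ≠ k) (hil : i ≠ l)
    (hjk : j ≠ k) (hjl : j ≠ l) : T i j * T k l = zz n * (T k l * T i j) := by
  have h1 := conj_T_odd (x := T i j) (by rw [proj_T hij, Perm.sign_swap hij]) hkl
  rw [proj_T hij, swap_apply_of_ne_of_ne hik.symm hjk.symm,
    swap_apply_of_ne_of_ne hil.symm hjl.symm, mul_inv_eq_iff_eq_mul] at h1
  rw [h1, mul_assoc]

theorem zz_central (x : cover n) : x * zz n = zz n * x := zz_comm x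

/-- the model: the preimage of the alternating group in the double cover of the symmetric group -/
def model (n : ℕ) : Subgroup (cover n) := (alternatingGroup (Fin n)).comap (proj n)

theorem mem_model {x : cover n} : x ∈ model n ↔ Perm.sign (proj n x) = 1 :=
  Perm.mem_alternatingGroup

/-- the projection of the model -/
def mproj (n : ℕ) : model n →* alternatingGroup (Fin n) :=
  ((proj n).comp (model n).subtype).codRestrict _ fun x => x.2

theorem coe_mproj (x : model n) : ((mproj n x : alternatingGroup (Fin n)) : Perm (Fin n)) =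
    proj n (x : cover n) := rfl

/-- the central involution of the model -/
def mz (n : ℕ) : model n := ⟨zz n, mem_model.2 (by rw [proj_zz, map_one])⟩

theorem coe_mz : (mz n : cover n) = zz n := rfl

theorem isCover_model (hn : 4 ≤ n) : IsCover (mproj n) (mz n) where
  z_ne := fun h => zz_ne_one (congrArg Subtype.val h)
  z_mul := Subtype.ext zz_mul_self
  z_comm x := Subtype.ext (zz_comm _)
  surj := by
    rintro ⟨σ, hσ⟩
    obtain ⟨x, rfl⟩ := proj_surjective (n := n) σ
    exact ⟨⟨x, hσ⟩, rfl⟩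
  ker := by
    intro x
    constructor
    · intro hx
      have h1 : proj n (x : cover n) = 1 := by rw [← coe_mproj, hx]; rfl
      rcases eq_one_or_eq_zz_of_proj_eq_one h1 with h2 | h2
      · exact Or.inl (Subtype.ext h2)
      · exact Or.inr (Subtype.ext h2)
    · rintro (rfl | rfl)
      · exact map_one _
      · exact Subtype.ext proj_zz
  nonsplit := by
    intro s hs
    obtain ⟨k, rfl⟩ : ∃ k, n = k + 4 := ⟨n - 4, by omega⟩
    have hne : ∀ i j : ℕ, i < 4 → j < 4 → i ≠ j →
        (Fin.ofNat (k + 4) i) ≠ Fin.ofNat (k + 4) j := by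
      intro i j hi hj hij h
      have := congrArg Fin.val h
      simp only [Fin.ofNat, Nat.mod_eq_of_lt (show i < k + 4 by omega),
        Nat.mod_eq_of_lt (show j < k + 4 by omega)] at this
      exact hij this
    generalize ha : Fin.ofNat (k + 4) 0 = a
    generalize hb : Fin.ofNat (k + 4) 1 = b
    generalize hc : Fin.ofNat (k + 4) 2 = c
    generalize hd : Fin.ofNat (k + 4) 3 = d
    have hab : a ≠ b := by rw [← ha, ← hb]; exact hne _ _ (by omega) (by omega) (by omega)
    have hac : a ≠ c := by rw [← ha, ← hc]; exact hne _ _ (by omega) (by omega) (by omega)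
    have had : a ≠ d := by rw [← ha, ← hd]; exact hne _ _ (by omega) (by omega) (by omega)
    have hbc : b ≠ c := by rw [← hb, ← hc]; exact hne _ _ (by omega) (by omega) (by omega)
    have hbd : b ≠ d := by rw [← hb, ← hd]; exact hne _ _ (by omega) (by omega) (by omega)
    have hcd : c ≠ d := by rw [← hc, ← hd]; exact hne _ _ (by omega) (by omega) (by omega)
    have hs1 : ∀ {p q r s : Fin (k + 4)}, p ≠ q → r ≠ s →
        swap p q * swap r s ∈ alternatingGroup (Fin (k + 4)) := by
      intro p q r s h1 h2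
      rw [Perm.mem_alternatingGroup, map_mul, Perm.sign_swap h1, Perm.sign_swap h2]; rfl
    obtain ⟨x, hx⟩ : ∃ x : cover (k + 4), x = T a b * T c d := ⟨_, rfl⟩
    obtain ⟨y, hy⟩ : ∃ y : cover (k + 4), y = T a c * T b d := ⟨_, rfl⟩
    have hpx : proj _ x = swap a b * swap c d := by rw [hx, map_mul, proj_T hab, proj_T hcd]
    have hpy : proj _ y = swap a c * swap b d := by rw [hy, map_mul, proj_T hac, proj_T hbd]
    -- `x` and `y` anticommute
    have hxy : x * y = zz _ * (y * x) := by
      have hsx : Perm.sign (proj _ x) = 1 := by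
        rw [hpx]; exact Perm.mem_alternatingGroup.1 (hs1 hab hcd)
      have e1 := conj_T_even hsx hac
      have e2 := conj_T_even hsx hbd
      have pa : proj _ x a = b := by
        rw [hpx, Perm.mul_apply, swap_apply_of_ne_of_ne hac had, swap_apply_left]
      have pb : proj _ x b = a := by
        rw [hpx, Perm.mul_apply, swap_apply_of_ne_of_ne hbc hbd, swap_apply_right]
      have pc : proj _ x c = d := by
        rw [hpx, Perm.mul_apply, swap_apply_left, swap_apply_of_ne_of_ne had.symm hbd.symm]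
      have pd : proj _ x d = c := by
        rw [hpx, Perm.mul_apply, swap_apply_right, swap_apply_of_ne_of_ne hac.symm hbc.symm]
      rw [pa, pc] at e1
      rw [pb, pd] at e2
      have e3 : x * y * x⁻¹ = zz _ * y := by
        calc x * y * x⁻¹ = (x * T a c * x⁻¹) * (x * T b d * x⁻¹) := by rw [hy]; group
          _ = T b d * T a c := by rw [e1, e2]
          _ = zz _ * (T a c * T b d) :=
            T_mul_T_disjoint hbd hac hab.symm hbc had.symm hcd.symm
          _ = zz _ * y := by rw [hy]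
      rw [mul_inv_eq_iff_eq_mul] at e3
      rw [e3, mul_assoc]
    set α : alternatingGroup (Fin (k + 4)) := ⟨_, hs1 hab hcd⟩ with hα
    set β : alternatingGroup (Fin (k + 4)) := ⟨_, hs1 hac hbd⟩ with hβ
    have hαβ : α * β = β * α := by
      refine Subtype.ext ?_
      change swap a b * swap c d * (swap a c * swap b d) =
        swap a c * swap b d * (swap a b * swap c d)
      have h1 := congrArg (proj (k + 4)) hxy
      rw [map_mul, map_mul, map_mul, proj_zz, one_mul, hpx, hpy] at h1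
      exact h1
    have hsα : ((s α : model (k + 4)) : cover (k + 4)) = x ∨
        ((s α : model (k + 4)) : cover (k + 4)) = x * zz _ := by
      have h1 : proj _ (x⁻¹ * (s α : cover (k + 4))) = 1 := by
        rw [map_mul, map_inv, hpx, ← coe_mproj, hs, hα, inv_mul_cancel]
      rcases eq_one_or_eq_zz_of_proj_eq_one h1 with h2 | h2
      · left; exact (inv_mul_eq_one.1 h2).symm
      · right; rw [← h2, mul_inv_cancel_left]
    have hsβ : ((s β : model (k + 4)) : cover (k + 4)) = y ∨
        ((s β : model (k + 4)) : cover (k + 4)) = y * zz _ := by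
      have h1 : proj _ (y⁻¹ * (s β : cover (k + 4))) = 1 := by
        rw [map_mul, map_inv, hpy, ← coe_mproj, hs, hβ, inv_mul_cancel]
      rcases eq_one_or_eq_zz_of_proj_eq_one h1 with h2 | h2
      · left; exact (inv_mul_eq_one.1 h2).symm
      · right; rw [← h2, mul_inv_cancel_left]
    have hcomm : ((s α : model (k + 4)) : cover (k + 4)) * (s β : cover (k + 4)) =
        (s β : cover (k + 4)) * (s α : cover (k + 4)) := by
      have := congrArg s hαβ
      rw [map_mul, map_mul] at this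
      exact congrArg Subtype.val this
    have hfin : x * y = y * x := by
      have hz := zz_mul_self (n := k + 4)
      rcases hsα with h1 | h1 <;> rcases hsβ with h2 | h2 <;> rw [h1, h2] at hcomm
      · exact hcomm
      · rw [← mul_assoc, mul_assoc y, ← zz_comm x, ← mul_assoc] at hcomm
        exact mul_right_cancel hcomm
      · rw [mul_assoc x, ← zz_comm y, ← mul_assoc, ← mul_assoc] at hcomm
        exact mul_right_cancel hcomm
      · have e1 : x * zz _ * (y * zz _) = x * y := by
          calc x * zz _ * (y * zz _) = x * (zz _ * y) * zz _ := by group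
            _ = x * (y * zz _) * zz _ := by rw [zz_comm y]
            _ = x * y * (zz _ * zz _) := by group
            _ = x * y := by rw [hz, mul_one]
        have e2 : y * zz _ * (x * zz _) = y * x := by
          calc y * zz _ * (x * zz _) = y * (zz _ * x) * zz _ := by group
            _ = y * (x * zz _) * zz _ := by rw [zz_comm x]
            _ = y * x * (zz _ * zz _) := by group
            _ = y * x := by rw [hz, mul_one]
        rw [e1, e2] at hcomm
        exact hcomm
    rw [hxy] at hfin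
    exact zz_ne_one (mul_eq_right.1 hfin)

/-- A non-split double cover of `A_n`, `n ≥ 5`, is isomorphic over `A_n` to the Clifford model. -/
theorem IsCover.exists_model (hn : 5 ≤ n) {C : Type*} [Group C]
    {π : C →* alternatingGroup (Fin n)} {z : C} (h : IsCover π z) :
    ∃ e : C ≃* model n, (∀ x, mproj n (e x) = π x) ∧ e z = mz n :=
  exists_mulEquiv hn h (isCover_model (by omega))

end model


end Cfsg.Agent.SporadicRecognition.AltCover
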