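import Mathlib
import Cfsg.Agent.Lib.PermNetOrbit

/-!
Simplicity from suborbit lengths: a non-trivial normal subgroup of a group acting faithfully on the orbit of `0`,
with known suborbit lengths, is transitive if no partial sum `1 + n_{i_1} + ... ` divides the group order.
-/

set_option autoImplicit false

namespace Cfsg.Agent.SporadicRecognition.SimpleCrit

variable {G : Type*} [Group G] [Finite G]

omit [Finite G] in
/-- The orbit of `0` under a subgroup has size dividing the order of the subgroup. -/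
theorem ncard_orbit_dvd (φ : G →* Equiv.Perm ℕ) (N : Subgroup G) :
    {p : ℕ | ∃ x ∈ N, φ x 0 = p}.ncard ∣ Nat.card N := by
  let _ : MulAction G ℕ := MulAction.compHom ℕ φ
  have h1 : {p : ℕ | ∃ x ∈ N, φ x 0 = p} = MulAction.orbit N (0 : ℕ) := by
    ext p
    constructor
    · rintro ⟨x, hx, rfl⟩
      exact ⟨⟨x, hx⟩, rfl⟩
    · rintro ⟨⟨x, hx⟩, rfl⟩
      exact ⟨x, hx, rfl⟩
  rw [h1, ← MulAction.index_stabilizer]
  exact Subgroup.index_dvd_card _

/-- A non-trivial normal subgroup is transitive on the orbit of `0`, if the suborbit lengths `n i` are such that no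
proper partial sum (with the trivial suborbit) divides the order of the group. -/
theorem normal_transitive (φ : G →* Equiv.Perm ℕ) {r : ℕ} (A : Fin r → Set ℕ) (n : Fin r → ℕ)
    (hn : ∀ i, (A i).ncard = n i) (hfin : ∀ i, (A i).Finite)
    (hdisj : ∀ i j, i ≠ j → Disjoint (A i) (A j)) (h0 : ∀ i, 0 ∉ A i)
    (htr : ∀ i, ∀ a ∈ A i, ∀ b ∈ A i, ∃ k : G, φ k 0 = 0 ∧ φ k a = b)
    (hcover : ∀ g : G, φ g 0 = 0 ∨ ∃ i, φ g 0 ∈ A i)
    (hfaith : ∀ x : G, (∀ g : G, φ x (φ g 0) = φ g 0) → x = 1)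
    (harith : ∀ I : Finset (Fin r), I.Nonempty → (1 + ∑ i ∈ I, n i) ∣ Nat.card G → I = Finset.univ)
    (N : Subgroup G) [hN : N.Normal] (hne : N ≠ ⊥) : (1 + ∑ i, n i) ∣ Nat.card N := by
  classical
  set O : Set ℕ := {p : ℕ | ∃ x ∈ N, φ x 0 = p} with hO
  have h0O : 0 ∈ O := ⟨1, N.one_mem, by simp⟩
  -- `O` is invariant under the stabiliser of `0`
  have hinv : ∀ k : G, φ k 0 = 0 → ∀ p ∈ O, φ k p ∈ O := by
    rintro k hk p ⟨x, hx, rfl⟩
    refine ⟨k * x * k⁻¹, hN.conj_mem x hx k, ?_⟩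
    have hk' : φ k⁻¹ 0 = 0 := by
      rw [map_inv, Equiv.Perm.inv_eq_iff_eq, hk]
    rw [map_mul, map_mul, Equiv.Perm.mul_apply, Equiv.Perm.mul_apply, hk']
  let I : Finset (Fin r) := Finset.univ.filter fun i => ∃ a ∈ A i, a ∈ O
  have hsub : ∀ i ∈ I, A i ⊆ O := by
    intro i hi b hb
    obtain ⟨a, ha, haO⟩ := (Finset.mem_filter.mp hi).2
    obtain ⟨k, hk, rfl⟩ := htr i a ha b hb
    exact hinv k hk a haO
  have hOeq : O = insert 0 (⋃ i ∈ I, A i) := by
    ext p
    constructor
    · rintro ⟨x, hx, rfl⟩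
      rcases hcover x with h | ⟨i, hi⟩
      · rw [h]; exact Set.mem_insert _ _
      · right
        refine Set.mem_biUnion (x := i) ?_ hi
        exact Finset.mem_filter.mpr ⟨Finset.mem_univ _, _, hi, ⟨x, hx, rfl⟩⟩
    · intro hp
      rcases Set.mem_insert_iff.mp hp with h | h
      · rw [h]; exact h0O
      · obtain ⟨i, hi, hpi⟩ := Set.mem_iUnion₂.mp h
        exact hsub i hi hpi
  have hcard : O.ncard = 1 + ∑ i ∈ I, n i := by
    have hU : (⋃ i ∈ I, A i) = ((I.biUnion fun i => (hfin i).toFinset : Finset ℕ) : Set ℕ) := by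
      ext p; simp
    rw [hOeq, hU, Set.ncard_insert_of_notMem, Set.ncard_coe_finset, Finset.card_biUnion, add_comm]
    · congr 1
      refine Finset.sum_congr rfl fun i _ => ?_
      rw [← hn i, Set.ncard_eq_toFinset_card (A i) (hfin i)]
    · intro i _ j _ hij
      show Disjoint _ _
      rw [Finset.disjoint_left]
      intro p hp hp'
      rw [Set.Finite.mem_toFinset] at hp hp'
      exact Set.disjoint_left.mp (hdisj i j hij) hp hp'
    · intro h
      rw [Finset.mem_coe, Finset.mem_biUnion] at h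
      obtain ⟨i, _, hi⟩ := h
      rw [Set.Finite.mem_toFinset] at hi
      exact h0 i hi
  have hdvd : O.ncard ∣ Nat.card N := ncard_orbit_dvd φ N
  have hI : I.Nonempty := by
    by_contra hI
    rw [Finset.not_nonempty_iff_eq_empty] at hI
    apply hne
    rw [Subgroup.eq_bot_iff_forall]
    intro x hx
    apply hfaith
    intro g
    have h1 : φ (g⁻¹ * x * g) 0 ∈ O := ⟨_, by
      have := hN.conj_mem x hx g⁻¹
      rwa [inv_inv] at this, rfl⟩
    rw [hOeq, hI] at h1
    have h2 : φ (g⁻¹ * x * g) 0 = 0 := by simpa using h1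
    rw [map_mul, map_mul, map_inv, Equiv.Perm.mul_apply, Equiv.Perm.mul_apply, Equiv.Perm.inv_eq_iff_eq] at h2
    exact h2
  have hall := harith I hI (hcard ▸ hdvd.trans (Subgroup.card_subgroup_dvd_card N))
  rw [hcard, hall] at hdvd
  exact hdvd

/-- If the index of a normal subgroup is prime to `p`, then it contains all elements with `x ^ p = 1`. -/
theorem mem_of_pow_eq_one {m p : ℕ} (hp : p.Prime) {N : Subgroup G} [N.Normal] (hm : m ∣ Nat.card N)
    (hpm : ¬ p ∣ Nat.card G / m) {x : G} (hx : x ^ p = 1) : x ∈ N := by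
  have hmG : m ∣ Nat.card G := hm.trans (Subgroup.card_subgroup_dvd_card N)
  have hm0 : m ≠ 0 := fun h => Nat.card_pos.ne' (Nat.eq_zero_of_zero_dvd (h ▸ hmG))
  have hidx : N.index ∣ Nat.card G / m := by
    obtain ⟨c, hc⟩ := hm
    have h1 := N.card_mul_index
    rw [hc] at h1
    refine ⟨c, ?_⟩
    rw [← h1]
    rw [show m * c * N.index = m * (N.index * c) by ring, Nat.mul_div_cancel_left _ (Nat.pos_of_ne_zero hm0)]
  have hcop : Nat.Coprime p N.index :=
    (Nat.Prime.coprime_iff_not_dvd hp).mpr fun h => hpm (h.trans hidx)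
  have h1 : (QuotientGroup.mk' N x) ^ p = 1 := by rw [← map_pow, hx, map_one]
  have h2 : (QuotientGroup.mk' N x) ^ N.index = 1 := by
    have : Nat.card (G ⧸ N) = N.index := rfl
    rw [← this]
    exact pow_card_eq_one'
  have h3 : orderOf (QuotientGroup.mk' N x) ∣ Nat.gcd p N.index :=
    Nat.dvd_gcd (orderOf_dvd_of_pow_eq_one h1) (orderOf_dvd_of_pow_eq_one h2)
  rw [hcop.gcd_eq_one, Nat.dvd_one, orderOf_eq_one_iff] at h3
  exact (QuotientGroup.eq_one_iff x).mp h3

end Cfsg.Agent.SporadicRecognition.SimpleCrit
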