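import Cfsg.Prelude.Def_SporCoxeter
import Cfsg.Agent.SporadicRecognition.CosetChain

/-!
Relator words of groups given by `Cfsg.Spor.CoxPresented`, in the form used by `CosetChain`.
-/

set_option autoImplicit false

namespace Cfsg.Agent.SporadicRecognition.CoxPres

open Cfsg.Agent.SporadicRecognition.CosetCert Cfsg.Agent.SporadicRecognition.CosetCertHyp
  Cfsg.Agent.SporadicRecognition.CosetChain

theorem val_mk {α : Type*} (R : Set (FreeGroup α)) (gn : Nat → α) (e : Ex) :
    e.val (fun n => (PresentedGroup.of (gn n) : PresentedGroup R)) =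
      PresentedGroup.mk R (e.val fun n => FreeGroup.of (gn n)) := by
  induction e with
  | g n => rfl
  | m a b iha ihb => rw [Ex.val, Ex.val, iha, ihb, map_mul]
  | i a iha => rw [Ex.val, Ex.val, iha, map_inv]
  | p a n iha => rw [Ex.val, Ex.val, iha, map_pow]

section cox

variable {α : Type*} [DecidableEq α] {edges : List (α × ℕ × α)} {extra : List (FreeGroup α)}

theorem cox_rel (x y : α) (hx : x ∈ Spor.coxNodes edges) (hy : y ∈ Spor.coxNodes edges) :
    ((PresentedGroup.of x * PresentedGroup.of y : Spor.CoxPresented α edges extra)) ^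
      Spor.coxLabel edges x y = 1 := by
  have h : PresentedGroup.mk (Spor.coxRelators edges ∪ {r | r ∈ extra})
      ((FreeGroup.of x * FreeGroup.of y) ^ Spor.coxLabel edges x y) = 1 := by
    apply PresentedGroup.one_of_mem
    exact Or.inl ⟨x, hx, y, hy, rfl⟩
  rw [map_pow, map_mul] at h
  exact h

theorem extra_rel (gn : Nat → α) (e : Ex) (he : e.val (fun n => FreeGroup.of (gn n)) ∈ extra) :
    e.val (fun n => (PresentedGroup.of (gn n) : Spor.CoxPresented α edges extra)) = 1 := by
  rw [val_mk]
  apply PresentedGroup.one_of_mem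
  exact Or.inr he

/-- Coxeter part of the relator list: triples `(x, y, m)` -/
def coxEx (l : List (Nat × Nat × Nat)) : List Ex :=
  l.map fun t => Ex.p (Ex.m (.g t.1) (.g t.2.1)) t.2.2

theorem coxEx_rel (gn : Nat → α) (l : List (Nat × Nat × Nat))
    (hn : ∀ t ∈ l, gn t.1 ∈ Spor.coxNodes edges ∧ gn t.2.1 ∈ Spor.coxNodes edges ∧
      Spor.coxLabel edges (gn t.1) (gn t.2.1) = t.2.2) :
    ∀ e ∈ coxEx l, e.val (fun n => (PresentedGroup.of (gn n) : Spor.CoxPresented α edges extra)) = 1 := by
  intro e he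
  obtain ⟨t, ht, rfl⟩ := List.mem_map.mp he
  obtain ⟨h1, h2, h3⟩ := hn t ht
  have := cox_rel (extra := extra) (gn t.1) (gn t.2.1) h1 h2
  rw [h3] at this
  exact this

end cox

end Cfsg.Agent.SporadicRecognition.CoxPres
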