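import Cfsg.Prelude.Def_Spor_Suz
import Cfsg.Agent.SporadicRecognition.CoxPres
import Cfsg.Agent.SporadicRecognition.SuzAAll
import Cfsg.Agent.SporadicRecognition.SuzBAll
import Cfsg.Agent.SporadicRecognition.SuzCAll
import Cfsg.Agent.SporadicRecognition.SuzDAll
import Cfsg.Agent.SporadicRecognition.SuzEAll

/-!
The presented Suzuki group is finite of order at most 448345497600 = 1782 * 416 * 280 * 216 * 10.
-/

set_option autoImplicit false
set_option maxRecDepth 100000

namespace Cfsg.Agent.SporadicRecognition.SuzBound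

open Cfsg.Agent.SporadicRecognition.CosetCert Cfsg.Agent.SporadicRecognition.CosetCertHyp
  Cfsg.Agent.SporadicRecognition.CosetChain Cfsg.Agent.SporadicRecognition.CoxPres

/-- numbering of the generators -/
def gn : Nat → Spor.Suz.Gen
  | 0 => .a
  | 1 => .b
  | 2 => .c
  | 3 => .d
  | 4 => .e
  | 5 => .f
  | _ => .g

/-- the generators in the presented group -/
def sg (n : Nat) : Spor.Suz := PresentedGroup.of (gn n)

/-- squares, edges and commuting pairs -/
def cox : List (Nat × Nat × Nat) :=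
  [(0,0,1),(1,1,1),(2,2,1),(3,3,1),(4,4,1),(5,5,1),(6,6,1),
   (0,1,5),(1,2,3),(2,3,8),(3,4,3),(1,5,3),(5,6,4),(1,6,3),
   (0,2,2),(0,3,2),(0,4,2),(0,5,2),(0,6,2),(1,3,2),(1,4,2),(2,4,2),(2,5,2),(2,6,2),(3,5,2),(3,6,2),
   (4,5,2),(4,6,2)]

def extras : List Ex :=
  [.m (.g 0) (.i (.p (.m (.g 2) (.g 3)) 4)),
   .m (.g 0) (.i (.p (.m (.g 5) (.g 6)) 2)),
   .p (.m (.m (.m (.g 0) (.g 1)) (.g 2)) (.g 5)) 5,
   .p (.m (.m (.g 1) (.g 5)) (.g 6)) 5,
   .p (.m (.p (.m (.m (.m (.m (.g 1) (.g 2)) (.g 3)) (.g 2)) (.g 3)) 5) (.g 4)) 3]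

def exs : List Ex := coxEx cox ++ extras

theorem exs_rel : ∀ e ∈ exs, e.val sg = 1 := by
  intro e he
  rcases List.mem_append.mp he with h | h
  · exact coxEx_rel gn cox (by decide) e h
  · refine extra_rel gn e ?_
    simp only [extras, List.mem_cons, List.not_mem_nil, or_false] at h
    rcases h with rfl | rfl | rfl | rfl | rfl
    · exact .head _
    · exact .tail _ (.head _)
    · exact .tail _ (.tail _ (.head _))
    · exact .tail _ (.tail _ (.tail _ (.head _)))
    · exact .tail _ (.tail _ (.tail _ (.tail _ (.head _))))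

theorem sq (x : Nat) (hx : x < 7) : sg x * sg x = 1 := by
  have h : ∀ x < 7, Ex.p (Ex.m (.g x) (.g x)) 1 ∈ exs := by
    intro x hx
    interval_cases x <;> simp [exs, coxEx, cox]
  have := exs_rel _ (h x hx)
  simpa [Ex.val] using this

/-- the relator words -/
def rels : List (List Nat) := exs.map (Ex.word fun x => x)

/-- by definition (so that no unfolding lemma of `Ex.lt` is generated in this file) -/
theorem lt_pw (k n : ℕ) (a : Ex) : (Ex.p a n).lt k ↔ a.lt k := Iff.rfl
theorem lt_iv (k : ℕ) (a : Ex) : (Ex.i a).lt k ↔ a.lt k := Iff.rfl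

theorem exs_lt : ∀ e ∈ exs, e.lt 7 := by
  simp [exs, coxEx, cox, extras, Ex.lt_g, Ex.lt_m, lt_pw, lt_iv]

theorem rels_ev : ∀ r ∈ rels, ev sg r = 1 := by
  intro r hr
  obtain ⟨e, he, rfl⟩ := List.mem_map.mp hr
  rw [Ex.ev_word (k := 7) (fun x hx => ⟨hx, sq x hx⟩) e (exs_lt e he)]
  exact exs_rel e he

theorem cardE : Finite (Subgroup.closure (sg '' {x | x < 2})) ∧
    Nat.card (Subgroup.closure (sg '' {x | x < 2})) ≤ 10 * 1 := by
  have := card_step SuzEData.C sg rels [] ⊥ (fun x hx => ⟨hx, sq x (lt_trans hx (by decide))⟩)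
    (fun r hr _ => rels_ev r hr) (by simp) (by decide +kernel) SuzEAll.part inferInstance
  have h1 : Nat.card (⊥ : Subgroup Spor.Suz) = 1 := by simp
  rw [h1] at this
  exact this

theorem cardD : Finite (Subgroup.closure (sg '' {x | x < 4})) ∧
    Nat.card (Subgroup.closure (sg '' {x | x < 4})) ≤ 216 * (10 * 1) := by
  have := card_step SuzDData.C sg rels [[0],[1]] (Subgroup.closure (sg '' {x | x < 2}))
    (fun x hx => ⟨hx, sq x (lt_trans hx (by decide))⟩)
    (fun r hr _ => rels_ev r hr) (fun s hs _ => sub_letters sg 2 [[0],[1]] (by decide) s hs)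
    (by decide +kernel) SuzDAll.part cardE.1
  exact ⟨this.1, this.2.trans (Nat.mul_le_mul_left _ cardE.2)⟩

theorem cardC : Finite (Subgroup.closure (sg '' {x | x < 5})) ∧
    Nat.card (Subgroup.closure (sg '' {x | x < 5})) ≤ 280 * (216 * (10 * 1)) := by
  have := card_step SuzCData.C sg rels [[0],[1],[2],[3]] (Subgroup.closure (sg '' {x | x < 4}))
    (fun x hx => ⟨hx, sq x (lt_trans hx (by decide))⟩)
    (fun r hr _ => rels_ev r hr) (fun s hs _ => sub_letters sg 4 [[0],[1],[2],[3]] (by decide) s hs)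
    (by decide +kernel) SuzCAll.part cardD.1
  exact ⟨this.1, this.2.trans (Nat.mul_le_mul_left _ cardD.2)⟩

theorem cardB : Finite (Subgroup.closure (sg '' {x | x < 6})) ∧
    Nat.card (Subgroup.closure (sg '' {x | x < 6})) ≤ 416 * (280 * (216 * (10 * 1))) := by
  have := card_step SuzBData.C sg rels [[0],[1],[2],[3],[4]] (Subgroup.closure (sg '' {x | x < 5}))
    (fun x hx => ⟨hx, sq x (lt_trans hx (by decide))⟩)
    (fun r hr _ => rels_ev r hr) (fun s hs _ => sub_letters sg 5 [[0],[1],[2],[3],[4]] (by decide) s hs)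
    (by decide +kernel) SuzBAll.part cardC.1
  exact ⟨this.1, this.2.trans (Nat.mul_le_mul_left _ cardC.2)⟩

theorem cardA : Finite (Subgroup.closure (sg '' {x | x < 7})) ∧
    Nat.card (Subgroup.closure (sg '' {x | x < 7})) ≤ 1782 * (416 * (280 * (216 * (10 * 1)))) := by
  have := card_step SuzAData.C sg rels [[0],[1],[2],[3],[4],[5]] (Subgroup.closure (sg '' {x | x < 6}))
    (fun x hx => ⟨hx, sq x hx⟩)
    (fun r hr _ => rels_ev r hr)
    (fun s hs _ => sub_letters sg 6 [[0],[1],[2],[3],[4],[5]] (by decide) s hs)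
    (by decide +kernel) SuzAAll.part cardB.1
  exact ⟨this.1, this.2.trans (Nat.mul_le_mul_left _ cardB.2)⟩

theorem closure_top : Subgroup.closure (sg '' {x | x < 7}) = ⊤ := by
  rw [eq_top_iff, ← PresentedGroup.closure_range_of]
  apply Subgroup.closure_mono
  rintro _ ⟨x, rfl⟩
  have : ∃ n < 7, gn n = x := by
    cases x
    · exact ⟨0, by decide, rfl⟩
    · exact ⟨1, by decide, rfl⟩
    · exact ⟨2, by decide, rfl⟩
    · exact ⟨3, by decide, rfl⟩
    · exact ⟨4, by decide, rfl⟩
    · exact ⟨5, by decide, rfl⟩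
    · exact ⟨6, by decide, rfl⟩
  obtain ⟨n, hn, rfl⟩ := this
  exact ⟨n, hn, rfl⟩

theorem finite_Suz : Finite Spor.Suz := by
  have h := cardA.1
  rw [closure_top] at h
  exact Finite.of_equiv _ (Subgroup.topEquiv (G := Spor.Suz)).toEquiv

theorem card_Suz_le : Nat.card Spor.Suz ≤ 448345497600 := by
  have h := cardA.2
  rw [closure_top, Nat.card_congr (Subgroup.topEquiv (G := Spor.Suz)).toEquiv] at h
  exact h.trans (by norm_num)

/-- The index of `⟨a, …, f⟩` is at most 1782. -/
theorem index_le : (Subgroup.closure (sg '' {x | x < 6})).index ≤ 1782 :=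
  (CosetCert.index_le SuzAData.C _ (cut sg 7)
    (hyp_restr SuzAData.C sg rels [[0],[1],[2],[3],[4],[5]] (Subgroup.closure (sg '' {x | x < 6}))
      (fun x hx => ⟨hx, sq x hx⟩) (fun r hr _ => rels_ev r hr)
      (fun s hs _ => sub_letters sg 6 [[0],[1],[2],[3],[4],[5]] (by decide) s hs)
      (by decide +kernel)) SuzAAll.part (by
        have : cut sg 7 '' {x | x < SuzAData.C.k} = sg '' {x | x < 7} := image_cut sg 7
        rw [this, closure_top])).2

end Cfsg.Agent.SporadicRecognition.SuzBound
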