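import Cfsg.Agent.SporadicRecognition.SuzPhi
import Cfsg.Agent.SporadicRecognition.SuzBound
import Cfsg.Agent.SporadicRecognition.SimpleCrit

/-!
The presented Suzuki group has order 448345497600 and is simple.
-/

set_option autoImplicit false
set_option maxRecDepth 100000
set_option exponentiation.threshold 4000

namespace Cfsg.Agent.SporadicRecognition.SuzOrder

open Cfsg.Spor Cfsg.Agent.Lib.PermNet Cfsg.Agent.Lib.PermNetOrbit Cfsg.Agent.SporadicRecognition.SuzPhi
  Cfsg.Agent.SporadicRecognition.SuzBound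

/-- element of the presented group given by a word -/
noncomputable def el (w : List Suz.Gen) : Suz := (w.map fun x => (PresentedGroup.of x : Suz)).prod

theorem φ_el (w : List Suz.Gen) : φ (el w) = wperm (wd w) := φ_word w

noncomputable def ws7 : List (List Net) := [wd [.a], wd [.b], wd [.c], wd [.d], wd [.e], wd [.f], wd [.g]]
noncomputable def ws6 : List (List Net) := [wd [.a], wd [.b], wd [.c], wd [.d], wd [.e], wd [.f]]
noncomputable def ws5 : List (List Net) := [wd [.a], wd [.b], wd [.c], wd [.d], wd [.e]]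
noncomputable def ws4 : List (List Net) := [wd [.a], wd [.c], wd [.d], wd [.e],
  wd [.b, .c, .d, .a, .b, .a, .b, .c, .d, .b, .c, .a, .b, .a, .b]]
noncomputable def ws3 : List (List Net) :=
  [wd [.d, .c, .d, .b, .c, .d, .c, .b, .a, .b, .c, .d, .a, .b, .c, .b, .a, .b, .a]]

theorem himg {ws : List (List Net)} (h : ∀ w ∈ ws, ∃ u, wd u = w) : ∀ w ∈ ws, ∃ g, φ g = wperm w := by
  intro w hw
  obtain ⟨u, rfl⟩ := h w hw
  exact ⟨el u, φ_el u⟩

theorem wsok {ws : List (List Net)} (h : ∀ w ∈ ws, ∃ u, wd u = w) : WsOk (2 ^ 11) ws := by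
  intro w hw
  obtain ⟨u, rfl⟩ := h w hw
  exact wd_ok u

theorem ws7_wd : ∀ w ∈ ws7, ∃ u, wd u = w := by
  intro w hw
  simp only [ws7, List.mem_cons, List.not_mem_nil, or_false] at hw
  rcases hw with rfl | rfl | rfl | rfl | rfl | rfl | rfl <;> exact ⟨_, rfl⟩
theorem ws6_wd : ∀ w ∈ ws6, ∃ u, wd u = w := by
  intro w hw
  simp only [ws6, List.mem_cons, List.not_mem_nil, or_false] at hw
  rcases hw with rfl | rfl | rfl | rfl | rfl | rfl <;> exact ⟨_, rfl⟩
theorem ws5_wd : ∀ w ∈ ws5, ∃ u, wd u = w := by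
  intro w hw
  simp only [ws5, List.mem_cons, List.not_mem_nil, or_false] at hw
  rcases hw with rfl | rfl | rfl | rfl | rfl <;> exact ⟨_, rfl⟩
theorem ws4_wd : ∀ w ∈ ws4, ∃ u, wd u = w := by
  intro w hw
  simp only [ws4, List.mem_cons, List.not_mem_nil, or_false] at hw
  rcases hw with rfl | rfl | rfl | rfl | rfl <;> exact ⟨_, rfl⟩
theorem ws3_wd : ∀ w ∈ ws3, ∃ u, wd u = w := by
  intro w hw
  simp only [ws3, List.mem_cons, List.not_mem_nil, or_false] at hw
  rcases hw with rfl; exact ⟨_, rfl⟩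

instance finiteSuz : Finite Suz := finite_Suz

theorem step7 : 1782 * Nat.card (stabL φ [0]) ≤ Nat.card (stabL φ []) :=
  stabL_step_of_check φ (k := 11) [] 0 1782 12 (wsok ws7_wd) (himg ws7_wd) (by decide +kernel)
    (by decide +kernel) (by decide +kernel)

theorem step6 : 416 * Nat.card (stabL φ [1575, 0]) ≤ Nat.card (stabL φ [0]) :=
  stabL_step_of_check φ (k := 11) [0] 1575 416 12 (wsok ws6_wd) (himg ws6_wd) (by decide +kernel)
    (by decide +kernel) (by decide +kernel)

theorem step5 : 315 * Nat.card (stabL φ [1, 1575, 0]) ≤ Nat.card (stabL φ [1575, 0]) :=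
  stabL_step_of_check φ (k := 11) [1575, 0] 1 315 12 (wsok ws5_wd) (himg ws5_wd) (by decide +kernel)
    (by decide +kernel) (by decide +kernel)

theorem step4 : 640 * Nat.card (stabL φ [98, 1, 1575, 0]) ≤ Nat.card (stabL φ [1, 1575, 0]) :=
  stabL_step_of_check φ (k := 11) [1, 1575, 0] 98 640 15 (wsok ws4_wd) (himg ws4_wd) (by decide +kernel)
    (by decide +kernel) (by decide +kernel)

theorem step3 : 3 * Nat.card (stabL φ [14, 98, 1, 1575, 0]) ≤ Nat.card (stabL φ [98, 1, 1575, 0]) :=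
  stabL_step_of_check φ (k := 11) [98, 1, 1575, 0] 14 3 2 (wsok ws3_wd) (himg ws3_wd) (by decide +kernel)
    (by decide +kernel) (by decide +kernel)

theorem card_mul_le : 448345497600 * Nat.card (stabL φ [14, 98, 1, 1575, 0]) ≤ Nat.card Suz := by
  have h7 := step7
  have h6 := step6
  have h5 := step5
  have h4 := step4
  have h3 := step3
  have h0 : Nat.card (stabL φ []) ≤ Nat.card Suz :=
    Nat.card_le_card_of_injective _ (Subtype.val_injective)
  omega

theorem card_stab : Nat.card (stabL φ [14, 98, 1, 1575, 0]) = 1 := by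
  have h1 := card_mul_le
  have h2 := card_Suz_le
  have h3 : 0 < Nat.card (stabL φ [14, 98, 1, 1575, 0]) := Nat.card_pos
  omega

theorem card_Suz : Nat.card Suz = 448345497600 := by
  have h1 := card_mul_le
  rw [card_stab] at h1
  exact le_antisymm card_Suz_le (by omega)

theorem eq_one_of_fix {x : Suz} (h : ∀ q ∈ [14, 98, 1, 1575, 0], φ x q = q) : x = 1 := by
  have h1 : x ∈ stabL φ [14, 98, 1, 1575, 0] := h
  have h2 : stabL φ [14, 98, 1, 1575, 0] = ⊥ := Subgroup.eq_bot_of_card_eq _ card_stab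
  rw [h2] at h1
  exact h1

theorem φ_injective : Function.Injective φ := by
  rw [injective_iff_map_eq_one]
  intro x hx
  apply eq_one_of_fix
  intro q _
  rw [hx]; rfl

/-! ### Suborbits -/

/-- the points `1, …, 1365` -/
noncomputable def U1 : ℕ := Nat.sub (Nat.pow 2 1366) 2
/-- the points `1366, …, 1781` -/
noncomputable def U2 : ℕ := Nat.sub (Nat.pow 2 1782) (Nat.pow 2 1366)
/-- the points `0, …, 1781` -/
noncomputable def U0 : ℕ := Nat.sub (Nat.pow 2 1782) 1

/-- generators of the point stabiliser -/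
def S6 : Set Suz := {g | ∃ w ∈ [[Suz.Gen.a], [.b], [.c], [.d], [.e], [.f]], el w = g}
/-- all generators -/
def S7 : Set Suz := {g | ∃ w ∈ [[Suz.Gen.a], [.b], [.c], [.d], [.e], [.f], [.g]], el w = g}

theorem S6_ws : (∀ g ∈ S6, ∃ w ∈ ws6, wperm w = φ g) ∧ (∀ w ∈ ws6, ∃ g ∈ S6, wperm w = φ g) := by
  constructor
  · rintro g ⟨w, hw, rfl⟩
    refine ⟨wd w, ?_, (φ_el w).symm⟩
    simp only [List.mem_cons, List.not_mem_nil, or_false] at hw
    rcases hw with rfl | rfl | rfl | rfl | rfl | rfl <;> simp [ws6]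
  · intro w hw
    simp only [ws6, List.mem_cons, List.not_mem_nil, or_false] at hw
    rcases hw with rfl | rfl | rfl | rfl | rfl | rfl
    · exact ⟨_, ⟨[.a], by simp, rfl⟩, (φ_el _).symm⟩
    · exact ⟨_, ⟨[.b], by simp, rfl⟩, (φ_el _).symm⟩
    · exact ⟨_, ⟨[.c], by simp, rfl⟩, (φ_el _).symm⟩
    · exact ⟨_, ⟨[.d], by simp, rfl⟩, (φ_el _).symm⟩
    · exact ⟨_, ⟨[.e], by simp, rfl⟩, (φ_el _).symm⟩
    · exact ⟨_, ⟨[.f], by simp, rfl⟩, (φ_el _).symm⟩

theorem S7_ws : (∀ g ∈ S7, ∃ w ∈ ws7, wperm w = φ g) ∧ (∀ w ∈ ws7, ∃ g ∈ S7, wperm w = φ g) := by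
  constructor
  · rintro g ⟨w, hw, rfl⟩
    refine ⟨wd w, ?_, (φ_el w).symm⟩
    simp only [List.mem_cons, List.not_mem_nil, or_false] at hw
    rcases hw with rfl | rfl | rfl | rfl | rfl | rfl | rfl <;> simp [ws7]
  · intro w hw
    simp only [ws7, List.mem_cons, List.not_mem_nil, or_false] at hw
    rcases hw with rfl | rfl | rfl | rfl | rfl | rfl | rfl
    · exact ⟨_, ⟨[.a], by simp, rfl⟩, (φ_el _).symm⟩
    · exact ⟨_, ⟨[.b], by simp, rfl⟩, (φ_el _).symm⟩
    · exact ⟨_, ⟨[.c], by simp, rfl⟩, (φ_el _).symm⟩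
    · exact ⟨_, ⟨[.d], by simp, rfl⟩, (φ_el _).symm⟩
    · exact ⟨_, ⟨[.e], by simp, rfl⟩, (φ_el _).symm⟩
    · exact ⟨_, ⟨[.f], by simp, rfl⟩, (φ_el _).symm⟩
    · exact ⟨_, ⟨[.g], by simp, rfl⟩, (φ_el _).symm⟩

theorem orb1 : {p : ℕ | ∃ x ∈ Subgroup.closure S6, φ x 1 = p} = {p | U1.testBit p = true} :=
  orbit_closure_eq φ S6 (N := 2 ^ 11) (wsok ws6_wd) S6_ws.1 S6_ws.2 (r := 12) (by decide +kernel)
    (by decide +kernel) (by decide +kernel)

theorem orb2 : {p : ℕ | ∃ x ∈ Subgroup.closure S6, φ x 1366 = p} = {p | U2.testBit p = true} :=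
  orbit_closure_eq φ S6 (N := 2 ^ 11) (wsok ws6_wd) S6_ws.1 S6_ws.2 (r := 12) (by decide +kernel)
    (by decide +kernel) (by decide +kernel)

theorem orb0 : {p : ℕ | ∃ x ∈ Subgroup.closure S7, φ x 0 = p} = {p | U0.testBit p = true} :=
  orbit_closure_eq φ S7 (N := 2 ^ 11) (wsok ws7_wd) S7_ws.1 S7_ws.2 (r := 12) (by decide +kernel)
    (by decide +kernel) (by decide +kernel)

theorem closure_S7 : Subgroup.closure S7 = ⊤ := by
  rw [eq_top_iff, ← PresentedGroup.closure_range_of]
  apply Subgroup.closure_mono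
  rintro _ ⟨x, rfl⟩
  refine ⟨[x], ?_, by simp [el]⟩
  cases x <;> simp

theorem fix_S6 : ∀ x ∈ Subgroup.closure S6, φ x 0 = 0 := by
  have h : Subgroup.closure S6 ≤ stabL φ [0] := by
    rw [Subgroup.closure_le]
    rintro g hg q hq
    obtain ⟨w, hw, h⟩ := S6_ws.1 g hg
    rw [← h]
    exact fixAllB_spec (ws := ws6) (qs := [0]) (wsok ws6_wd) (by decide +kernel) q hq w hw
  intro x hx
  exact h hx 0 (by simp)

theorem U0_bits (p : ℕ) : U0.testBit p = decide (p < 1782) := by
  show (2 ^ 1782 - 1).testBit p = _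
  exact Nat.testBit_two_pow_sub_one 1782 p

theorem mem_of_bit {p : ℕ} (h : U0.testBit p = true) :
    p = 0 ∨ U1.testBit p = true ∨ U2.testBit p = true := by
  have h1 : U0 = U1 ||| U2 ||| 1 := by decide +kernel
  rw [h1, Nat.testBit_or, Nat.testBit_or, Bool.or_eq_true, Bool.or_eq_true] at h
  rcases h with (h | h) | h
  · exact Or.inr (Or.inl h)
  · exact Or.inr (Or.inr h)
  · left
    rcases Nat.eq_zero_or_pos p with h2 | h2
    · exact h2
    · exfalso
      have : (1 : ℕ).testBit p = false := Nat.testBit_lt_two_pow (Nat.one_lt_two_pow (by omega))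
      rw [this] at h
      exact absurd h (by simp)

theorem finite_bits (U : ℕ) : {p : ℕ | U.testBit p = true}.Finite := by
  refine (Set.finite_lt_nat U).subset ?_
  intro p hp
  by_contra hc
  have h1 : U < 2 ^ p := lt_of_le_of_lt (not_lt.mp hc) Nat.lt_two_pow_self
  have h2 := Nat.testBit_lt_two_pow h1
  have h3 : U.testBit p = true := hp
  rw [h2] at h3
  exact absurd h3 (by simp)

/-- the suborbits -/
noncomputable def A : Fin 2 → Set ℕ := ![{p | U1.testBit p = true}, {p | U2.testBit p = true}]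

theorem trans_of_orbit {p₀ : ℕ} {V : ℕ} (h : {p : ℕ | ∃ x ∈ Subgroup.closure S6, φ x p₀ = p} =
    {p | V.testBit p = true}) (a : ℕ) (ha : a ∈ {p : ℕ | V.testBit p = true}) (b : ℕ)
    (hb : b ∈ {p : ℕ | V.testBit p = true}) : ∃ k : Suz, φ k 0 = 0 ∧ φ k a = b := by
  rw [← h] at ha hb
  obtain ⟨x, hx, rfl⟩ := ha
  obtain ⟨y, hy, rfl⟩ := hb
  refine ⟨y * x⁻¹, fix_S6 _ (Subgroup.mul_mem _ hy (Subgroup.inv_mem _ hx)), ?_⟩
  rw [← Equiv.Perm.mul_apply, ← map_mul, inv_mul_cancel_right]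

theorem normal_dvd (N : Subgroup Suz) [N.Normal] (hne : N ≠ ⊥) : 1782 ∣ Nat.card N := by
  have h := SimpleCrit.normal_transitive φ A ![1365, 416] ?_ ?_ ?_ ?_ ?_ ?_ ?_ ?_ N hne
  · simpa using h
  · intro i
    fin_cases i
    · exact ncard_testBit (k := 11) (U := U1) (m := 1365) (by decide +kernel) (by decide +kernel)
    · exact ncard_testBit (k := 11) (U := U2) (m := 416) (by decide +kernel) (by decide +kernel)
  · intro i
    fin_cases i
    · exact finite_bits U1
    · exact finite_bits U2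
  · have hd : Disjoint {p : ℕ | U1.testBit p = true} {p : ℕ | U2.testBit p = true} := by
      rw [Set.disjoint_left]
      intro p h1 h2
      have h3 : (U1 &&& U2).testBit p = true := by
        rw [Nat.testBit_and, h1, h2]; rfl
      have h4 : U1 &&& U2 = 0 := by decide +kernel
      rw [h4, Nat.zero_testBit] at h3
      exact absurd h3 (by simp)
    intro i j hij
    fin_cases i <;> fin_cases j
    · exact absurd rfl hij
    · exact hd
    · exact hd.symm
    · exact absurd rfl hij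
  · intro i
    fin_cases i
    · show ¬ (U1.testBit 0 = true)
      decide +kernel
    · show ¬ (U2.testBit 0 = true)
      decide +kernel
  · intro i a ha b hb
    fin_cases i
    · exact trans_of_orbit orb1 a ha b hb
    · exact trans_of_orbit orb2 a ha b hb
  · intro g
    have h1 : φ g 0 ∈ {p : ℕ | ∃ x ∈ Subgroup.closure S7, φ x 0 = p} := ⟨g, by rw [closure_S7]; trivial, rfl⟩
    rw [orb0] at h1
    rcases mem_of_bit h1 with h | h | h
    · exact Or.inl h
    · exact Or.inr ⟨0, h⟩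
    · exact Or.inr ⟨1, h⟩
  · intro x hx
    apply eq_one_of_fix
    intro q hq
    have h1 : U0.testBit q = true := by
      rw [U0_bits, decide_eq_true_eq]
      simp only [List.mem_cons, List.not_mem_nil, or_false] at hq
      omega
    have h2 : q ∈ {p : ℕ | ∃ x ∈ Subgroup.closure S7, φ x 0 = p} := by rw [orb0]; exact h1
    obtain ⟨g, _, rfl⟩ := h2
    exact hx g
  · rw [card_Suz]
    decide

/-! ### Simplicity -/

theorem u11 : (el [.g, .f, .e, .d, .c, .b]) ^ 11 = 1 := by
  apply φ_injective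
  rw [map_pow, φ_el, wperm_wd, ← rp_prod, map_one]
  exact triv_spec (by decide +kernel)

theorem au11 : (el [.a, .g, .f, .e, .d, .c, .b]) ^ 11 = 1 := by
  apply φ_injective
  rw [map_pow, φ_el, wperm_wd, ← rp_prod, map_one]
  exact triv_spec (by decide +kernel)

theorem eq_one_of_sq_odd {M : Type*} [Group M] {x : M} (h2 : x * x = 1) (m : ℕ) (h : x ^ (2 * m + 1) = 1) :
    x = 1 := by
  rw [pow_succ, pow_mul, pow_two, h2, one_pow, one_mul] at h
  exact h

theorem simple : IsSimpleGroup Suz := by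
  have hnt : Nontrivial Suz := by
    rw [← Finite.one_lt_card_iff_nontrivial, card_Suz]
    norm_num
  refine ⟨fun N hN => ?_⟩
  by_cases hne : N = ⊥
  · exact Or.inl hne
  right
  have hdvd := normal_dvd N hne
  have h11 : ¬ 11 ∣ Nat.card Suz / 1782 := by rw [card_Suz]; decide
  have hu := SimpleCrit.mem_of_pow_eq_one (by norm_num : Nat.Prime 11) (N := N) hdvd h11 u11
  have hau := SimpleCrit.mem_of_pow_eq_one (by norm_num : Nat.Prime 11) (N := N) hdvd h11 au11
  have ha : sg 0 ∈ N := by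
    have h1 : el [.a, .g, .f, .e, .d, .c, .b] = sg 0 * el [.g, .f, .e, .d, .c, .b] := by
      simp [el, sg, gn]
    rw [h1] at hau
    exact (Subgroup.mul_mem_cancel_right N hu).mp hau
  -- images in the quotient
  let π := QuotientGroup.mk' N
  have hπ : ∀ x : Suz, π x = 1 ↔ x ∈ N := fun x => QuotientGroup.eq_one_iff x
  have sqq : ∀ i < 7, π (sg i) * π (sg i) = 1 := fun i hi => by rw [← map_mul, sq i hi, map_one]
  have rel : ∀ e ∈ exs, π (e.val sg) = 1 := fun e he => by rw [exs_rel e he, map_one]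
  have h0 : π (sg 0) = 1 := (hπ _).mpr ha
  have h1 : π (sg 1) = 1 := by
    have := rel (.p (.m (.g 0) (.g 1)) 5) (by simp [exs, CoxPres.coxEx, SuzBound.cox])
    simp only [CosetChain.Ex.val, map_pow, map_mul, h0, one_mul] at this
    exact eq_one_of_sq_odd (sqq 1 (by norm_num)) 2 this
  have h2 : π (sg 2) = 1 := by
    have := rel (.p (.m (.g 1) (.g 2)) 3) (by simp [exs, CoxPres.coxEx, SuzBound.cox])
    simp only [CosetChain.Ex.val, map_pow, map_mul, h1, one_mul] at this
    exact eq_one_of_sq_odd (sqq 2 (by norm_num)) 1 this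
  have h5 : π (sg 5) = 1 := by
    have := rel (.p (.m (.g 1) (.g 5)) 3) (by simp [exs, CoxPres.coxEx, SuzBound.cox])
    simp only [CosetChain.Ex.val, map_pow, map_mul, h1, one_mul] at this
    exact eq_one_of_sq_odd (sqq 5 (by norm_num)) 1 this
  have h6 : π (sg 6) = 1 := by
    have := rel (.p (.m (.g 1) (.g 6)) 3) (by simp [exs, CoxPres.coxEx, SuzBound.cox])
    simp only [CosetChain.Ex.val, map_pow, map_mul, h1, one_mul] at this
    exact eq_one_of_sq_odd (sqq 6 (by norm_num)) 1 this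
  have h4 : π (sg 4) = 1 := by
    have := rel (.p (.m (.p (.m (.m (.m (.m (.g 1) (.g 2)) (.g 3)) (.g 2)) (.g 3)) 5) (.g 4)) 3)
      (by simp [exs, extras])
    simp only [CosetChain.Ex.val, map_pow, map_mul, h1, h2, one_mul, mul_one, sqq 3 (by norm_num), one_pow] at this
    exact eq_one_of_sq_odd (sqq 4 (by norm_num)) 1 this
  have h3 : π (sg 3) = 1 := by
    have := rel (.p (.m (.g 3) (.g 4)) 3) (by simp [exs, CoxPres.coxEx, SuzBound.cox])
    simp only [CosetChain.Ex.val, map_pow, map_mul, h4, mul_one] at this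
    exact eq_one_of_sq_odd (sqq 3 (by norm_num)) 1 this
  rw [eq_top_iff, ← closure_top, Subgroup.closure_le]
  rintro _ ⟨i, hi, rfl⟩
  have hi : i < 7 := hi
  rw [SetLike.mem_coe, ← hπ]
  interval_cases i
  · exact h0
  · exact h1
  · exact h2
  · exact h3
  · exact h4
  · exact h5
  · exact h6

end Cfsg.Agent.SporadicRecognition.SuzOrder
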