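import Cfsg.Agent.SporadicRecognition.TwoEmb

set_option autoImplicit false

/-!
Feasible parameters of a strongly regular graph on 100 vertices of valency 22, and on 275 vertices of valency 112.
-/

namespace Cfsg.Agent.SporadicRecognition.HSParam

open Cfsg.Agent.SporadicRecognition.RankThree

variable {V : Type*} [Fintype V] {Γ : SimpleGraph V} [DecidableRel Γ.Adj]

theorem ell_lt {n k ℓ μ : ℕ} (h : Γ.IsSRGWith n k ℓ μ) (hn : 0 < n) (hk : 0 < k) : ℓ < k := by
  classical
  have hV : 0 < Fintype.card V := by rw [h.card]; exact hn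
  obtain ⟨x⟩ := Fintype.card_pos_iff.1 hV
  have hx : 0 < Γ.degree x := by rw [h.regular.degree_eq x]; exact hk
  obtain ⟨y, hy⟩ := (Γ.degree_pos_iff_exists_adj x).1 hx
  have := hy.card_commonNeighbors_lt_degree
  rw [h.of_adj x y hy, h.regular.degree_eq x] at this
  exact this

theorem param_hs {ℓ μ : ℕ} (h : Γ.IsSRGWith 100 22 ℓ μ) : ℓ = 0 ∧ μ = 6 := by
  classical
  have h1 := ell_lt h (by norm_num) (by norm_num)
  have h2 := SimpleGraph.IsSRGWith.param_eq Γ h (by norm_num)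
  have h3 := three_dvd h
  have h4 : 7 ∣ 21 - ℓ := by
    have : 7 ∣ 22 * (22 - ℓ - 1) := ⟨11 * μ, by rw [h2]; ring⟩
    have h5 : 7 ∣ 22 - ℓ - 1 := (Nat.Coprime.dvd_mul_left (by norm_num)).1 this
    rwa [show 22 - ℓ - 1 = 21 - ℓ by omega] at h5
  have h5 : 3 ∣ ℓ := by
    exact (Nat.Coprime.dvd_mul_left (by norm_num)).1 h3
  have h6 : ℓ = 0 ∨ ℓ = 21 := by
    interval_cases ℓ <;> omega
  rcases h6 with rfl | rfl
  · refine ⟨rfl, ?_⟩
    omega
  · exfalso
    have h7 : μ = 0 := by omega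
    subst h7
    have := dvd_of_union_complete (k := 22) h (by norm_num) (by norm_num)
    omega

theorem param_mcl {ℓ μ : ℕ} (h : Γ.IsSRGWith 275 112 ℓ μ) : ℓ = 30 ∧ μ = 56 := by
  classical
  have h1 := ell_lt h (by norm_num) (by norm_num)
  have h2 := SimpleGraph.IsSRGWith.param_eq Γ h (by norm_num)
  have h4 : 81 ∣ 111 - ℓ := by
    have : 81 ∣ 56 * (112 - ℓ - 1) := ⟨μ, by omega⟩
    have h5 : 81 ∣ 112 - ℓ - 1 := (Nat.Coprime.dvd_mul_left (by norm_num)).1 this
    rwa [show 112 - ℓ - 1 = 111 - ℓ by omega] at h5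
  have h6 : ℓ = 30 ∨ ℓ = 111 := by
    obtain ⟨t, ht⟩ := h4
    omega
  rcases h6 with rfl | rfl
  · refine ⟨rfl, ?_⟩
    omega
  · exfalso
    have h7 : μ = 0 := by omega
    subst h7
    have := dvd_of_union_complete (k := 112) h (by norm_num) (by norm_num)
    omega

end Cfsg.Agent.SporadicRecognition.HSParam
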