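import Cfsg.Agent.SporadicRecognition.RankThree

set_option autoImplicit false

/-!
Two subgroups of index two, one of them simple, coincide; the homomorphism from a group with a rank 3 action to the
automorphism group of its graph.
-/

namespace Cfsg.Agent.SporadicRecognition.TwoEmb

open MulAction Cfsg.Agent.SporadicRecognition.RankThree

/-- Two subgroups of index two, the first of them simple of order at least three, coincide. -/
theorem eq_of_index_two {A : Type*} [Group A] [Finite A] (H K : Subgroup A) (hH : H.index = 2)
    (hK : K.index = 2) (hs : IsSimpleGroup H) (hc : 2 < Nat.card H) : H = K := by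
  have hn : K.Normal := Subgroup.normal_of_index_eq_two hK
  have h1 : (K.subgroupOf H).Normal := inferInstance
  rcases hs.eq_bot_or_eq_top_of_normal _ h1 with h2 | h2
  · exfalso
    have h3 : (K.subgroupOf H).index = Nat.card H := by
      rw [h2, Subgroup.index_bot]
    have h4 : K.relIndex H ≤ K.index := by
      have : K.relIndex H ∣ K.index := Subgroup.relIndex_dvd_index_of_normal K H
      exact Nat.le_of_dvd (by omega) this
    rw [Subgroup.relIndex, h3] at h4
    omega
  · have h3 : H ≤ K := by
      rwa [Subgroup.subgroupOf_eq_top] at h2
    have h4 : Nat.card H = Nat.card K := by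
      have e1 := H.card_mul_index
      have e2 := K.card_mul_index
      rw [hH] at e1
      rw [hK] at e2
      omega
    exact Subgroup.eq_of_le_of_card_ge h3 (by omega)

/-- Two groups of the same order `m > 2`, one of them simple, which embed into a group of order `2 m`, are
isomorphic. -/
theorem nonempty_mulEquiv {A G H : Type*} [Group A] [Group G] [Group H] {m : ℕ} (hm : 2 < m)
    (f : G →* A) (hf : Function.Injective f) (g : H →* A) (hg : Function.Injective g)
    (hA : Nat.card A = 2 * m) (hG : Nat.card G = m) (hH : Nat.card H = m) (hs : IsSimpleGroup H) :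
    Nonempty (G ≃* H) := by
  have hfin : Finite A := Nat.finite_of_card_ne_zero (by omega)
  have e1 := MonoidHom.ofInjective hf
  have e2 := MonoidHom.ofInjective hg
  have c1 : Nat.card f.range = m := by rw [← Nat.card_congr e1.toEquiv, hG]
  have c2 : Nat.card g.range = m := by rw [← Nat.card_congr e2.toEquiv, hH]
  have i1 : f.range.index = 2 := by
    have := f.range.card_mul_index
    rw [c1, hA, mul_comm 2 m] at this
    exact Nat.eq_of_mul_eq_mul_left (by omega) this
  have i2 : g.range.index = 2 := by
    have := g.range.card_mul_index
    rw [c2, hA, mul_comm 2 m] at this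
    exact Nat.eq_of_mul_eq_mul_left (by omega) this
  have s2 : IsSimpleGroup g.range := by
    have := hs
    have : Nontrivial g.range := e2.symm.toEquiv.nontrivial
    exact IsSimpleGroup.isSimpleGroup_of_surjective e2.toMonoidHom e2.surjective
  have := eq_of_index_two g.range f.range i2 i1 s2 (by omega)
  exact ⟨e1.trans ((MulEquiv.subgroupCongr this.symm).trans e2.symm)⟩

section Hom

variable {G X : Type*} [Group G] [MulAction G X] [Finite X] {a b c : X} {k l : ℕ}

/-- a group with a rank 3 action acts on the graph. -/
def toAut (h : IsRankThree G a b c k l) : G →* (h.graph ≃g h.graph) where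
  toFun g := ⟨MulAction.toPerm g, fun {x y} => h.adj_smul g⟩
  map_one' := by
    ext x
    exact one_smul G x
  map_mul' g t := by
    ext x
    exact mul_smul g t x

theorem toAut_apply (h : IsRankThree G a b c k l) (g : G) (x : X) : toAut h g x = g • x := rfl

theorem toAut_injective [FaithfulSMul G X] (h : IsRankThree G a b c k l) : Function.Injective (toAut h) := by
  intro g t hgt
  apply eq_of_smul_eq_smul (M := G) (α := X)
  intro x
  rw [← toAut_apply h, ← toAut_apply h, hgt]

/-- conjugation of graph automorphisms by a graph isomorphism. -/
def conj {V W : Type*} {Γ : SimpleGraph V} {Δ : SimpleGraph W} (e : Γ ≃g Δ) : (Γ ≃g Γ) ≃* (Δ ≃g Δ) where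
  toFun φ := (e.symm.trans φ).trans e
  invFun φ := (e.trans φ).trans e.symm
  left_inv φ := by
    ext x
    simp
  right_inv φ := by
    ext x
    simp
  map_mul' φ ψ := by
    ext x
    simp

end Hom

end Cfsg.Agent.SporadicRecognition.TwoEmb
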