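import Cfsg.Prelude.Def_Spor_Conway
import Cfsg.Agent.Leech.Co0Elts
import Cfsg.Agent.SporadicRecognition.TwoEmb

set_option autoImplicit false

/-!
The joint stabiliser in `Co0` of two vectors acting on a set of vectors of the lattice; the Higman–Sims group of
`Def_Spor_Conway` as such a joint stabiliser.
-/

namespace Cfsg.Agent.SporadicRecognition.HSRank

open MulAction Cfsg Cfsg.Agent.Leech.Co0Elts Cfsg.Agent.Leech.Basic Cfsg.Agent.SporadicRecognition.RankThree

/-- the joint stabiliser of two vectors. -/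
abbrev K (v w : ↥leechLattice) : Subgroup ↥Co0 := stabilizer ↥Co0 v ⊓ stabilizer ↥Co0 w

/-- the joint stabiliser in the big symmetric group is isomorphic to the one inside `Co0`. -/
def kEquiv (v w : ↥leechLattice) :
    ↥(Co0 ⊓ stabilizer (Equiv.Perm leechLattice) v ⊓ stabilizer (Equiv.Perm leechLattice) w) ≃* ↥(K v w) where
  toFun g := ⟨⟨g.1, g.2.1.1⟩, g.2.1.2, g.2.2⟩
  invFun g := ⟨g.1.1, ⟨g.1.2, g.2.1⟩, g.2.2⟩
  left_inv _ := rfl
  right_inv _ := rfl
  map_mul' _ _ := rfl

/-- `w = -(v + u')`. -/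
theorem k_eq (v u : ↥leechLattice) : K v u = K v (-(v + u)) := by
  ext g
  simp only [Subgroup.mem_inf, mem_stabilizer_iff]
  constructor
  · rintro ⟨h1, h2⟩
    refine ⟨h1, ?_⟩
    rw [smul_neg_co0, smul_add_co0, h1, h2]
  · rintro ⟨h1, h2⟩
    refine ⟨h1, ?_⟩
    rw [smul_neg_co0, smul_add_co0, h1] at h2
    exact add_left_cancel (neg_injective h2)

/-- `HS` as a joint stabiliser of two vectors of norm 6. -/
def hsEquiv : ↥Cfsg.Spor.HS ≃* ↥(K Spor.leechV (-(Spor.leechV + Spor.leechU'))) :=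
  (kEquiv Spor.leechV Spor.leechU').trans (MulEquiv.subgroupCongr (k_eq _ _))

theorem norm_v : sqNorm ((Spor.leechV : ↥leechLattice) : GolayPt → ℤ) = 48 := by
  show sqNorm Spor.vecV = 48
  decide

theorem norm_w : sqNorm ((-(Spor.leechV + Spor.leechU') : ↥leechLattice) : GolayPt → ℤ) = 48 := by
  show sqNorm (-(Spor.vecV + Spor.vecU')) = 48
  decide

theorem dot_vw : dotInt ((Spor.leechV : ↥leechLattice) : GolayPt → ℤ)
    ((-(Spor.leechV + Spor.leechU') : ↥leechLattice) : GolayPt → ℤ) = -32 := by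
  show dotInt Spor.vecV (-(Spor.vecV + Spor.vecU')) = -32
  decide

end Cfsg.Agent.SporadicRecognition.HSRank
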