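import Cfsg.Agent.SporadicRecognition.TwoEmb

set_option autoImplicit false

/-!
A rank 3 action from a transitive set of points with a relation.
-/

namespace Cfsg.Agent.SporadicRecognition.RankThreeOf

open MulAction Cfsg.Agent.SporadicRecognition.RankThree

variable {H Y : Type*} [Group H] [MulAction H Y]

/-- the action of a subgroup on an invariant set. -/
@[reducible] def act (K : Subgroup H) (X : Set Y) (hX : ∀ g ∈ K, ∀ x ∈ X, g • x ∈ X) : MulAction ↥K ↥X where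
  smul g x := ⟨(g : H) • (x : Y), hX g g.2 x x.2⟩
  one_smul x := Subtype.ext (one_smul H (x : Y))
  mul_smul g t x := Subtype.ext (mul_smul (g : H) (t : H) (x : Y))

theorem exists_isRankThree (K : Subgroup H) (X : Set Y) (hX : ∀ g ∈ K, ∀ x ∈ X, g • x ∈ X) {k l : ℕ}
    (hcard : X.ncard = 1 + k + l) (hk : 1 < k) (hl : 1 < l) (hkl : k ≠ l) (x0 : ↥X) (P : Y → Prop)
    (htr : ∀ x ∈ X, ∀ x' ∈ X, ∃ g ∈ K, g • x = x')
    (hinv : ∀ g ∈ K, g • (x0 : Y) = x0 → ∀ y, P y → P (g • y)) (hP0 : ¬ P x0)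
    (hP : {y | y ∈ X ∧ P y}.ncard = k) (hP' : {y | y ∈ X ∧ y ≠ x0 ∧ ¬ P y}.ncard = l)
    (h3 : ∀ y ∈ X, ∀ y' ∈ X, y ≠ x0 → y' ≠ x0 → (P y ↔ P y') → ∃ g ∈ K, g • (x0 : Y) = x0 ∧ g • y = y') :
    letI := act K X hX
    ∃ b c : ↥X, @IsRankThree ↥K ↥X _ (act K X hX) (Set.finite_of_ncard_pos (by omega)).to_subtype x0 b c k l := by
  letI := act K X hX
  have hfin : X.Finite := Set.finite_of_ncard_pos (by omega)
  have hf : Finite ↥X := hfin.to_subtype
  have coe_smul : ∀ (g : ↥K) (x : ↥X), ((g • x : ↥X) : Y) = (g : H) • (x : Y) := fun _ _ => rfl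
  have hinv' : ∀ g ∈ K, g • (x0 : Y) = x0 → ∀ y, P (g • y) → P y := by
    intro g hg h0 y hy
    have := hinv g⁻¹ (K.inv_mem hg) (by rw [inv_smul_eq_iff, h0]) _ hy
    rwa [inv_smul_smul] at this
  obtain ⟨b, hb, hPb⟩ : ∃ b ∈ X, P b := by
    have : {y | y ∈ X ∧ P y}.Nonempty := by
      rw [← Set.ncard_pos (hfin.subset fun y hy => hy.1)]
      omega
    obtain ⟨b, hb⟩ := this
    exact ⟨b, hb.1, hb.2⟩
  obtain ⟨c, hc, hc0, hPc⟩ : ∃ c ∈ X, c ≠ x0 ∧ ¬ P c := by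
    have : {y | y ∈ X ∧ y ≠ x0 ∧ ¬ P y}.Nonempty := by
      rw [← Set.ncard_pos (hfin.subset fun y hy => hy.1)]
      omega
    obtain ⟨b, hb⟩ := this
    exact ⟨b, hb.1, hb.2⟩
  have hb0 : b ≠ x0 := by
    rintro rfl
    exact hP0 hPb
  refine ⟨⟨b, hb⟩, ⟨c, hc⟩, ?_, ?_, ?_, ?_, hk, hl, hkl⟩
  · constructor
    intro x y
    obtain ⟨g, hg, h⟩ := htr x x.2 y y.2
    exact ⟨⟨g, hg⟩, Subtype.ext h⟩
  · rw [Nat.card_coe_set_eq, hcard]
  · have : Subtype.val '' (orbit (stabilizer (↥K) x0) (⟨b, hb⟩ : ↥X)) = {y | y ∈ X ∧ P y} := by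
      ext y
      constructor
      · rintro ⟨z, ⟨⟨g, hg⟩, rfl⟩, rfl⟩
        refine ⟨Subtype.mem _, ?_⟩
        exact hinv g g.2 (congrArg Subtype.val hg) b hPb
      · rintro ⟨hy, hPy⟩
        have hy0 : y ≠ x0 := by
          rintro rfl
          exact hP0 hPy
        obtain ⟨g, hg, h1, h2⟩ := h3 b hb y hy hb0 hy0 (by simp [hPb, hPy])
        refine ⟨⟨y, hy⟩, ⟨⟨⟨g, hg⟩, Subtype.ext h1⟩, Subtype.ext h2⟩, rfl⟩
    rw [← hP, ← this, Set.ncard_image_of_injective _ Subtype.val_injective]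
  · have : Subtype.val '' (orbit (stabilizer (↥K) x0) (⟨c, hc⟩ : ↥X)) = {y | y ∈ X ∧ y ≠ x0 ∧ ¬ P y} := by
      ext y
      constructor
      · rintro ⟨z, ⟨⟨g, hg⟩, rfl⟩, rfl⟩
        refine ⟨Subtype.mem _, ?_, ?_⟩
        · intro h
          apply hc0
          have h1 : (g : H) • (c : Y) = x0 := h
          have h2 : (g : H) • (x0 : Y) = x0 := congrArg Subtype.val hg
          exact smul_left_cancel (g : H) (h1.trans h2.symm)
        · intro h
          exact hPc (hinv' g g.2 (congrArg Subtype.val hg) c h)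
      · rintro ⟨hy, hy0, hPy⟩
        obtain ⟨g, hg, h1, h2⟩ := h3 c hc y hy hc0 hy0 (by simp [hPc, hPy])
        refine ⟨⟨y, hy⟩, ⟨⟨⟨g, hg⟩, Subtype.ext h1⟩, Subtype.ext h2⟩, rfl⟩
    rw [← hP', ← this, Set.ncard_image_of_injective _ Subtype.val_injective]

/-- a nontrivial action of a simple group is faithful. -/
theorem faithful_of_simple {G X : Type*} [Group G] [MulAction G X] (hs : IsSimpleGroup G) {x y : X} {g : G}
    (hg : g • x = y) (hxy : x ≠ y) : FaithfulSMul G X := by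
  have h1 : (MulAction.toPermHom G X).ker = ⊥ ∨ (MulAction.toPermHom G X).ker = ⊤ :=
    hs.eq_bot_or_eq_top_of_normal _ inferInstance
  rcases h1 with h1 | h1
  · constructor
    intro g t h
    have : Function.Injective (MulAction.toPermHom G X) := (MonoidHom.ker_eq_bot_iff _).1 h1
    apply this
    ext z
    exact h z
  · exfalso
    have : g ∈ (MulAction.toPermHom G X).ker := by rw [h1]; exact Subgroup.mem_top _
    rw [MonoidHom.mem_ker] at this
    apply hxy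
    rw [← hg]
    have h2 := congrArg (fun p => p x) this
    exact h2.symm

end Cfsg.Agent.SporadicRecognition.RankThreeOf
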