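import Mathlib

/-!
Certified coset enumeration (upper bound for the order of a group generated by elements satisfying given relators),
static certificate with time stamps, temporary cosets and coincidences.

All functions evaluated by the kernel are written with raw recursors so that node numbers are always literals
(hence the kernel's cache of weak head normal forms is shared between walks).
-/

set_option autoImplicit false
set_option linter.unusedSectionVars false
set_option linter.unusedVariables false

namespace Cfsg.Agent.SporadicRecognition.CosetCert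

/-- search tree with `Nat` leaves; `N m l r`: indices `< m` are in `l`, indices `≥ m` in `r` -/
inductive Tr where
  | L : Nat → Tr
  | N : Nat → Tr → Tr → Tr

/-- search tree whose leaves are words: `L x w` says `g x = ev w` -/
inductive WT where
  | L : Nat → List Nat → WT
  | N : Nat → WT → WT → WT

/-- search tree whose leaves are pairs of words: `L x u v` says `ev u * g x * (ev v)⁻¹ ∈ H` -/
inductive ST where
  | L : Nat → List Nat → List Nat → ST
  | N : Nat → ST → ST → ST

noncomputable def Tr.get (t : Tr) (i : Nat) : Nat :=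
  Tr.rec (motive := fun _ => Nat) (fun n => n)
    (fun m _ _ a b => Bool.rec a b (Nat.ble m i)) t

noncomputable def WT.use (t : WT) (p : Nat) (f : Nat → List Nat → Bool) : Bool :=
  WT.rec (motive := fun _ => Bool) (fun x w => f x w)
    (fun m _ _ a b => Bool.rec a b (Nat.ble m p)) t

noncomputable def ST.use (t : ST) (p : Nat) (f : Nat → List Nat → List Nat → Bool) : Bool :=
  ST.rec (motive := fun _ => Bool) (fun x u v => f x u v)
    (fun m _ _ a b => Bool.rec a b (Nat.ble m p)) t

/-- A certificate. `k` = number of letters, letter `k` stands for the identity (coincidences). -/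
structure Cert where
  data : Tr
  lm : Nat      -- leaf mask
  rb : Nat      -- bits per node
  fb : Nat      -- bits per field
  mask : Nat    -- 2^fb - 1
  B : Nat       -- 2^b
  k : Nat
  N : Nat
  inv : Nat → Nat
  words : WT
  subs : ST

variable (C : Cert)

/-- field `x` of node `i` : `time * B + (target + 1)`, or `mask` if undefined. -/
noncomputable def look (i x : Nat) : Nat :=
  Nat.land (Nat.shiftRight (C.data.get i)
    (Nat.add (Nat.mul (Nat.land i C.lm) C.rb) (Nat.add 4 (Nat.mul x C.fb)))) C.mask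

/-- the letter leading to the parent of node `i` -/
noncomputable def yOf (i : Nat) : Nat :=
  Nat.land (Nat.shiftRight (C.data.get i) (Nat.mul (Nat.land i C.lm) C.rb)) 15

/-- normalise `c` using coincidences of value `≤ τ`: result is `c' + 1`, or 0 on failure -/
noncomputable def normF (τ : Nat) (fuel : Nat) : Nat → Nat :=
  Nat.rec (motive := fun _ => Nat → Nat) (fun _ => 0)
    (fun _ ih c => Bool.rec (Nat.succ c)
      (Nat.rec (motive := fun _ => Nat) 0 (fun j _ => ih j) (Nat.mod (look C c C.k) C.B))
      (Nat.ble (look C c C.k) τ)) fuel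

/-- one step: from `c` by letter `x`, then normalise; result is `c' + 1`, or 0 on failure -/
noncomputable def stepS (τ : Nat) (c x : Nat) : Nat :=
  Bool.rec 0 (Nat.rec (motive := fun _ => Nat) 0 (fun j _ => normF C τ 40 j) (Nat.mod (look C c x) C.B))
    (Nat.ble (look C c x) τ)

/-- walk a word: result is `c' + 1`, or 0 on failure -/
noncomputable def walkS (τ : Nat) (w : List Nat) : Nat → Nat :=
  List.rec (motive := fun _ => Nat → Nat) (fun c => Nat.succ c)
    (fun x _ ih c => Nat.rec (motive := fun _ => Nat) 0 (fun j _ => ih j) (stepS C τ c x)) w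

/-- checks the entry `(i, x) ↦ j`, using only entries of value `≤ τ`.
kinds: 0 DEF, 1 REV, 2 WALK, 3 TRANS, 4 SUB, 5 WALKR, 6 CONF -/
noncomputable def kinds (i x j τ kd p : Nat) : Bool :=
  Nat.rec (motive := fun _ => Bool)
    -- 0: DEF
    (Nat.beq x (yOf C i) && Nat.blt j i && Nat.blt x C.k)
    (fun kd _ => Nat.rec (motive := fun _ => Bool)
      -- 1: REV
      (Nat.beq (stepS C τ j (C.inv x)) (Nat.succ i) && Nat.blt x C.k)
      (fun kd _ => Nat.rec (motive := fun _ => Bool)
        -- 2: WALK
        (C.words.use p (fun x' w => Nat.beq x' x && Nat.beq (walkS C τ w i) (Nat.succ j)))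
        (fun kd _ => Nat.rec (motive := fun _ => Bool)
          -- 3: TRANS
          (Nat.rec (motive := fun _ => Bool) false
            (fun u _ => Nat.blt u C.N && Nat.beq (normF C τ 40 u) (Nat.succ i) &&
              Nat.beq (stepS C τ u x) (Nat.succ j)) (Nat.succ p))
          (fun kd _ => Nat.rec (motive := fun _ => Bool)
            -- 4: SUB
            (C.subs.use p (fun x' u v => Nat.beq x' x && Nat.beq (walkS C τ u 0) (Nat.succ i) &&
              Nat.beq (walkS C τ v 0) (Nat.succ j)))
            (fun kd _ => Nat.rec (motive := fun _ => Bool)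
              -- 5: WALKR
              (Nat.beq x C.k && C.words.use p (fun x' w => Nat.beq x' x &&
                Nat.beq (walkS C τ w j) (Nat.succ i)))
              (fun _ _ =>
                -- 6: CONF
                Nat.beq x C.k && Nat.blt (Nat.land p 15) C.k &&
                Nat.rec (motive := fun _ => Bool) false (fun s _ =>
                  Nat.rec (motive := fun _ => Bool) false (fun s2 _ =>
                    Nat.blt s C.N && Nat.blt s2 C.N &&
                    Nat.rec (motive := fun _ => Bool) false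
                      (fun a _ => Nat.beq (normF C τ 40 s2) (Nat.succ a)) (normF C τ 40 s) &&
                    Nat.beq (stepS C τ s (Nat.land p 15)) (Nat.succ i) &&
                    Nat.beq (stepS C τ s2 (Nat.land p 15)) (Nat.succ j))
                    (Nat.succ (Nat.div (Nat.shiftRight p 4) C.B)))
                  (Nat.succ (Nat.mod (Nat.shiftRight p 4) C.B)))
              kd) kd) kd) kd) kd) kd

noncomputable def main (i x q : Nat) : Bool :=
  Nat.rec (motive := fun _ => Bool) false (fun j _ =>
    Nat.rec (motive := fun _ => Bool) false (fun τ _ =>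
      Nat.blt j C.N && kinds C i x j τ (Nat.land q 15) (Nat.shiftRight q 4))
      (Nat.sub (look C i x) (Nat.mod (look C i x) C.B)))
    (Nat.mod (look C i x) C.B)

/-- entry check. `info = 0`: the entry is undefined, only allowed for dead nodes. -/
noncomputable def entryOK (dead : Bool) (i x info : Nat) : Bool :=
  Nat.rec (motive := fun _ => Bool) (dead && Nat.beq (look C i x) C.mask)
    (fun q _ => main C i x q) info

/-- all entries of node `i`; `ci` packs the infos of the chunk, `m` = index of the node in the chunk -/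
noncomputable def rowOK (ib im ci : Nat) (dead : Bool) (i m : Nat) (n : Nat) : Bool :=
  Nat.rec (motive := fun _ => Bool) true
    (fun x ih => entryOK C dead i x (Nat.land (Nat.shiftRight ci (Nat.mul (Nat.add (Nat.mul m C.k) x) ib)) im)
      && ih) n

/-- result: 0 failure, 1 dead and OK, 2 live and OK. `e` = info of the coincidence field -/
noncomputable def nodeOK (ib im ci : Nat) (i m e : Nat) : Nat :=
  Nat.rec (motive := fun _ => Nat)
    (Bool.rec 0 2 (Nat.beq (look C i C.k) C.mask && rowOK C ib im ci false i m C.k))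
    (fun q _ => Bool.rec 0 1 (Nat.ble (Nat.mod (look C i C.k) C.B) i && main C i C.k q &&
      rowOK C ib im ci true i m C.k)) e

/-- result: 0 on failure, otherwise 1 + number of live nodes among `lo, ..., lo + n - 1`. -/
noncomputable def runChunk (ib im ci eb em ce lo : Nat) (n : Nat) : Nat :=
  Nat.rec (motive := fun _ => Nat) 1
    (fun m ih => Nat.rec (motive := fun _ => Nat) 0
      (fun r _ => Nat.rec (motive := fun _ => Nat) 0 (fun a _ => Nat.succ (Nat.add a r)) ih)
      (Nat.rec (motive := fun _ => Nat) 0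
        (fun i _ => nodeOK C ib im ci i m (Nat.land (Nat.shiftRight ce (Nat.mul m eb)) em))
        (Nat.succ (Nat.add lo m)))) n

/-! ### Soundness -/

section sound

variable {G : Type*} [Group G] (H : Subgroup G) (g : Nat → G) (t : Nat → G)

/-- `H a = H b` -/
def Rel (a b : G) : Prop := a * b⁻¹ ∈ H

variable {H} in
theorem Rel.refl (a : G) : Rel H a a := by simp [Rel, H.one_mem]

variable {H} in
theorem Rel.symm {a b : G} (h : Rel H a b) : Rel H b a := by
  have := H.inv_mem h
  simpa [Rel] using this

variable {H} in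
theorem Rel.trans {a b c : G} (h : Rel H a b) (h' : Rel H b c) : Rel H a c := by
  have := H.mul_mem h h'
  simpa [Rel, mul_assoc] using this

variable {H} in
theorem Rel.mul {a b : G} (h : Rel H a b) (c : G) : Rel H (a * c) (b * c) := by
  simpa [Rel, mul_assoc] using h

/-- value of a word -/
def ev (w : List Nat) : G := (w.map g).prod

theorem ev_nil : ev g [] = 1 := rfl
theorem ev_cons (x : Nat) (w : List Nat) : ev g (x :: w) = g x * ev g w := by simp [ev]
theorem ev_append (u v : List Nat) : ev g (u ++ v) = ev g u * ev g v := by simp [ev]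

/-- the entry `(i, x)` is true -/
def Good (i x : Nat) : Prop :=
  ∀ j, Nat.mod (look C i x) C.B = j + 1 → j < C.N ∧ Rel H (t i * g x) (t j)

theorem normF_sound (hk : g C.k = 1) (τ : Nat)
    (hb : ∀ i x, i < C.N → x ≤ C.k → look C i x ≤ τ → Good C H g t i x) (fuel : Nat) :
    ∀ c c', c < C.N → normF C τ fuel c = c' + 1 → c' < C.N ∧ Rel H (t c) (t c') := by
  induction fuel with
  | zero => intro c c' _ h; simp [normF] at h
  | succ n ih =>
    intro c c' hc h
    have hstep : normF C τ (n + 1) c = Bool.rec (Nat.succ c)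
      (Nat.rec (motive := fun _ => Nat) 0 (fun j _ => normF C τ n j) (Nat.mod (look C c C.k) C.B))
      (Nat.ble (look C c C.k) τ) := rfl
    rw [hstep] at h
    rcases hble : Nat.ble (look C c C.k) τ with _ | _
    · rw [hble] at h
      have : c' = c := by
        have h' : Nat.succ c = c' + 1 := h
        omega
      subst this
      exact ⟨hc, Rel.refl _⟩
    · rw [hble] at h
      have hle : look C c C.k ≤ τ := Nat.le_of_ble_eq_true hble
      have hg := hb c C.k hc le_rfl hle
      rcases hm : Nat.mod (look C c C.k) C.B with _ | j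
      · rw [hm] at h
        exact absurd h (by simp)
      · rw [hm] at h
        obtain ⟨hj, hr⟩ := hg j hm
        obtain ⟨h1, h2⟩ := ih j c' hj h
        refine ⟨h1, ?_⟩
        rw [hk, mul_one] at hr
        exact hr.trans h2

theorem stepS_sound (hk : g C.k = 1) (τ : Nat)
    (hb : ∀ i x, i < C.N → x ≤ C.k → look C i x ≤ τ → Good C H g t i x)
    (c x c' : Nat) (hc : c < C.N) (hx : x ≤ C.k) (h : stepS C τ c x = c' + 1) :
    c' < C.N ∧ Rel H (t c * g x) (t c') := by
  unfold stepS at h
  rcases hble : Nat.ble (look C c x) τ with _ | _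
  · rw [hble] at h
    exact absurd h (by simp)
  · rw [hble] at h
    have hle : look C c x ≤ τ := Nat.le_of_ble_eq_true hble
    have hg := hb c x hc hx hle
    rcases hm : Nat.mod (look C c x) C.B with _ | j
    · rw [hm] at h
      exact absurd h (by simp)
    · rw [hm] at h
      obtain ⟨hj, hr⟩ := hg j hm
      obtain ⟨h1, h2⟩ := normF_sound C H g t hk τ hb 40 j c' hj h
      exact ⟨h1, hr.trans h2⟩

theorem walkS_sound (hk : g C.k = 1) (τ : Nat)
    (hb : ∀ i x, i < C.N → x ≤ C.k → look C i x ≤ τ → Good C H g t i x)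
    (w : List Nat) (hw : ∀ x ∈ w, x ≤ C.k) :
    ∀ c c', c < C.N → walkS C τ w c = c' + 1 → c' < C.N ∧ Rel H (t c * ev g w) (t c') := by
  induction w with
  | nil =>
    intro c c' hc h
    have h' : Nat.succ c = c' + 1 := h
    have : c' = c := by omega
    subst this
    refine ⟨hc, ?_⟩
    rw [ev_nil, mul_one]
    exact Rel.refl _
  | cons x w ih =>
    intro c c' hc h
    have hstep : walkS C τ (x :: w) c =
      Nat.rec (motive := fun _ => Nat) 0 (fun j _ => walkS C τ w j) (stepS C τ c x) := rfl
    rw [hstep] at h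
    rcases hs : stepS C τ c x with _ | j
    · rw [hs] at h
      exact absurd h (by simp)
    · rw [hs] at h
      obtain ⟨hj, hr⟩ := stepS_sound C H g t hk τ hb c x j hc (hw x (by simp)) hs
      obtain ⟨h1, h2⟩ := ih (fun y hy => hw y (by simp [hy])) j c' hj h
      refine ⟨h1, ?_⟩
      rw [ev_cons, ← mul_assoc]
      exact (hr.mul _).trans h2

/-- property of all leaves of a word tree -/
def WT.All (P : Nat → List Nat → Prop) : WT → Prop
  | .L x w => P x w
  | .N _ l r => WT.All P l ∧ WT.All P r

def ST.All (P : Nat → List Nat → List Nat → Prop) : ST → Prop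
  | .L x u v => P x u v
  | .N _ l r => ST.All P l ∧ ST.All P r

theorem WT.use_sound {P : Nat → List Nat → Prop} {T : WT} (hT : T.All P) {p : Nat}
    {f : Nat → List Nat → Bool} (h : T.use p f = true) : ∃ x w, P x w ∧ f x w = true := by
  induction T with
  | L x w => exact ⟨x, w, hT, h⟩
  | N m l r ihl ihr =>
    have hstep : (WT.N m l r).use p f = Bool.rec (l.use p f) (r.use p f) (Nat.ble m p) := rfl
    rw [hstep] at h
    rcases hb : Nat.ble m p with _ | _
    · rw [hb] at h; exact ihl hT.1 h
    · rw [hb] at h; exact ihr hT.2 h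

theorem ST.use_sound {P : Nat → List Nat → List Nat → Prop} {T : ST} (hT : T.All P) {p : Nat}
    {f : Nat → List Nat → List Nat → Bool} (h : T.use p f = true) :
    ∃ x u v, P x u v ∧ f x u v = true := by
  induction T with
  | L x u v => exact ⟨x, u, v, hT, h⟩
  | N m l r ihl ihr =>
    have hstep : (ST.N m l r).use p f = Bool.rec (l.use p f) (r.use p f) (Nat.ble m p) := rfl
    rw [hstep] at h
    rcases hb : Nat.ble m p with _ | _
    · rw [hb] at h; exact ihl hT.1 h
    · rw [hb] at h; exact ihr hT.2 h

/-- the algebraic hypotheses on the generators -/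
structure Hyp : Prop where
  hk : g C.k = 1
  hinv : ∀ x, x < C.k → C.inv x < C.k ∧ g x * g (C.inv x) = 1
  hwords : C.words.All fun x w => x ≤ C.k ∧ (∀ y ∈ w, y ≤ C.k) ∧ g x = ev g w
  hsubs : C.subs.All fun x u v => x ≤ C.k ∧ (∀ y ∈ u, y ≤ C.k) ∧ (∀ y ∈ v, y ≤ C.k) ∧
    ev g u * g x * (ev g v)⁻¹ ∈ H
  hN : 0 < C.N

/-- the transversal satisfies the defining equations -/
def IsTrans : Prop := t 0 = 1 ∧ ∀ i j, i < C.N → Nat.mod (look C i (yOf C i)) C.B = j + 1 → j < i →
  yOf C i < C.k → t i = t j * g (C.inv (yOf C i))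

open Classical in
/-- a transversal defined by recursion along the parent pointers -/
noncomputable def trans (i : Nat) : G :=
  if h : i < C.N ∧ 0 < Nat.mod (look C i (yOf C i)) C.B ∧ Nat.mod (look C i (yOf C i)) C.B - 1 < i ∧
      yOf C i < C.k then
    trans (Nat.mod (look C i (yOf C i)) C.B - 1) * g (C.inv (yOf C i))
  else 1
termination_by i
decreasing_by exact h.2.2.1

theorem trans_isTrans : IsTrans C g (trans C g) := by
  refine ⟨?_, ?_⟩
  · rw [trans, dif_neg]
    rintro ⟨_, _, h, _⟩
    exact absurd h (by omega)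
  · intro i j hi hj hlt hy
    rw [trans, dif_pos]
    · rw [hj]; rfl
    · refine ⟨hi, ?_, ?_, hy⟩
      · rw [hj]; omega
      · rw [hj]; omega

theorem rec_false_eq {P : Nat → Bool} {n : Nat}
    (h : Nat.rec (motive := fun _ => Bool) false (fun j _ => P j) n = true) :
    ∃ j, n = j + 1 ∧ P j = true := by
  cases n with
  | zero => exact absurd h (by simp)
  | succ m => exact ⟨m, rfl, h⟩

variable (hyp : Hyp C H g) (ht : IsTrans C g t)
include hyp ht

theorem kinds_sound (τ : Nat)
    (hb : ∀ i x, i < C.N → x ≤ C.k → look C i x ≤ τ → Good C H g t i x)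
    (i x j kd p : Nat) (hi : i < C.N) (hx : x ≤ C.k) (hj : j < C.N)
    (hlook : Nat.mod (look C i x) C.B = j + 1)
    (h : kinds C i x j τ kd p = true) : Rel H (t i * g x) (t j) := by
  have hk := hyp.hk
  have key : ∀ y, y < C.k → g (C.inv y) * g y = 1 := fun y hy => by
    have := (hyp.hinv y hy).2
    exact mul_eq_one_iff_eq_inv.mpr (by rw [← mul_eq_one_iff_inv_eq.mp this])
  rcases kd with _ | _ | _ | _ | _ | _ | kd
  · -- DEF
    have h' : (Nat.beq x (yOf C i) && Nat.blt j i && Nat.blt x C.k) = true := h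
    simp only [Bool.and_eq_true] at h'
    obtain ⟨⟨h1, h2⟩, h3⟩ := h'
    have h1 : x = yOf C i := Nat.eq_of_beq_eq_true h1
    have h2 : j < i := Nat.le_of_ble_eq_true h2
    have h3 : x < C.k := Nat.le_of_ble_eq_true h3
    have := ht.2 i j hi (h1 ▸ hlook) h2 (h1 ▸ h3)
    rw [this, ← h1, mul_assoc, key x h3, mul_one]
    exact Rel.refl _
  · -- REV
    have h' : (Nat.beq (stepS C τ j (C.inv x)) (Nat.succ i) && Nat.blt x C.k) = true := h
    simp only [Bool.and_eq_true] at h'
    obtain ⟨h1, h2⟩ := h'
    have h1 : stepS C τ j (C.inv x) = i + 1 := Nat.eq_of_beq_eq_true h1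
    have h2 : x < C.k := Nat.le_of_ble_eq_true h2
    obtain ⟨_, h3⟩ := stepS_sound C H g t hk τ hb j (C.inv x) i hj (hyp.hinv x h2).1.le h1
    have := (h3.mul (g x)).symm
    rwa [mul_assoc, key x h2, mul_one] at this
  · -- WALK
    obtain ⟨x', w, ⟨hx', hw, he⟩, hf⟩ := WT.use_sound hyp.hwords (f := fun x' w => Nat.beq x' x &&
      Nat.beq (walkS C τ w i) (Nat.succ j)) h
    simp only [Bool.and_eq_true] at hf
    have h1 : x' = x := Nat.eq_of_beq_eq_true hf.1
    have h2 : walkS C τ w i = j + 1 := Nat.eq_of_beq_eq_true hf.2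
    obtain ⟨_, h3⟩ := walkS_sound C H g t hk τ hb w hw i j hi h2
    rw [← h1, he]; exact h3
  · -- TRANS
    have h' : (Nat.blt p C.N && Nat.beq (normF C τ 40 p) (Nat.succ i) &&
              Nat.beq (stepS C τ p x) (Nat.succ j)) = true := h
    simp only [Bool.and_eq_true] at h'
    obtain ⟨⟨h1, h2⟩, h3⟩ := h'
    have h1 : p < C.N := Nat.le_of_ble_eq_true h1
    have h2 : normF C τ 40 p = i + 1 := Nat.eq_of_beq_eq_true h2
    have h3 : stepS C τ p x = j + 1 := Nat.eq_of_beq_eq_true h3
    obtain ⟨_, h4⟩ := normF_sound C H g t hk τ hb 40 p i h1 h2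
    obtain ⟨_, h5⟩ := stepS_sound C H g t hk τ hb p x j h1 hx h3
    exact (h4.mul (g x)).symm.trans h5
  · -- SUB
    obtain ⟨x', u, v, ⟨hx', hu, hv, he⟩, hf⟩ := ST.use_sound hyp.hsubs (f := fun x' u v => Nat.beq x' x &&
      Nat.beq (walkS C τ u 0) (Nat.succ i) && Nat.beq (walkS C τ v 0) (Nat.succ j)) h
    simp only [Bool.and_eq_true] at hf
    obtain ⟨⟨h1, h2⟩, h3⟩ := hf
    have h1 : x' = x := Nat.eq_of_beq_eq_true h1
    have h2 : walkS C τ u 0 = i + 1 := Nat.eq_of_beq_eq_true h2
    have h3 : walkS C τ v 0 = j + 1 := Nat.eq_of_beq_eq_true h3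
    obtain ⟨_, h4⟩ := walkS_sound C H g t hk τ hb u hu 0 i hyp.hN h2
    obtain ⟨_, h5⟩ := walkS_sound C H g t hk τ hb v hv 0 j hyp.hN h3
    rw [ht.1, one_mul] at h4 h5
    rw [h1] at he
    have h6 : Rel H (ev g u * g x) (ev g v) := he
    exact ((h4.mul (g x)).symm.trans h6).trans h5
  · -- WALKR
    have h' : (Nat.beq x C.k && C.words.use p (fun x' w => Nat.beq x' x &&
                Nat.beq (walkS C τ w j) (Nat.succ i))) = true := h
    rw [Bool.and_eq_true] at h'
    obtain ⟨h0, h'⟩ := h'
    have h0 : x = C.k := Nat.eq_of_beq_eq_true h0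
    obtain ⟨x', w, ⟨hx', hw, he⟩, hf⟩ := WT.use_sound hyp.hwords (f := fun x' w => Nat.beq x' x &&
      Nat.beq (walkS C τ w j) (Nat.succ i)) h'
    simp only [Bool.and_eq_true] at hf
    have h1 : x' = x := Nat.eq_of_beq_eq_true hf.1
    have h2 : walkS C τ w j = i + 1 := Nat.eq_of_beq_eq_true hf.2
    obtain ⟨_, h3⟩ := walkS_sound C H g t hk τ hb w hw j i hj h2
    rw [← he, h1, h0, hk, mul_one] at h3
    rw [h0, hk, mul_one]
    exact h3.symm
  · -- CONF
    have h' : (Nat.beq x C.k && Nat.blt (Nat.land p 15) C.k &&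
                Nat.rec (motive := fun _ => Bool) false (fun s _ =>
                  Nat.rec (motive := fun _ => Bool) false (fun s2 _ =>
                    Nat.blt s C.N && Nat.blt s2 C.N &&
                    Nat.rec (motive := fun _ => Bool) false
                      (fun a _ => Nat.beq (normF C τ 40 s2) (Nat.succ a)) (normF C τ 40 s) &&
                    Nat.beq (stepS C τ s (Nat.land p 15)) (Nat.succ i) &&
                    Nat.beq (stepS C τ s2 (Nat.land p 15)) (Nat.succ j))
                    (Nat.succ (Nat.div (Nat.shiftRight p 4) C.B)))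
                  (Nat.succ (Nat.mod (Nat.shiftRight p 4) C.B))) = true := h
    rw [Bool.and_eq_true, Bool.and_eq_true] at h'
    obtain ⟨⟨h0, hx1⟩, h'⟩ := h'
    have h0 : x = C.k := Nat.eq_of_beq_eq_true h0
    have hx1 : Nat.land p 15 < C.k := Nat.le_of_ble_eq_true hx1
    set s := Nat.mod (Nat.shiftRight p 4) C.B with hs
    set s2 := Nat.div (Nat.shiftRight p 4) C.B with hs2
    have h'' : (Nat.blt s C.N && Nat.blt s2 C.N &&
                    Nat.rec (motive := fun _ => Bool) false
                      (fun a _ => Nat.beq (normF C τ 40 s2) (Nat.succ a)) (normF C τ 40 s) &&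
                    Nat.beq (stepS C τ s (Nat.land p 15)) (Nat.succ i) &&
                    Nat.beq (stepS C τ s2 (Nat.land p 15)) (Nat.succ j)) = true := h'
    rw [Bool.and_eq_true, Bool.and_eq_true, Bool.and_eq_true, Bool.and_eq_true] at h''
    obtain ⟨⟨⟨⟨h1, h2⟩, h3⟩, h4⟩, h5⟩ := h''
    have h1 : s < C.N := Nat.le_of_ble_eq_true h1
    have h2 : s2 < C.N := Nat.le_of_ble_eq_true h2
    have h4 : stepS C τ s (Nat.land p 15) = i + 1 := Nat.eq_of_beq_eq_true h4
    have h5 : stepS C τ s2 (Nat.land p 15) = j + 1 := Nat.eq_of_beq_eq_true h5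
    rcases ha : normF C τ 40 s with _ | a
    · rw [ha] at h3; exact absurd h3 (by simp)
    · rw [ha] at h3
      have h3 : normF C τ 40 s2 = a + 1 := Nat.eq_of_beq_eq_true h3
      obtain ⟨_, r1⟩ := normF_sound C H g t hk τ hb 40 s a h1 ha
      obtain ⟨_, r2⟩ := normF_sound C H g t hk τ hb 40 s2 a h2 h3
      obtain ⟨_, r4⟩ := stepS_sound C H g t hk τ hb s _ i h1 hx1.le h4
      obtain ⟨_, r5⟩ := stepS_sound C H g t hk τ hb s2 _ j h2 hx1.le h5
      rw [h0, hk, mul_one]
      exact (r4.symm.trans ((r1.trans r2.symm).mul _)).trans r5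

theorem main_sound (i x q : Nat) (hi : i < C.N) (hx : x ≤ C.k)
    (hb : ∀ i' x', i' < C.N → x' ≤ C.k → look C i' x' < look C i x → Good C H g t i' x')
    (h : main C i x q = true) : Good C H g t i x := by
  unfold main at h
  obtain ⟨j, hj, h⟩ := rec_false_eq h
  obtain ⟨τ, hτ, h⟩ := rec_false_eq h
  rw [Bool.and_eq_true] at h
  obtain ⟨h1, h2⟩ := h
  have h1 : j < C.N := Nat.le_of_ble_eq_true h1
  intro j' hj'
  have : j' = j := by omega
  subst this
  refine ⟨h1, kinds_sound C H g t hyp ht τ ?_ i x j' _ _ hi hx h1 hj h2⟩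
  intro i' x' hi' hx' hle
  refine hb i' x' hi' hx' ?_
  have h3 : look C i x - Nat.mod (look C i x) C.B = τ + 1 := hτ
  omega

omit hyp ht in
theorem look_le_mask (i x : Nat) : look C i x ≤ C.mask := Nat.and_le_right

theorem good_of_checks
    (hall : ∀ i x, i < C.N → x ≤ C.k → look C i x = C.mask ∨ ∃ q, main C i x q = true) :
    ∀ i x, i < C.N → x ≤ C.k → (∃ q, main C i x q = true) → Good C H g t i x := by
  have key : ∀ v i x, look C i x = v → i < C.N → x ≤ C.k → (∃ q, main C i x q = true) →
      Good C H g t i x := by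
    intro v
    induction v using Nat.strong_induction_on with
    | _ v ih =>
      intro i x hv hi hx hq
      obtain ⟨q, hq⟩ := hq
      refine main_sound C H g t hyp ht i x q hi hx ?_ hq
      intro i' x' hi' hx' hlt
      refine ih (look C i' x') (hv ▸ hlt) i' x' rfl hi' hx' ?_
      rcases hall i' x' hi' hx' with h | h
      · exfalso
        have := look_le_mask C i x
        omega
      · exact h
  intro i x hi hx hq
  exact key _ i x rfl hi hx hq

/-- a live node, with all its entries verified -/
def LiveOK (i : Nat) : Prop := look C i C.k = C.mask ∧ ∀ x, x < C.k → ∃ q, main C i x q = true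

/-- a dead node (coincides with a smaller one) -/
def DeadOK (i : Nat) : Prop := Nat.mod (look C i C.k) C.B ≤ i ∧ (∃ q, main C i C.k q = true) ∧
  ∀ x, x < C.k → look C i x = C.mask ∨ ∃ q, main C i x q = true

/-- nodes `lo ≤ i < hi` are verified and at most `c` of them are live -/
def Part (lo hi c : Nat) : Prop := ∃ S : Finset Nat, S.card ≤ c ∧
  ∀ i, lo ≤ i → i < hi → (LiveOK C i ∧ i ∈ S) ∨ DeadOK C i

omit hyp ht in
theorem Part.append {lo mid hi c1 c2 : Nat} (h1 : Part C lo mid c1) (h2 : Part C mid hi c2) :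
    Part C lo hi (c1 + c2) := by
  classical
  obtain ⟨S1, hS1, h1⟩ := h1
  obtain ⟨S2, hS2, h2⟩ := h2
  refine ⟨S1 ∪ S2, (Finset.card_union_le _ _).trans (add_le_add hS1 hS2), ?_⟩
  intro i hlo hhi
  rcases lt_or_ge i mid with h | h
  · rcases h1 i hlo h with ⟨h3, h4⟩ | h3
    · exact Or.inl ⟨h3, Finset.mem_union_left _ h4⟩
    · exact Or.inr h3
  · rcases h2 i h hhi with ⟨h3, h4⟩ | h3
    · exact Or.inl ⟨h3, Finset.mem_union_right _ h4⟩
    · exact Or.inr h3

omit hyp ht in
theorem entryOK_sound {dead : Bool} {i x info : Nat} (h : entryOK C dead i x info = true) :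
    (dead = true ∧ look C i x = C.mask) ∨ ∃ q, main C i x q = true := by
  cases info with
  | zero =>
    have h' : (dead && Nat.beq (look C i x) C.mask) = true := h
    rw [Bool.and_eq_true] at h'
    exact Or.inl ⟨h'.1, Nat.eq_of_beq_eq_true h'.2⟩
  | succ q => exact Or.inr ⟨q, h⟩

omit hyp ht in
theorem rowOK_sound {ib im ci : Nat} {dead : Bool} {i m n : Nat}
    (h : rowOK C ib im ci dead i m n = true) :
    ∀ x, x < n → (dead = true ∧ look C i x = C.mask) ∨ ∃ q, main C i x q = true := by
  induction n with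
  | zero => intro x hx; omega
  | succ n ih =>
    have h' : (entryOK C dead i n (Nat.land (Nat.shiftRight ci (Nat.mul (Nat.add (Nat.mul m C.k) n) ib)) im)
      && rowOK C ib im ci dead i m n) = true := h
    rw [Bool.and_eq_true] at h'
    intro x hx
    rcases Nat.lt_succ_iff_lt_or_eq.mp hx with h1 | h1
    · exact ih h'.2 x h1
    · subst h1
      exact entryOK_sound C h'.1

omit hyp ht in
theorem nodeOK_sound {ib im ci i m e r : Nat} (h : nodeOK C ib im ci i m e = r + 1) :
    (LiveOK C i ∧ 1 ≤ r) ∨ DeadOK C i := by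
  cases e with
  | zero =>
    have h' : Bool.rec 0 2 (Nat.beq (look C i C.k) C.mask && rowOK C ib im ci false i m C.k) = r + 1 := h
    rcases hb : (Nat.beq (look C i C.k) C.mask && rowOK C ib im ci false i m C.k) with _ | _
    · rw [hb] at h'; exact absurd h' (by simp)
    · rw [hb] at h'
      have hr : 2 = r + 1 := h'
      rw [Bool.and_eq_true] at hb
      refine Or.inl ⟨⟨Nat.eq_of_beq_eq_true hb.1, fun x hx => ?_⟩, by omega⟩
      rcases rowOK_sound C hb.2 x hx with ⟨h1, _⟩ | h1
      · exact absurd h1 (by simp)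
      · exact h1
  | succ q =>
    have h' : Bool.rec 0 1 (Nat.ble (Nat.mod (look C i C.k) C.B) i && main C i C.k q &&
      rowOK C ib im ci true i m C.k) = r + 1 := h
    rcases hb : (Nat.ble (Nat.mod (look C i C.k) C.B) i && main C i C.k q &&
      rowOK C ib im ci true i m C.k) with _ | _
    · rw [hb] at h'; exact absurd h' (by simp)
    · rw [Bool.and_eq_true, Bool.and_eq_true] at hb
      refine Or.inr ⟨Nat.le_of_ble_eq_true hb.1.1, ⟨q, hb.1.2⟩, fun x hx => ?_⟩
      rcases rowOK_sound C hb.2 x hx with ⟨_, h1⟩ | h1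
      · exact Or.inl h1
      · exact Or.inr h1

omit hyp ht in
theorem runChunk_sound {ib im ci eb em ce lo n : Nat} :
    ∀ c, runChunk C ib im ci eb em ce lo n = c + 1 → Part C lo (lo + n) c := by
  induction n with
  | zero => intro c _; exact ⟨∅, by simp, fun i h1 h2 => by omega⟩
  | succ m ih =>
    intro c h
    have h' : Nat.rec (motive := fun _ => Nat) 0
      (fun r _ => Nat.rec (motive := fun _ => Nat) 0 (fun a _ => Nat.succ (Nat.add a r))
        (runChunk C ib im ci eb em ce lo m))
      (nodeOK C ib im ci (lo + m) m (Nat.land (Nat.shiftRight ce (Nat.mul m eb)) em)) = c + 1 := h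
    rcases hn : nodeOK C ib im ci (lo + m) m (Nat.land (Nat.shiftRight ce (Nat.mul m eb)) em) with _ | r
    · rw [hn] at h'; exact absurd h' (by simp)
    · rw [hn] at h'
      rcases hr : runChunk C ib im ci eb em ce lo m with _ | a
      · rw [hr] at h'; exact absurd h' (by simp)
      · rw [hr] at h'
        have hc : a + r + 1 = c + 1 := h'
        have hc : c = a + r := by omega
        subst hc
        have h1 := ih a hr
        have h2 : Part C (lo + m) (lo + (m + 1)) r := by
          rcases nodeOK_sound C hn with ⟨h3, h4⟩ | h3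
          · refine ⟨{lo + m}, by simpa using h4, fun i h5 h6 => ?_⟩
            have : i = lo + m := by omega
            subst this
            exact Or.inl ⟨h3, by simp⟩
          · refine ⟨∅, by simp, fun i h5 h6 => ?_⟩
            have : i = lo + m := by omega
            subst this
            exact Or.inr h3
        exact Part.append C h1 h2

/-- every element of the closure of the generators is in one of the cosets of live nodes -/
theorem closure_covered {n : Nat} (hP : Part C 0 C.N n) :
    ∃ S : Finset Nat, S.card ≤ n ∧ ∀ a ∈ Subgroup.closure (g '' {x | x < C.k}), ∃ l ∈ S, Rel H a (t l) := by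
  obtain ⟨S, hS, hP⟩ := hP
  have hall : ∀ i x, i < C.N → x ≤ C.k → look C i x = C.mask ∨ ∃ q, main C i x q = true := by
    intro i x hi hx
    rcases hP i (Nat.zero_le _) hi with ⟨h, _⟩ | h
    · rcases hx.lt_or_eq with h1 | h1
      · exact Or.inr (h.2 x h1)
      · subst h1; exact Or.inl h.1
    · rcases hx.lt_or_eq with h1 | h1
      · exact h.2.2 x h1
      · subst h1; exact Or.inr h.2.1
  have hgood := good_of_checks C H g t hyp ht hall
  -- live representative
  have hlive : ∀ i, i < C.N → ∃ l ∈ S, l < C.N ∧ LiveOK C l ∧ Rel H (t i) (t l) := by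
    intro i
    induction i using Nat.strong_induction_on with
    | _ i ih =>
      intro hi
      rcases hP i (Nat.zero_le _) hi with ⟨h, h'⟩ | h
      · exact ⟨i, h', hi, h, Rel.refl _⟩
      · obtain ⟨h1, ⟨q, hq⟩, h3⟩ := h
        have hg := hgood i C.k hi le_rfl ⟨q, hq⟩
        have hq' := hq
        unfold main at hq'
        obtain ⟨j, hj, _⟩ := rec_false_eq hq'
        obtain ⟨h4, h5⟩ := hg j hj
        rw [hyp.hk, mul_one] at h5
        obtain ⟨l, hl, hlN, hl2, hl3⟩ := ih j (by omega) h4
        exact ⟨l, hl, hlN, hl2, h5.trans hl3⟩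
  refine ⟨S, hS, ?_⟩
  -- closure under multiplication by generators
  have hmul : ∀ l, l < C.N → LiveOK C l → ∀ x, x < C.k → ∃ l' ∈ S, l' < C.N ∧ LiveOK C l' ∧
      Rel H (t l * g x) (t l') := by
    intro l hl hl2 x hx
    obtain ⟨q, hq⟩ := hl2.2 x hx
    have hg := hgood l x hl hx.le ⟨q, hq⟩
    have hq' := hq
    unfold main at hq'
    obtain ⟨j, hj, _⟩ := rec_false_eq hq'
    obtain ⟨h4, h5⟩ := hg j hj
    obtain ⟨l', h6, h7, h8, h9⟩ := hlive j h4
    exact ⟨l', h6, h7, h8, h5.trans h9⟩
  intro a ha
  have hmain : ∃ l ∈ S, l < C.N ∧ LiveOK C l ∧ Rel H a (t l) := by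
    refine Subgroup.closure_induction_right (p := fun a _ => ∃ l ∈ S, l < C.N ∧ LiveOK C l ∧ Rel H a (t l))
      ?_ ?_ ?_ ha
    · obtain ⟨l, h1, h2, h3, h4⟩ := hlive 0 hyp.hN
      rw [ht.1] at h4
      exact ⟨l, h1, h2, h3, h4⟩
    · rintro a _ b ⟨x, hx, rfl⟩ ⟨l, h1, h2, h3, h4⟩
      obtain ⟨l', h5, h6, h7, h8⟩ := hmul l h2 h3 x hx
      exact ⟨l', h5, h6, h7, (h4.mul _).trans h8⟩
    · rintro a _ b ⟨x, hx, rfl⟩ ⟨l, h1, h2, h3, h4⟩
      obtain ⟨hx1, hx2⟩ := hyp.hinv x hx
      have : (g x)⁻¹ = g (C.inv x) := (eq_inv_of_mul_eq_one_right hx2).symm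
      rw [this]
      obtain ⟨l', h5, h6, h7, h8⟩ := hmul l h2 h3 _ hx1
      exact ⟨l', h5, h6, h7, (h4.mul _).trans h8⟩
  obtain ⟨l, h1, _, _, h4⟩ := hmain
  exact ⟨l, h1, h4⟩

end sound

section final

variable {G : Type*} [Group G] (H : Subgroup G) (g : Nat → G)

/-- Main theorem: `|⟨g 0, …, g (k-1)⟩| ≤ n * |H|`. -/
theorem card_closure_le (hyp : Hyp C H g) {n : Nat} (hP : Part C 0 C.N n) [Finite H] :
    Finite (Subgroup.closure (g '' {x | x < C.k})) ∧
      Nat.card (Subgroup.closure (g '' {x | x < C.k})) ≤ n * Nat.card H := by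
  obtain ⟨S, hS, hcov⟩ := closure_covered C H g (trans C g) hyp (trans_isTrans C g) hP
  choose f hf1 hf2 using hcov
  let F : Subgroup.closure (g '' {x | x < C.k}) → S × H := fun a =>
    (⟨f a.1 a.2, hf1 a.1 a.2⟩, ⟨a.1 * (trans C g (f a.1 a.2))⁻¹, hf2 a.1 a.2⟩)
  have hF : Function.Injective F := by
    rintro ⟨a, ha⟩ ⟨b, hb⟩ h
    have h1 : f a ha = f b hb := congrArg Subtype.val (congrArg Prod.fst h)
    have h2 : a * (trans C g (f a ha))⁻¹ = b * (trans C g (f b hb))⁻¹ :=
      congrArg Subtype.val (congrArg Prod.snd h)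
    rw [h1] at h2
    exact Subtype.ext (mul_right_cancel h2)
  refine ⟨Finite.of_injective F hF, ?_⟩
  calc Nat.card (Subgroup.closure (g '' {x | x < C.k})) ≤ Nat.card (S × H) :=
        Nat.card_le_card_of_injective F hF
    _ = S.card * Nat.card H := by rw [Nat.card_prod]; simp
    _ ≤ n * Nat.card H := Nat.mul_le_mul_right _ hS

/-- version for the whole group: the index of `H` is at most `n` and not zero. -/
theorem index_le (hyp : Hyp C H g) {n : Nat} (hP : Part C 0 C.N n)
    (hG : Subgroup.closure (g '' {x | x < C.k}) = ⊤) : H.index ≠ 0 ∧ H.index ≤ n := by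
  obtain ⟨S, hS, hcov⟩ := closure_covered C H g (trans C g) hyp (trans_isTrans C g) hP
  have hcov' : ∀ a : G, ∃ l ∈ S, Rel H a (trans C g l) := fun a => hcov a (by rw [hG]; trivial)
  choose f hf1 hf2 using hcov'
  let F : G ⧸ H → S := fun q => ⟨f (Quotient.out q)⁻¹, hf1 _⟩
  have hF : Function.Injective F := by
    intro p q h
    have h1 : f (Quotient.out p)⁻¹ = f (Quotient.out q)⁻¹ := congrArg Subtype.val h
    have h2 := hf2 (Quotient.out p)⁻¹
    have h3 := hf2 (Quotient.out q)⁻¹
    rw [h1] at h2
    have h4 : Rel H (Quotient.out p)⁻¹ (Quotient.out q)⁻¹ := h2.trans h3.symm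
    have h5 : (Quotient.out p)⁻¹ * Quotient.out q ∈ H := by simpa [Rel] using h4
    rw [← QuotientGroup.out_eq' p, ← QuotientGroup.out_eq' q]
    exact QuotientGroup.eq.mpr h5
  have hfin : Finite (G ⧸ H) := Finite.of_injective F hF
  refine ⟨?_, ?_⟩
  · exact Subgroup.index_ne_zero_of_finite
  · calc H.index = Nat.card (G ⧸ H) := rfl
      _ ≤ Nat.card S := Nat.card_le_card_of_injective F hF
      _ = S.card := by simp
      _ ≤ n := hS

end final

end Cfsg.Agent.SporadicRecognition.CosetCert
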