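import Mathlib
import Cfsg.Agent.Lib.F2Mat

/-!
# The model of the centraliser of a transvection of `SL(5, 2)`

`L5 = SL(5, 2)`; indices are `0, …, 4`; `x i j = 1 + E_ij`; `zz = x 0 4`; `CC = C_{L5}(zz)`.
Every element `g` of `L5` has a code `cd g < 2 ^ 25` (bit `5 * i + j` is the entry `(i, j)`), and
`cd (g * h) = mul 5 (cd g) (cd h)`.

Pattern subgroups: `T0` unitriangular, `V1` rows `{0,1}` × columns `{2,3,4}`,
`V2` rows `{0,1,2}` × columns `{3,4}`, `QQ` row `0` and column `4`, `R1` row `0`, `R2` column `4`.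
-/

set_option autoImplicit false

namespace Cfsg.Agent.SporadicRecognition.HeldModel

open Matrix Cfsg.Agent.Lib.F2Mat

abbrev L5 := SpecialLinearGroup (Fin 5) (ZMod 2)

theorem zmod2_cases (a : ZMod 2) : a = 0 ∨ a = 1 := by
  revert a; decide

/-- entries as Booleans -/
def ent (g : L5) (i j : Fin 5) : Bool := decide ((g : Matrix (Fin 5) (Fin 5) (ZMod 2)) i j = 1)

theorem bz_ent (g : L5) (i j : Fin 5) :
    bz (ent g i j) = (g : Matrix (Fin 5) (Fin 5) (ZMod 2)) i j := by
  unfold ent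
  rcases zmod2_cases ((g : Matrix (Fin 5) (Fin 5) (ZMod 2)) i j) with h | h
  · rw [h]; rfl
  · rw [h]; rfl

theorem ent_iff (g : L5) (i j : Fin 5) :
    ent g i j = true ↔ (g : Matrix (Fin 5) (Fin 5) (ZMod 2)) i j = 1 := by
  unfold ent; simp

/-- entry with natural number indices -/
def entN (g : L5) (i j : ℕ) : Bool :=
  if h : i < 5 ∧ j < 5 then ent g ⟨i, h.1⟩ ⟨j, h.2⟩ else false

/-- The code of a matrix: bit `5 * i + j` is the entry `(i, j)`. -/
def cd (g : L5) : ℕ := blk 1 (fun p => (entN g (p / 5) (p % 5)).toNat) 25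

theorem toNat_lt (b : Bool) : b.toNat < 2 ^ 1 := by cases b <;> decide

theorem cd_lt (g : L5) : cd g < 2 ^ (5 * 5) := by
  have := blk_lt (n := 1) (a := fun p => (entN g (p / 5) (p % 5)).toNat) 25
    (fun i _ => toNat_lt _)
  simpa [cd] using this

theorem testBit_cd (g : L5) (i j : Fin 5) : (cd g).testBit (5 * i + j) = ent g i j := by
  have h := testBit_blk (n := 1) (a := fun p => (entN g (p / 5) (p % 5)).toNat) 25
    (fun i _ => toNat_lt _) (i := 5 * (i : ℕ) + j) (j := 0) (by omega) (by omega)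
  have h1 : 1 * (5 * (i : ℕ) + j) + 0 = 5 * i + j := by ring
  rw [h1] at h
  rw [cd, h]
  have h2 : (5 * (i : ℕ) + j) / 5 = i := by omega
  have h3 : (5 * (i : ℕ) + j) % 5 = j := by omega
  simp only [h2, h3, entN, i.2, j.2, and_self, dite_true, Fin.eta]
  cases ent g i j <;> rfl

theorem toMat_cd (g : L5) : toMat 5 (cd g) = (g : Matrix (Fin 5) (Fin 5) (ZMod 2)) := by
  ext i j
  rw [toMat_apply, testBit_cd, bz_ent]

theorem cd_inj {g h : L5} (e : cd g = cd h) : g = h := by
  apply Subtype.ext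
  rw [← toMat_cd, ← toMat_cd, e]

theorem cd_eq_of_toMat {g : L5} {A : ℕ} (hA : A < 2 ^ (5 * 5))
    (h : toMat 5 A = (g : Matrix (Fin 5) (Fin 5) (ZMod 2))) : cd g = A :=
  toMat_inj (cd_lt g) hA (by rw [toMat_cd, h])

theorem cd_mul (g h : L5) : cd (g * h) = mul 5 (cd g) (cd h) :=
  cd_eq_of_toMat (mul_lt (by norm_num) _ _) (by
    rw [toMat_mul, toMat_cd, toMat_cd]; rfl)

theorem cd_one : cd 1 = one 5 :=
  cd_eq_of_toMat one_lt' (by rw [toMat_one]; rfl)

/-- the element with a given code; `B` is the code of the inverse. -/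
def mk (A B : ℕ) (h : Nat.beq (mul 5 A B) (one 5) = true) : L5 :=
  ⟨toMat 5 A, by
    have h1 : toMat 5 A * toMat 5 B = 1 := by
      rw [← toMat_mul, Nat.eq_of_beq_eq_true h, toMat_one]
    have h2 : (toMat 5 A).det * (toMat 5 B).det = 1 := by
      rw [← det_mul, h1, det_one]
    rcases zmod2_cases (toMat 5 A).det with h3 | h3
    · rw [h3, zero_mul] at h2; exact absurd h2 (by decide)
    · exact h3⟩

theorem cd_mk {A B : ℕ} (h : Nat.beq (mul 5 A B) (one 5) = true) (hA : Nat.blt A 33554432 = true) :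
    cd (mk A B h) = A :=
  cd_eq_of_toMat (by simpa [Nat.blt_eq] using hA) rfl

/-- the elementary transvection `1 + E_ij` -/
def x (i j : Fin 5) (h : i ≠ j := by decide) : L5 := ⟨transvection i j 1, det_transvection_of_ne i j h 1⟩

theorem coe_x (i j : Fin 5) (h : i ≠ j) :
    ((x i j h : L5) : Matrix (Fin 5) (Fin 5) (ZMod 2)) = transvection i j 1 := rfl

theorem transvection_apply' (i j k l : Fin 5) : (transvection i j (1 : ZMod 2)) k l =
    (if k = l then 1 else 0) + (if i = k ∧ j = l then 1 else 0) := by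
  rw [transvection, Matrix.add_apply, Matrix.one_apply, Matrix.single_apply]

theorem cd_x (i j : Fin 5) (h : i ≠ j) : cd (x i j h) = one 5 + 2 ^ (5 * (i : ℕ) + j) := by
  refine cd_eq_of_toMat ?_ ?_
  · revert i j; decide
  · rw [coe_x]
    ext k l
    rw [transvection_apply', toMat_apply]
    revert i j k l; decide +kernel

/-- the involution whose centraliser is the model. -/
def zz : L5 := x 0 4

/-- the model -/
def CC : Subgroup L5 := Subgroup.centralizer {zz}

theorem mem_CC {g : L5} : g ∈ CC ↔ g * zz = zz * g := by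
  unfold CC; rw [Subgroup.mem_centralizer_singleton_iff]

/-- the code of `zz` -/
def zc : ℕ := 17043537

theorem cd_zz : cd zz = zc := by
  unfold zz; rw [cd_x]; decide +kernel

/-- Boolean test for membership in `CC` -/
def inCC (A : ℕ) : Bool := Nat.beq (mul 5 A zc) (mul 5 zc A)

theorem mem_CC_iff {g : L5} : g ∈ CC ↔ inCC (cd g) = true := by
  rw [mem_CC, inCC]
  constructor
  · intro h
    have := congrArg cd h
    rw [cd_mul, cd_mul, cd_zz] at this
    rw [this]; exact Nat.beq_refl _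
  · intro h
    apply cd_inj
    rw [cd_mul, cd_mul, cd_zz]
    exact Nat.eq_of_beq_eq_true h

/-! ### Pattern subgroups -/

/-- `g - 1` is supported on `P` -/
def Pat (P : Fin 5 → Fin 5 → Bool) (g : L5) : Prop :=
  ∀ i j, P i j = false → ((g : Matrix (Fin 5) (Fin 5) (ZMod 2)) - 1) i j = 0

/-- transitivity of a pattern -/
def Tr (P : Fin 5 → Fin 5 → Bool) : Prop := ∀ i j k, P i j = true → P j k = true → P i k = true

instance (P : Fin 5 → Fin 5 → Bool) : Decidable (Tr P) := by unfold Tr; infer_instance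

theorem Pat.mul {P : Fin 5 → Fin 5 → Bool} (hP : Tr P) {g h : L5} (hg : Pat P g) (hh : Pat P h) :
    Pat P (g * h) := by
  intro i j hij
  have e : ((g * h : L5) : Matrix (Fin 5) (Fin 5) (ZMod 2)) - 1 =
      ((g : Matrix (Fin 5) (Fin 5) (ZMod 2)) - 1) + ((h : Matrix (Fin 5) (Fin 5) (ZMod 2)) - 1) +
      ((g : Matrix (Fin 5) (Fin 5) (ZMod 2)) - 1) * ((h : Matrix (Fin 5) (Fin 5) (ZMod 2)) - 1) := by
    have e0 : ((g * h : L5) : Matrix (Fin 5) (Fin 5) (ZMod 2)) =
        (g : Matrix (Fin 5) (Fin 5) (ZMod 2)) * (h : Matrix (Fin 5) (Fin 5) (ZMod 2)) := rfl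
    rw [e0]
    noncomm_ring
  rw [e, Matrix.add_apply, Matrix.add_apply, hg i j hij, hh i j hij, Matrix.mul_apply]
  rw [Finset.sum_eq_zero]
  · simp
  · intro k _
    cases h1 : P i k with
    | false => rw [hg i k h1, zero_mul]
    | true =>
      cases h2 : P k j with
      | false => rw [hh k j h2, mul_zero]
      | true => rw [hP i k j h1 h2] at hij; exact absurd hij (by decide)

theorem Pat.one (P : Fin 5 → Fin 5 → Bool) : Pat P 1 := by
  intro i j _
  simp

/-- the pattern subgroup -/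
def pat (P : Fin 5 → Fin 5 → Bool) (hP : Tr P) : Subgroup L5 where
  carrier := {g | Pat P g}
  one_mem' := Pat.one P
  mul_mem' := fun hg hh => hg.mul hP hh
  inv_mem' := by
    intro g hg
    have h1 : ∀ n : ℕ, Pat P (g ^ n) := by
      intro n
      induction n with
      | zero => rw [pow_zero]; exact Pat.one P
      | succ n ih => rw [pow_succ]; exact ih.mul hP hg
    have h2 : g⁻¹ = g ^ (orderOf g - 1) := by
      rw [inv_eq_iff_mul_eq_one, ← pow_succ', Nat.sub_add_cancel (orderOf_pos g),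
        pow_orderOf_eq_one]
    show Pat P g⁻¹
    rw [h2]; exact h1 _

theorem mem_pat {P : Fin 5 → Fin 5 → Bool} (hP : Tr P) {g : L5} : g ∈ pat P hP ↔ Pat P g :=
  Iff.rfl

theorem pat_mono {P P' : Fin 5 → Fin 5 → Bool} (hP : Tr P) (hP' : Tr P')
    (h : ∀ i j, P i j = true → P' i j = true) : pat P hP ≤ pat P' hP' := by
  intro g hg i j hij
  refine hg i j ?_
  cases h1 : P i j with
  | false => rfl
  | true => rw [h i j h1] at hij; exact absurd hij (by decide)

/-- the mask of the positions outside the pattern -/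
def msk' (P : Fin 5 → Fin 5 → Bool) : ℕ :=
  blk 1 (fun p => (if h : p / 5 < 5 ∧ p % 5 < 5 then !(P ⟨p / 5, h.1⟩ ⟨p % 5, h.2⟩)
    else false).toNat) 25

theorem testBit_msk' (P : Fin 5 → Fin 5 → Bool) (i j : Fin 5) :
    (msk' P).testBit (5 * i + j) = !(P i j) := by
  have h := testBit_blk (n := 1)
    (a := fun p => (if h : p / 5 < 5 ∧ p % 5 < 5 then !(P ⟨p / 5, h.1⟩ ⟨p % 5, h.2⟩)
      else false).toNat) 25
    (fun i _ => toNat_lt _) (i := 5 * (i : ℕ) + j) (j := 0) (by omega) (by omega)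
  have h1 : 1 * (5 * (i : ℕ) + j) + 0 = 5 * i + j := by ring
  rw [h1] at h
  rw [msk', h]
  have h2 : (5 * (i : ℕ) + j) / 5 = i := by omega
  have h3 : (5 * (i : ℕ) + j) % 5 = j := by omega
  simp only [h2, h3, i.2, j.2, and_self, dite_true, Fin.eta]
  cases P i j <;> rfl

/-- Boolean test: agreement with the identity outside the pattern; `m` is the mask and
`o = one 5 &&& m`. -/
def inP (m A : ℕ) : Bool := Nat.beq (Nat.land A m) (Nat.land (one 5) m)

theorem Pat_iff_inP {P : Fin 5 → Fin 5 → Bool} {g : L5} : Pat P g ↔ inP (msk' P) (cd g) = true := by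
  have key : ∀ i j : Fin 5, P i j = false →
      ((((g : Matrix (Fin 5) (Fin 5) (ZMod 2)) - 1) i j = 0) ↔
        (cd g).testBit (5 * i + j) = (one 5).testBit (5 * i + j)) := by
    intro i j _
    rw [Matrix.sub_apply, sub_eq_zero, ← toMat_cd, ← toMat_one, toMat_apply, toMat_apply]
    exact ⟨fun h => bz_inj h, fun h => by rw [h]⟩
  constructor
  · intro h
    rw [inP]
    have : Nat.land (cd g) (msk' P) = Nat.land (one 5) (msk' P) := by
      apply Nat.eq_of_testBit_eq
      intro p
      show ((cd g) &&& (msk' P)).testBit p = ((one 5) &&& (msk' P)).testBit p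
      rw [Nat.testBit_and, Nat.testBit_and]
      rcases Nat.lt_or_ge p 25 with hp | hp
      · obtain ⟨i, j, hi, hj, rfl⟩ : ∃ i j, i < 5 ∧ j < 5 ∧ p = 5 * i + j :=
          ⟨p / 5, p % 5, Nat.div_lt_of_lt_mul hp, Nat.mod_lt _ (by norm_num),
            (Nat.div_add_mod p 5).symm⟩
        have h1 := testBit_msk' P ⟨i, hi⟩ ⟨j, hj⟩
        simp only at h1
        rw [h1]
        cases h2 : P ⟨i, hi⟩ ⟨j, hj⟩ with
        | true => simp
        | false =>
          have h3 := (key ⟨i, hi⟩ ⟨j, hj⟩ h2).1 (h _ _ h2)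
          simp only at h3
          rw [h3]
      · have e1 : (cd g).testBit p = false :=
          Nat.testBit_lt_two_pow (lt_of_lt_of_le (cd_lt g)
            (Nat.pow_le_pow_right (by norm_num) hp))
        have e2 : (one 5).testBit p = false :=
          Nat.testBit_lt_two_pow (lt_of_lt_of_le one_lt'
            (Nat.pow_le_pow_right (by norm_num) hp))
        rw [e1, e2]
    rw [this]; exact Nat.beq_refl _
  · intro h i j hij
    rw [key i j hij]
    have h1 : (cd g) &&& (msk' P) = (one 5) &&& (msk' P) := Nat.eq_of_beq_eq_true h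
    have h2 := congrArg (fun n => Nat.testBit n (5 * (i : ℕ) + j)) h1
    simp only [Nat.testBit_and, testBit_msk', hij] at h2
    simpa using h2

def PT (i j : Fin 5) : Bool := decide (i < j)
def PV1 (i j : Fin 5) : Bool := decide (i ≤ 1) && decide (2 ≤ j)
def PV2 (i j : Fin 5) : Bool := decide (i ≤ 2) && decide (3 ≤ j)
def PQ (i j : Fin 5) : Bool := (decide (i = 0) && decide (1 ≤ j)) || (decide (j = 4) && decide (i ≤ 3))
def PR1 (i j : Fin 5) : Bool := decide (i = 0) && decide (1 ≤ j)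
def PR2 (i j : Fin 5) : Bool := decide (i ≤ 3) && decide (j = 4)
def PJ (i j : Fin 5) : Bool := (decide (i ≤ 1) && decide (2 ≤ j)) || (decide (i ≤ 2) && decide (3 ≤ j))
def PF (i j : Fin 5) : Bool := decide (i ≤ 1) && decide (3 ≤ j)

/-- the unitriangular group -/
def T0 : Subgroup L5 := pat PT (by decide)
def V1 : Subgroup L5 := pat PV1 (by decide)
def V2 : Subgroup L5 := pat PV2 (by decide)
/-- `O_2(CC)`: row `0` and column `4` -/
def QQ : Subgroup L5 := pat PQ (by decide)
/-- row `0` -/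
def R1 : Subgroup L5 := pat PR1 (by decide)
/-- column `4` -/
def R2 : Subgroup L5 := pat PR2 (by decide)
/-- `V1 V2` -/
def JJ : Subgroup L5 := pat PJ (by decide)
/-- `V1 ∩ V2` -/
def FF : Subgroup L5 := pat PF (by decide)

theorem V1_le_T0 : V1 ≤ T0 := pat_mono _ _ (by decide)
theorem V2_le_T0 : V2 ≤ T0 := pat_mono _ _ (by decide)
theorem QQ_le_T0 : QQ ≤ T0 := pat_mono _ _ (by decide)
theorem JJ_le_T0 : JJ ≤ T0 := pat_mono _ _ (by decide)
theorem R1_le_QQ : R1 ≤ QQ := pat_mono _ _ (by decide)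
theorem R2_le_QQ : R2 ≤ QQ := pat_mono _ _ (by decide)
theorem V1_le_JJ : V1 ≤ JJ := pat_mono _ _ (by decide)
theorem V2_le_JJ : V2 ≤ JJ := pat_mono _ _ (by decide)
theorem FF_le_V1 : FF ≤ V1 := pat_mono _ _ (by decide)
theorem FF_le_V2 : FF ≤ V2 := pat_mono _ _ (by decide)

end Cfsg.Agent.SporadicRecognition.HeldModel
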