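import Mathlib
import Cfsg.Agent.SporadicRecognition.HeldHyp
import Cfsg.Agent.S0242

/-!
# Enumeration of the unitriangular group `T0` of order `1024`

`tc a` (`a < 1024`) are the codes of the elements of `T0`; orders of pattern subgroups;
`V1`, `V2` are the only elementary abelian subgroups of order `64` of `T0`.
-/

set_option autoImplicit false

namespace Cfsg.Agent.SporadicRecognition.HeldModel

open Matrix Cfsg.Agent.Lib.F2Mat

/-- `f i` holds for all `lo ≤ i < lo + 2 ^ d` (binary splitting) -/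
def allR (f : ℕ → Bool) : ℕ → ℕ → Bool
  | 0, lo => force lo f
  | d + 1, lo => (allR f d lo).and (force (Nat.add lo (Nat.pow 2 d)) fun m => allR f d m)

theorem allR_spec (f : ℕ → Bool) (d lo : ℕ) (h : allR f d lo = true) (i : ℕ) (h1 : lo ≤ i)
    (h2 : i < lo + 2 ^ d) : f i = true := by
  induction d generalizing lo with
  | zero =>
    have : i = lo := by simp at h2; omega
    subst this
    rw [allR, force_eq] at h
    exact h
  | succ d ih =>
    have h' : (allR f d lo && allR f d (lo + 2 ^ d)) = true := by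
      rw [allR, force_eq] at h
      exact h
    rw [Bool.and_eq_true] at h'
    by_cases hi : i < lo + 2 ^ d
    · exact ih lo h'.1 h1 hi
    · exact ih (lo + 2 ^ d) h'.2 (by omega) (by rw [pow_succ] at h2; omega)

theorem allR_zero {f : ℕ → Bool} {d : ℕ} (h : allR f d 0 = true) (i : ℕ) (h2 : i < 2 ^ d) :
    f i = true := allR_spec f d 0 h i (Nat.zero_le _) (by simpa using h2)

/-- the code of the identity -/
theorem one_five : one 5 = 17043521 := by decide +kernel

/-- The codes of the elements of `T0`. -/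
def tc (a : ℕ) : ℕ :=
  17043521 ||| ((a % 16) <<< 1) ||| (((a >>> 4) % 8) <<< 7) ||| (((a >>> 7) % 4) <<< 13) |||
    (((a >>> 9) % 2) <<< 19)

/-- the index of a code -/
def ix (c : ℕ) : ℕ :=
  ((c >>> 1) % 16) ||| (((c >>> 7) % 8) <<< 4) ||| (((c >>> 13) % 4) <<< 7) |||
    (((c >>> 19) % 2) <<< 9)

theorem ix_lt (c : ℕ) : ix c < 1024 := by
  have h1 : ((c >>> 1) % 16) < 2 ^ 10 := by omega
  have h2 : (((c >>> 7) % 8) <<< 4) < 2 ^ 10 := by rw [Nat.shiftLeft_eq]; omega
  have h3 : (((c >>> 13) % 4) <<< 7) < 2 ^ 10 := by rw [Nat.shiftLeft_eq]; omega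
  have h4 : (((c >>> 19) % 2) <<< 9) < 2 ^ 10 := by rw [Nat.shiftLeft_eq]; omega
  exact Nat.or_lt_two_pow (Nat.or_lt_two_pow (Nat.or_lt_two_pow h1 h2) h3) h4

theorem testBit_tc (a : ℕ) (p : ℕ) : (tc a).testBit p =
    ((17043521 : ℕ).testBit p || (decide (1 ≤ p) && (decide (p - 1 < 4) && a.testBit (p - 1))) ||
      (decide (7 ≤ p) && (decide (p - 7 < 3) && a.testBit (4 + (p - 7)))) ||
      (decide (13 ≤ p) && (decide (p - 13 < 2) && a.testBit (7 + (p - 13)))) ||
      (decide (19 ≤ p) && (decide (p - 19 < 1) && a.testBit (9 + (p - 19))))) := by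
  have e16 : (16 : ℕ) = 2 ^ 4 := rfl
  have e8 : (8 : ℕ) = 2 ^ 3 := rfl
  have e4 : (4 : ℕ) = 2 ^ 2 := rfl
  have e2 : ∀ n : ℕ, n % 2 = n % 2 ^ 1 := fun n => by rw [pow_one]
  have m16 : ∀ n : ℕ, n % 16 = n % 2 ^ 4 := fun n => rfl
  have m8 : ∀ n : ℕ, n % 8 = n % 2 ^ 3 := fun n => rfl
  have m4 : ∀ n : ℕ, n % 4 = n % 2 ^ 2 := fun n => rfl
  rw [tc, m16, m8, m4, e2, Nat.testBit_or, Nat.testBit_or, Nat.testBit_or, Nat.testBit_or,
    Nat.testBit_shiftLeft, Nat.testBit_shiftLeft, Nat.testBit_shiftLeft, Nat.testBit_shiftLeft,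
    Nat.testBit_mod_two_pow, Nat.testBit_mod_two_pow, Nat.testBit_mod_two_pow,
    Nat.testBit_mod_two_pow, Nat.testBit_shiftRight, Nat.testBit_shiftRight,
    Nat.testBit_shiftRight]

theorem testBit_ix (c : ℕ) (p : ℕ) : (ix c).testBit p =
    ((decide (p < 4) && c.testBit (1 + p)) ||
      (decide (4 ≤ p) && (decide (p - 4 < 3) && c.testBit (7 + (p - 4)))) ||
      (decide (7 ≤ p) && (decide (p - 7 < 2) && c.testBit (13 + (p - 7)))) ||
      (decide (9 ≤ p) && (decide (p - 9 < 1) && c.testBit (19 + (p - 9))))) := by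
  have e2 : ∀ n : ℕ, n % 2 = n % 2 ^ 1 := fun n => by rw [pow_one]
  have m16 : ∀ n : ℕ, n % 16 = n % 2 ^ 4 := fun n => rfl
  have m8 : ∀ n : ℕ, n % 8 = n % 2 ^ 3 := fun n => rfl
  have m4 : ∀ n : ℕ, n % 4 = n % 2 ^ 2 := fun n => rfl
  rw [ix, m16, m8, m4, e2, Nat.testBit_or, Nat.testBit_or, Nat.testBit_or,
    Nat.testBit_shiftLeft, Nat.testBit_shiftLeft, Nat.testBit_shiftLeft,
    Nat.testBit_mod_two_pow, Nat.testBit_mod_two_pow, Nat.testBit_mod_two_pow,
    Nat.testBit_mod_two_pow, Nat.testBit_shiftRight, Nat.testBit_shiftRight,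
    Nat.testBit_shiftRight, Nat.testBit_shiftRight]

/-- the mask of `T0` -/
def mT : ℕ := 33004641
def mV1 : ℕ := 33553507
def mV2 : ℕ := 33529063
def mQ : ℕ := 33013217

theorem msk_T : msk' PT = mT := by decide +kernel
theorem msk_V1 : msk' PV1 = mV1 := by decide +kernel
theorem msk_V2 : msk' PV2 = mV2 := by decide +kernel
theorem msk_Q : msk' PQ = mQ := by decide +kernel

/-- fast version of `inP` with literal identity -/
def inPf (m A : ℕ) : Bool := Nat.beq (Nat.land A m) (Nat.land 17043521 m)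

theorem inP_eq (m A : ℕ) : inP m A = inPf m A := by
  rw [inP, one_five]; rfl

theorem mem_pat_iff {P : Fin 5 → Fin 5 → Bool} (hP : Tr P) {g : L5} :
    g ∈ pat P hP ↔ inPf (msk' P) (cd g) = true := by
  rw [mem_pat, Pat_iff_inP, inP_eq]

theorem mem_T0_iff {g : L5} : g ∈ T0 ↔ inPf mT (cd g) = true := by
  rw [T0, mem_pat_iff, msk_T]
theorem mem_V1_iff {g : L5} : g ∈ V1 ↔ inPf mV1 (cd g) = true := by
  rw [V1, mem_pat_iff, msk_V1]
theorem mem_V2_iff {g : L5} : g ∈ V2 ↔ inPf mV2 (cd g) = true := by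
  rw [V2, mem_pat_iff, msk_V2]
theorem mem_QQ_iff {g : L5} : g ∈ QQ ↔ inPf mQ (cd g) = true := by
  rw [QQ, mem_pat_iff, msk_Q]

theorem tc_ix {c : ℕ} (hc : c < 2 ^ 25) (h : inPf mT c = true) : tc (ix c) = c := by
  have h1 : c &&& mT = 17043521 &&& mT := Nat.eq_of_beq_eq_true h
  apply Nat.eq_of_testBit_eq
  intro p
  rw [testBit_tc]
  rcases Nat.lt_or_ge p 25 with hp | hp
  · have h2 := congrArg (fun n => Nat.testBit n p) h1
    simp only [Nat.testBit_and] at h2
    revert h2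
    interval_cases p <;>
      simp only [testBit_ix, mT, Nat.reduceLT, Nat.reduceLeDiff, Nat.reduceSub, Nat.reduceAdd,
        decide_true, decide_false, Bool.true_and, Bool.false_and, Bool.or_false, Bool.false_or,
        Nat.le_refl, Nat.lt_irrefl] <;>
      generalize c.testBit _ = b <;> revert b <;> decide
  · have e1 : c.testBit p = false :=
      Nat.testBit_lt_two_pow (lt_of_lt_of_le hc (Nat.pow_le_pow_right (by norm_num) hp))
    have e2 : (17043521 : ℕ).testBit p = false :=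
      Nat.testBit_lt_two_pow (lt_of_lt_of_le (by norm_num : (17043521 : ℕ) < 2 ^ 25)
        (Nat.pow_le_pow_right (by norm_num) hp))
    rw [e1, e2]
    have d1 : ¬ (p - 1 < 4) := by omega
    have d2 : ¬ (p - 7 < 3) := by omega
    have d3 : ¬ (p - 13 < 2) := by omega
    have d4 : ¬ (p - 19 < 1) := by omega
    simp [d1, d2, d3, d4]

theorem exists_tc {g : L5} (h : g ∈ T0) : ∃ a < 1024, cd g = tc a :=
  ⟨ix (cd g), ix_lt _, (tc_ix (by simpa using cd_lt g) (mem_T0_iff.1 h)).symm⟩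

/-! ### Elements with given codes, counting -/

def sqB (A : ℕ) : Bool := Nat.beq (mul 5 A A) 17043521
def commB (A B : ℕ) : Bool := Nat.beq (mul 5 A B) (mul 5 B A)

/-- the seventh power -/
def pow7 (A : ℕ) : ℕ := force (mul 5 A A) fun B => force (mul 5 B B) fun C => mul 5 A (mul 5 B C)

theorem chk_tc : allR (fun a => force (tc a) fun A =>
    inPf mT A && Nat.beq (ix A) a && Nat.beq (mul 5 A (pow7 A)) 17043521) 10 0 = true := by
  decide +kernel

theorem chk_tc' {a : ℕ} (ha : a < 1024) : inPf mT (tc a) = true ∧ ix (tc a) = a ∧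
    mul 5 (tc a) (pow7 (tc a)) = one 5 := by
  have h := allR_zero chk_tc a (by simpa using ha)
  rw [force_eq, Bool.and_eq_true, Bool.and_eq_true] at h
  exact ⟨h.1.1, Nat.eq_of_beq_eq_true h.1.2, by rw [one_five]; exact Nat.eq_of_beq_eq_true h.2⟩

theorem tc_lt (a : ℕ) : tc a < 2 ^ 25 := by
  have h1 : (a % 16) <<< 1 < 2 ^ 25 := by rw [Nat.shiftLeft_eq]; omega
  have h2 : ((a >>> 4) % 8) <<< 7 < 2 ^ 25 := by rw [Nat.shiftLeft_eq]; omega
  have h3 : ((a >>> 7) % 4) <<< 13 < 2 ^ 25 := by rw [Nat.shiftLeft_eq]; omega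
  have h4 : ((a >>> 9) % 2) <<< 19 < 2 ^ 25 := by rw [Nat.shiftLeft_eq]; omega
  exact Nat.or_lt_two_pow (Nat.or_lt_two_pow (Nat.or_lt_two_pow (Nat.or_lt_two_pow
    (by norm_num) h1) h2) h3) h4

theorem exists_elt {a : ℕ} (ha : a < 1024) : ∃ g ∈ T0, cd g = tc a := by
  have h := chk_tc' ha
  have h2 : Nat.beq (mul 5 (tc a) (pow7 (tc a))) (one 5) = true := by
    rw [h.2.2]; exact Nat.beq_refl _
  have h3 : cd (mk (tc a) (pow7 (tc a)) h2) = tc a :=
    cd_eq_of_toMat (by simpa using tc_lt a) rfl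
  exact ⟨mk (tc a) (pow7 (tc a)) h2, by rw [mem_T0_iff, h3]; exact h.1, h3⟩

theorem sqB_iff {g : L5} : sqB (cd g) = true ↔ g * g = 1 := by
  rw [sqB]
  constructor
  · intro h
    apply cd_inj
    rw [cd_mul, cd_one, one_five]
    exact Nat.eq_of_beq_eq_true h
  · intro h
    have := congrArg cd h
    rw [cd_mul, cd_one, one_five] at this
    rw [this]; exact Nat.beq_refl _

theorem commB_iff {g h : L5} : commB (cd g) (cd h) = true ↔ g * h = h * g := by
  rw [commB]
  constructor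
  · intro e
    apply cd_inj
    rw [cd_mul, cd_mul]
    exact Nat.eq_of_beq_eq_true e
  · intro e
    have := congrArg cd e
    rw [cd_mul, cd_mul] at this
    rw [this]; exact Nat.beq_refl _

/-- number of `lo ≤ i < lo + 2 ^ d` with `f i` -/
def cntR (f : ℕ → Bool) : ℕ → ℕ → ℕ
  | 0, lo => force lo fun m => cond (f m) 1 0
  | d + 1, lo => Nat.add (cntR f d lo) (force (Nat.add lo (Nat.pow 2 d)) fun m => cntR f d m)

theorem cntR_eq (f : ℕ → Bool) (d lo : ℕ) :
    cntR f d lo = ((Finset.Ico lo (lo + 2 ^ d)).filter fun i => f i = true).card := by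
  induction d generalizing lo with
  | zero =>
    rw [cntR, force_eq, pow_zero, Nat.Ico_succ_singleton, Finset.filter_singleton]
    cases f lo <;> simp
  | succ d ih =>
    rw [cntR, force_eq]
    show cntR f d lo + cntR f d (lo + 2 ^ d) = _
    rw [ih, ih, pow_succ]
    have h1 : Finset.Ico lo (lo + 2 ^ d * 2) =
        Finset.Ico lo (lo + 2 ^ d) ∪ Finset.Ico (lo + 2 ^ d) (lo + 2 ^ d + 2 ^ d) := by
      rw [Finset.Ico_union_Ico_eq_Ico (Nat.le_add_right _ _) (Nat.le_add_right _ _)]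
      congr 1; ring
    rw [h1, Finset.filter_union, Finset.card_union_of_disjoint]
    apply Finset.disjoint_filter_filter
    exact Finset.Ico_disjoint_Ico_consecutive _ _ _

/-- The order of a subgroup of `T0` with a Boolean membership test. -/
theorem card_eq_cntR {H : Subgroup L5} (hH : H ≤ T0) (f : ℕ → Bool)
    (hf : ∀ g ∈ T0, g ∈ H ↔ f (cd g) = true) : Nat.card H = cntR (fun a => f (tc a)) 10 0 := by
  rw [cntR_eq]
  set F := (Finset.Ico 0 (0 + 2 ^ 10)).filter fun i => f (tc i) = true with hF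
  have hmem : ∀ h : H, ix (cd (h : L5)) ∈ F := by
    intro h
    have h1 := hH h.2
    rw [hF, Finset.mem_filter, Finset.mem_Ico]
    refine ⟨⟨Nat.zero_le _, by simpa using ix_lt _⟩, ?_⟩
    rw [tc_ix (by simpa using cd_lt _) (mem_T0_iff.1 h1)]
    exact (hf _ h1).1 h.2
  have e : Nat.card H = Nat.card F := by
    refine Nat.card_congr (Equiv.ofBijective (fun h : H => (⟨ix (cd (h : L5)), hmem h⟩ : F))
      ⟨?_, ?_⟩)
    · intro g h e
      have e1 : ix (cd (g : L5)) = ix (cd (h : L5)) := congrArg Subtype.val e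
      apply Subtype.ext
      apply cd_inj
      rw [← tc_ix (by simpa using cd_lt (g : L5)) (mem_T0_iff.1 (hH g.2)), e1,
        tc_ix (by simpa using cd_lt (h : L5)) (mem_T0_iff.1 (hH h.2))]
    · rintro ⟨a, ha⟩
      rw [hF, Finset.mem_filter, Finset.mem_Ico] at ha
      have ha' : a < 1024 := by simpa using ha.1.2
      obtain ⟨g, hg, hc⟩ := exists_elt ha'
      have hgH : g ∈ H := (hf g hg).2 (by rw [hc]; exact ha.2)
      refine ⟨⟨g, hgH⟩, Subtype.ext ?_⟩
      show ix (cd g) = a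
      rw [hc, (chk_tc' ha').2.1]
  rw [e, Nat.card_eq_fintype_card, Fintype.card_coe]

theorem card_T0 : Nat.card T0 = 1024 := by
  rw [card_eq_cntR le_rfl (inPf mT) (fun g _ => mem_T0_iff)]
  decide +kernel

theorem card_V1 : Nat.card V1 = 64 := by
  rw [card_eq_cntR V1_le_T0 (inPf mV1) (fun g _ => mem_V1_iff)]
  decide +kernel

theorem card_V2 : Nat.card V2 = 64 := by
  rw [card_eq_cntR V2_le_T0 (inPf mV2) (fun g _ => mem_V2_iff)]
  decide +kernel

theorem card_QQ : Nat.card QQ = 128 := by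
  rw [card_eq_cntR QQ_le_T0 (inPf mQ) (fun g _ => mem_QQ_iff)]
  decide +kernel

theorem card_L5 : Nat.card L5 = 9999360 := by
  have h := Cfsg.Agent.S0242.result (F := ZMod 2) (q := 2) (by simp) 5 (by norm_num)
  show Nat.card (SpecialLinearGroup (Fin 5) (ZMod 2)) = 9999360
  generalize Nat.card (SpecialLinearGroup (Fin 5) (ZMod 2)) = n at h ⊢
  have h2 : ∏ i : Fin 5, (2 ^ 5 - 2 ^ (i : ℕ)) = 9999360 := by decide +kernel
  rw [h2] at h
  omega

end Cfsg.Agent.SporadicRecognition.HeldModel
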