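import Mathlib
import Cfsg.Agent.SporadicRecognition.HeldEnum

/-!
# The elementary abelian subgroups of order `64` of the unitriangular group `T0`
-/

set_option autoImplicit false

namespace Cfsg.Agent.SporadicRecognition.HeldModel

open Matrix Cfsg.Agent.Lib.F2Mat

/-! ### The elementary abelian subgroups of order `64` of `T0` -/

/-- codes of the elements of `T0` of order at most `2` -/
def invL : List ℕ := [17043521, 17043523, 17043525, 17043527, 17043529, 17043531, 17043533, 17043535, 17043537, 17043539, 17043541, 17043543, 17043545, 17043547, 17043549, 17043551, 17043649, 17043653, 17043657, 17043661, 17043665, 17043669, 17043673, 17043677, 17043777, 17043781, 17043785, 17043789, 17043793, 17043797, 17043801, 17043805, 17043905, 17043909, 17043913, 17043917, 17043921, 17043925, 17043929, 17043933, 17044033, 17044037, 17044041, 17044045, 17044049, 17044053, 17044057, 17044061, 17044161, 17044165, 17044169, 17044173, 17044177, 17044181, 17044185, 17044189, 17044289, 17044293, 17044297, 17044301, 17044305, 17044309, 17044313, 17044317, 17044417, 17044421, 17044425, 17044429, 17044433, 17044437, 17044441, 17044445, 17051713, 17051715, 17051721, 17051723, 17051729,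 17051731, 17051737, 17051739, 17051969, 17051975, 17051977, 17051983, 17051985, 17051991, 17051993, 17051999, 17052225, 17052233, 17052241, 17052249, 17052481, 17052489, 17052497, 17052505, 17059905, 17059907, 17059913, 17059915, 17059921, 17059923, 17059929, 17059931, 17060161, 17060169, 17060177, 17060185, 17060417, 17060423, 17060425, 17060431, 17060433, 17060439, 17060441, 17060447, 17060673, 17060681, 17060689, 17060697, 17068097, 17068099, 17068105, 17068107, 17068113, 17068115, 17068121, 17068123, 17068353, 17068361, 17068369, 17068377, 17068609, 17068617, 17068625, 17068633, 17068865, 17068871, 17068873, 17068879, 17068881, 17068887, 17068889, 17068895, 17567809, 17567811, 17567813, 17567815, 17567825, 17567827, 17567829, 17567831, 17567937, 17567941, 17567953, 17567957, 17568321, 17568325, 17568331, 17568335, 17568337, 17568341, 17568347, 17568351, 17568449, 17568453, 17568465, 17568469, 17584193, 17584195, 17584205, 17584207, 17584209, 17584211, 17584221, 17584223, 17584577, 17584589, 17584593, 17584605, 17584705, 17584711, 17584715, 17584717, 17584721, 17584727, 17584731, 17584733, 17585089, 17585101, 17585105, 17585117]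

theorem chk_invL : allR (fun a => force (tc a) fun A => !(sqB A) || invL.elem A) 10 0 = true := by
  decide +kernel

theorem mem_invL {g : L5} (hg : g ∈ T0) (h2 : g * g = 1) : cd g ∈ invL := by
  obtain ⟨a, ha, hc⟩ := exists_tc hg
  have h := allR_zero chk_invL a (by simpa using ha)
  rw [force_eq, ← hc, sqB_iff.2 h2] at h
  simpa using h

/-- number of elements of the list commuting with `A` -/
def cntL (A : ℕ) (l : List ℕ) : ℕ := l.countP fun B => commB A B

theorem chk_comm : (invL.all fun A => inPf mV1 A || (inPf mV2 A || Nat.blt (cntL A invL) 64))
    = true := by
  decide +kernel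

end Cfsg.Agent.SporadicRecognition.HeldModel
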