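import Mathlib
import Cfsg.Agent.SporadicRecognition.HeldElab

/-!
# Sylow 2-subgroup, weak closure of `V1`, `V2` and control of fusion
-/

set_option autoImplicit false

namespace Cfsg.Agent.SporadicRecognition.HeldModel

open Matrix Cfsg.Agent.Lib.F2Mat

theorem mem_of_cnt {A : Subgroup L5} (hA : A ≤ T0) (h2 : ∀ a ∈ A, a * a = 1)
    (h64 : Nat.card A = 64) {a : L5} (ha : a ∈ A) : a ∈ V1 ∨ a ∈ V2 := by
  classical
  by_contra hcon
  rw [not_or] at hcon
  have h1 := List.all_eq_true.1 chk_comm (cd a) (mem_invL (hA ha) (h2 a ha))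
  have e1 : inPf mV1 (cd a) = false := by
    cases h : inPf mV1 (cd a) with
    | false => rfl
    | true => exact absurd (mem_V1_iff.2 h) hcon.1
  have e2 : inPf mV2 (cd a) = false := by
    cases h : inPf mV2 (cd a) with
    | false => rfl
    | true => exact absurd (mem_V2_iff.2 h) hcon.2
  rw [e1, e2, Bool.false_or, Bool.false_or, Nat.blt_eq, cntL, List.countP_eq_length_filter] at h1
  -- `A` injects into the filtered list
  have hcomm : ∀ b ∈ A, a * b = b * a := by
    intro b hb
    have hab := h2 _ (A.mul_mem ha hb)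
    have haa := h2 a ha
    have hbb := h2 b hb
    calc a * b = a * (a * b * (a * b)) * b := by rw [hab, mul_one]
      _ = (a * a) * b * a * (b * b) := by group
      _ = b * a := by rw [haa, hbb, one_mul, mul_one]
  have hsub : ∀ b : A, cd (b : L5) ∈ (invL.filter fun B => commB (cd a) B).toFinset := by
    intro b
    rw [List.mem_toFinset, List.mem_filter]
    exact ⟨mem_invL (hA b.2) (h2 _ b.2), commB_iff.2 (hcomm b b.2)⟩
  have hle : Nat.card A ≤ (invL.filter fun B => commB (cd a) B).toFinset.card := by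
    have h3 : Nat.card ((invL.filter fun B => commB (cd a) B).toFinset) =
        (invL.filter fun B => commB (cd a) B).toFinset.card := by
      rw [Nat.card_eq_fintype_card, Fintype.card_coe]
    rw [← h3]
    refine Nat.card_le_card_of_injective (fun b : A =>
      (⟨cd (b : L5), hsub b⟩ : (invL.filter fun B => commB (cd a) B).toFinset)) ?_
    intro b c e
    exact Subtype.ext (cd_inj (congrArg Subtype.val e))
  have := List.toFinset_card_le (invL.filter fun B => commB (cd a) B)
  omega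

/-- `V1` and `V2` are the only elementary abelian subgroups of order `64` of `T0`. -/
theorem elab64 (A : Subgroup L5) (hA : A ≤ T0) (h2 : ∀ a ∈ A, a * a = 1)
    (h64 : Nat.card A = 64) : A = V1 ∨ A = V2 := by
  have hu : A ≤ V1 ∨ A ≤ V2 := by
    by_contra hcon
    rw [not_or, SetLike.not_le_iff_exists, SetLike.not_le_iff_exists] at hcon
    obtain ⟨⟨a, ha, ha1⟩, ⟨b, hb, hb2⟩⟩ := hcon
    have ha2 : a ∈ V2 := (mem_of_cnt hA h2 h64 ha).resolve_left ha1
    have hb1 : b ∈ V1 := (mem_of_cnt hA h2 h64 hb).resolve_right hb2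
    rcases mem_of_cnt hA h2 h64 (A.mul_mem ha hb) with h | h
    · exact ha1 (by simpa using V1.mul_mem h (V1.inv_mem hb1))
    · exact hb2 (by simpa using V2.mul_mem (V2.inv_mem ha2) h)
  rcases hu with h | h
  · exact Or.inl (Subgroup.eq_of_le_of_card_ge h (by rw [card_V1, h64]))
  · exact Or.inr (Subgroup.eq_of_le_of_card_ge h (by rw [card_V2, h64]))

/-! ### The centraliser of `T0` -/

theorem x_mem_T0 {i j : Fin 5} (h : i < j) : x i j h.ne ∈ T0 := by
  intro k l hkl
  rw [coe_x, Matrix.sub_apply, transvection_apply', Matrix.one_apply, add_sub_cancel_left]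
  rw [if_neg]
  rintro ⟨rfl, rfl⟩
  simp [PT, h] at hkl

/-- commuting with `1 + E_ij` -/
theorem comm_x {g : L5} {i j : Fin 5} (h : i ≠ j) (hc : g * x i j h = x i j h * g) (k l : Fin 5) :
    (if l = j then (g : Matrix (Fin 5) (Fin 5) (ZMod 2)) k i else 0) =
      if k = i then (g : Matrix (Fin 5) (Fin 5) (ZMod 2)) j l else 0 := by
  have h1 : ((g * x i j h : L5) : Matrix (Fin 5) (Fin 5) (ZMod 2)) k l =
      ((x i j h * g : L5) : Matrix (Fin 5) (Fin 5) (ZMod 2)) k l := by rw [hc]
  have e0 : ((g * x i j h : L5) : Matrix (Fin 5) (Fin 5) (ZMod 2)) =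
      (g : Matrix (Fin 5) (Fin 5) (ZMod 2)) * transvection i j 1 := rfl
  have e1 : ((x i j h * g : L5) : Matrix (Fin 5) (Fin 5) (ZMod 2)) =
      transvection i j 1 * (g : Matrix (Fin 5) (Fin 5) (ZMod 2)) := rfl
  rw [e0, e1, transvection, mul_add, add_mul, mul_one, one_mul, Matrix.add_apply,
    Matrix.add_apply] at h1
  have h2 := add_left_cancel h1
  have l1 : ((g : Matrix (Fin 5) (Fin 5) (ZMod 2)) * single i j (1 : ZMod 2) :
      Matrix (Fin 5) (Fin 5) (ZMod 2)) k l =
      if l = j then (g : Matrix (Fin 5) (Fin 5) (ZMod 2)) k i else 0 := by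
    by_cases hl : l = j
    · rw [if_pos hl, hl]; simp
    · rw [if_neg hl, Matrix.mul_single_apply_of_ne]; exact hl
  have r1 : (single i j (1 : ZMod 2) * (g : Matrix (Fin 5) (Fin 5) (ZMod 2)) :
      Matrix (Fin 5) (Fin 5) (ZMod 2)) k l =
      if k = i then (g : Matrix (Fin 5) (Fin 5) (ZMod 2)) j l else 0 := by
    by_cases hk : k = i
    · rw [if_pos hk, hk]; simp
    · rw [if_neg hk, Matrix.single_mul_apply_of_ne]; exact hk
  rw [l1, r1] at h2
  exact h2

/-- `C_{CC}(T0) = {1, zz}` -/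
theorem centralizer_T0 {g : L5} (hC : g ∈ CC) (h : ∀ t ∈ T0, g * t = t * g) :
    g = 1 ∨ g = zz := by
  have h01 := comm_x (show (0 : Fin 5) ≠ 1 by decide) (h _ (x_mem_T0 (by decide)))
  have h12 := comm_x (show (1 : Fin 5) ≠ 2 by decide) (h _ (x_mem_T0 (by decide)))
  have h23 := comm_x (show (2 : Fin 5) ≠ 3 by decide) (h _ (x_mem_T0 (by decide)))
  have h34 := comm_x (show (3 : Fin 5) ≠ 4 by decide) (h _ (x_mem_T0 (by decide)))
  have hP := mem_CC_iff_pat.1 hC
  have g00 : (g : Matrix (Fin 5) (Fin 5) (ZMod 2)) 0 0 = 1 := by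
    have := hP 0 0 (by decide)
    rw [Matrix.sub_apply, sub_eq_zero] at this
    rw [this]; rfl
  have key : ∀ i j : Fin 5, ¬ (i = 0 ∧ j = 4) →
      (g : Matrix (Fin 5) (Fin 5) (ZMod 2)) i j = (1 : Matrix (Fin 5) (Fin 5) (ZMod 2)) i j := by
    have g11 : (g : Matrix (Fin 5) (Fin 5) (ZMod 2)) 1 1 = 1 := by
      have := h01 0 1; simpa [g00] using this.symm
    have g22 : (g : Matrix (Fin 5) (Fin 5) (ZMod 2)) 2 2 = 1 := by
      have := h12 1 2; simpa [g11] using this.symm
    have g33 : (g : Matrix (Fin 5) (Fin 5) (ZMod 2)) 3 3 = 1 := by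
      have := h23 2 3; simpa [g22] using this.symm
    have g44 : (g : Matrix (Fin 5) (Fin 5) (ZMod 2)) 4 4 = 1 := by
      have := h34 3 4; simpa [g33] using this.symm
    have c0 : ∀ k : Fin 5, k ≠ 0 → (g : Matrix (Fin 5) (Fin 5) (ZMod 2)) k 0 = 0 := by
      intro k hk; have := h01 k 1; rwa [if_pos rfl, if_neg hk] at this
    have c1 : ∀ k : Fin 5, k ≠ 1 → (g : Matrix (Fin 5) (Fin 5) (ZMod 2)) k 1 = 0 := by
      intro k hk; have := h12 k 2; rwa [if_pos rfl, if_neg hk] at this
    have c2 : ∀ k : Fin 5, k ≠ 2 → (g : Matrix (Fin 5) (Fin 5) (ZMod 2)) k 2 = 0 := by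
      intro k hk; have := h23 k 3; rwa [if_pos rfl, if_neg hk] at this
    have c3 : ∀ k : Fin 5, k ≠ 3 → (g : Matrix (Fin 5) (Fin 5) (ZMod 2)) k 3 = 0 := by
      intro k hk; have := h34 k 4; rwa [if_pos rfl, if_neg hk] at this
    have r1 : (g : Matrix (Fin 5) (Fin 5) (ZMod 2)) 1 4 = 0 := by
      have := h01 0 4; rw [if_neg (by decide), if_pos rfl] at this; exact this.symm
    have r2 : (g : Matrix (Fin 5) (Fin 5) (ZMod 2)) 2 4 = 0 := by
      have := h12 1 4; rw [if_neg (by decide), if_pos rfl] at this; exact this.symm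
    have r3 : (g : Matrix (Fin 5) (Fin 5) (ZMod 2)) 3 4 = 0 := by
      have := h23 2 4; rw [if_neg (by decide), if_pos rfl] at this; exact this.symm
    intro i j hij
    fin_cases i <;> fin_cases j <;> first
      | exact g00 | exact g11 | exact g22 | exact g33 | exact g44
      | exact c0 _ (by decide) | exact c1 _ (by decide) | exact c2 _ (by decide)
      | exact c3 _ (by decide) | exact r1 | exact r2 | exact r3
      | exact absurd ⟨rfl, rfl⟩ hij
  rcases zmod2_cases ((g : Matrix (Fin 5) (Fin 5) (ZMod 2)) 0 4) with h0 | h0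
  · left
    apply Subtype.ext
    ext i j
    by_cases hij : i = 0 ∧ j = 4
    · rw [hij.1, hij.2, h0]; rfl
    · exact key i j hij
  · right
    apply Subtype.ext
    ext i j
    rw [coe_zz, transvection_apply']
    by_cases hij : i = 0 ∧ j = 4
    · rw [hij.1, hij.2, h0]; rfl
    · rw [key i j hij, Matrix.one_apply, if_neg (c := (0 : Fin 5) = i ∧ (4 : Fin 5) = j), add_zero]
      rintro ⟨rfl, rfl⟩; exact hij ⟨rfl, rfl⟩

end Cfsg.Agent.SporadicRecognition.HeldModel
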