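import Mathlib
import Cfsg.Agent.SporadicRecognition.HeldSylow

/-!
# The order of the model `CC` and the Sylow 2-subgroup
-/

set_option autoImplicit false

namespace Cfsg.Agent.SporadicRecognition.HeldModel

open Matrix Cfsg.Agent.Lib.F2Mat

abbrev L3 := SpecialLinearGroup (Fin 3) (ZMod 2)

theorem det_eq_one_of_mul {n : ℕ} {A B : Matrix (Fin n) (Fin n) (ZMod 2)} (h : A * B = 1) :
    A.det = 1 := by
  have h2 : A.det * B.det = 1 := by rw [← det_mul, h, det_one]
  rcases zmod2_cases A.det with h3 | h3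
  · rw [h3, zero_mul] at h2; exact absurd h2 (by decide)
  · exact h3

/-- the middle block -/
def mid (M : Matrix (Fin 5) (Fin 5) (ZMod 2)) : Matrix (Fin 3) (Fin 3) (ZMod 2) :=
  !![M 1 1, M 1 2, M 1 3; M 2 1, M 2 2, M 2 3; M 3 1, M 3 2, M 3 3]

theorem CC_entry {g : L5} (hg : g ∈ CC) {i j : Fin 5} (h : PC i j = false) :
    (g : Matrix (Fin 5) (Fin 5) (ZMod 2)) i j = (1 : Matrix (Fin 5) (Fin 5) (ZMod 2)) i j := by
  have := mem_CC_iff_pat.1 hg i j h
  rwa [Matrix.sub_apply, sub_eq_zero] at this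

theorem mid_mul {g h : L5} (hg : g ∈ CC) (hh : h ∈ CC) :
    mid ((g : Matrix (Fin 5) (Fin 5) (ZMod 2)) * (h : Matrix (Fin 5) (Fin 5) (ZMod 2))) =
      mid g * mid h := by
  have c0 : ∀ i : Fin 5, i ≠ 0 → (g : Matrix (Fin 5) (Fin 5) (ZMod 2)) i 0 = 0 := by
    intro i hi
    rw [CC_entry hg (by simp [PC]), Matrix.one_apply_ne hi]
  have r4 : ∀ j : Fin 5, j ≠ 4 → (h : Matrix (Fin 5) (Fin 5) (ZMod 2)) 4 j = 0 := by
    intro j hj
    rw [CC_entry hh (by simp [PC]), Matrix.one_apply_ne (Ne.symm hj)]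
  ext i j
  fin_cases i <;> fin_cases j <;>
    simp [mid, Matrix.mul_apply, Fin.sum_univ_five, Fin.sum_univ_three, c0, r4]

/-- the block embedding -/
def big (M : Matrix (Fin 3) (Fin 3) (ZMod 2)) : Matrix (Fin 5) (Fin 5) (ZMod 2) :=
  !![1, 0, 0, 0, 0; 0, M 0 0, M 0 1, M 0 2, 0; 0, M 1 0, M 1 1, M 1 2, 0;
    0, M 2 0, M 2 1, M 2 2, 0; 0, 0, 0, 0, 1]

theorem big_mul (M N : Matrix (Fin 3) (Fin 3) (ZMod 2)) : big (M * N) = big M * big N := by
  ext i j
  fin_cases i <;> fin_cases j <;>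
    simp [big, Matrix.mul_apply, Fin.sum_univ_five, Fin.sum_univ_three]

theorem big_one : big 1 = 1 := by
  ext i j
  fin_cases i <;> fin_cases j <;> rfl

theorem mid_big (M : Matrix (Fin 3) (Fin 3) (ZMod 2)) : mid (big M) = M := by
  ext i j
  fin_cases i <;> fin_cases j <;> rfl

theorem mid_one : mid 1 = 1 := by
  ext i j
  fin_cases i <;> fin_cases j <;> rfl

/-- the projection of the model onto `SL(3, 2)` -/
def toL3 : CC →* L3 where
  toFun g := ⟨mid (g : L5), by
    refine det_eq_one_of_mul (B := mid ((g⁻¹ : CC) : L5)) ?_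
    rw [← mid_mul g.2 (g⁻¹).2]
    have : ((g : L5) : Matrix (Fin 5) (Fin 5) (ZMod 2)) *
        (((g⁻¹ : CC) : L5) : Matrix (Fin 5) (Fin 5) (ZMod 2)) = 1 := by
      have h1 : (g : L5) * ((g⁻¹ : CC) : L5) = 1 := by
        rw [← Subgroup.coe_mul, mul_inv_cancel]; rfl
      calc ((g : L5) : Matrix (Fin 5) (Fin 5) (ZMod 2)) *
        (((g⁻¹ : CC) : L5) : Matrix (Fin 5) (Fin 5) (ZMod 2)) =
          (((g : L5) * ((g⁻¹ : CC) : L5) : L5) : Matrix (Fin 5) (Fin 5) (ZMod 2)) := rfl
        _ = ((1 : L5) : Matrix (Fin 5) (Fin 5) (ZMod 2)) := by rw [h1]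
        _ = 1 := rfl
    exact (congrArg mid this).trans mid_one⟩
  map_one' := Subtype.ext mid_one
  map_mul' := fun g h => Subtype.ext (mid_mul g.2 h.2)

theorem toL3_surjective : Function.Surjective toL3 := by
  intro M
  have h1 : big (M : Matrix (Fin 3) (Fin 3) (ZMod 2)) *
      big ((M⁻¹ : L3) : Matrix (Fin 3) (Fin 3) (ZMod 2)) = 1 := by
    rw [← big_mul]
    have : (M : Matrix (Fin 3) (Fin 3) (ZMod 2)) *
        ((M⁻¹ : L3) : Matrix (Fin 3) (Fin 3) (ZMod 2)) = 1 :=
      congrArg Subtype.val (mul_inv_cancel M)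
    rw [this, big_one]
  refine ⟨⟨⟨big M, det_eq_one_of_mul h1⟩, mem_CC_iff_pat.2 ?_⟩, Subtype.ext (mid_big _)⟩
  intro i j hij
  rw [Matrix.sub_apply, sub_eq_zero]
  revert hij
  fin_cases i <;> fin_cases j <;> first
    | exact fun _ => rfl
    | exact fun h => absurd h (by decide)

theorem toL3_ker : toL3.ker = QQ.subgroupOf CC := by
  ext g
  rw [MonoidHom.mem_ker, Subgroup.mem_subgroupOf]
  constructor
  · intro h i j hij
    have h1 : mid (g : L5) = 1 := congrArg Subtype.val h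
    rw [Matrix.sub_apply, sub_eq_zero]
    by_cases hp : PC i j = false
    · exact CC_entry g.2 hp
    · have e : ∀ a b : Fin 3, mid ((g : L5) : Matrix (Fin 5) (Fin 5) (ZMod 2)) a b =
          (1 : Matrix (Fin 3) (Fin 3) (ZMod 2)) a b := fun a b => by rw [h1]
      revert hij hp
      fin_cases i <;> fin_cases j <;> first
        | exact fun h _ => absurd h (by decide)
        | exact fun _ h => absurd (by decide) h
        | exact fun _ _ => e 0 0 | exact fun _ _ => e 0 1 | exact fun _ _ => e 0 2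
        | exact fun _ _ => e 1 0 | exact fun _ _ => e 1 1 | exact fun _ _ => e 1 2
        | exact fun _ _ => e 2 0 | exact fun _ _ => e 2 1 | exact fun _ _ => e 2 2
  · intro h
    apply Subtype.ext
    have e : ∀ i j : Fin 5, PQ i j = false → ((g : L5) : Matrix (Fin 5) (Fin 5) (ZMod 2)) i j =
        (1 : Matrix (Fin 5) (Fin 5) (ZMod 2)) i j := by
      intro i j hij
      have := h i j hij
      rwa [Matrix.sub_apply, sub_eq_zero] at this
    show mid ((g : L5) : Matrix (Fin 5) (Fin 5) (ZMod 2)) = 1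
    ext a b
    fin_cases a <;> fin_cases b
    · exact e 1 1 (by decide)
    · exact e 1 2 (by decide)
    · exact e 1 3 (by decide)
    · exact e 2 1 (by decide)
    · exact e 2 2 (by decide)
    · exact e 2 3 (by decide)
    · exact e 3 1 (by decide)
    · exact e 3 2 (by decide)
    · exact e 3 3 (by decide)

theorem card_L3 : Nat.card L3 = 168 := by
  have h := Cfsg.Agent.S0242.result (F := ZMod 2) (q := 2) (by simp) 3 (by norm_num)
  show Nat.card (SpecialLinearGroup (Fin 3) (ZMod 2)) = 168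
  generalize Nat.card (SpecialLinearGroup (Fin 3) (ZMod 2)) = n at h ⊢
  have h2 : ∏ i : Fin 3, (2 ^ 3 - 2 ^ (i : ℕ)) = 168 := by decide +kernel
  rw [h2] at h
  omega

theorem card_CC : Nat.card CC = 21504 := by
  have h1 : Nat.card (CC ⧸ toL3.ker) = 168 := by
    rw [← card_L3]
    exact Nat.card_congr (QuotientGroup.quotientKerEquivOfSurjective _ toL3_surjective).toEquiv
  have h2 : Nat.card toL3.ker = 128 := by
    rw [toL3_ker, ← card_QQ]
    exact Nat.card_congr (Subgroup.subgroupOfEquivOfLe QQ_le_CC).toEquiv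
  have h3 := Subgroup.card_eq_card_quotient_mul_card_subgroup toL3.ker
  rw [h1, h2] at h3
  omega

instance QQ_normal : (QQ.subgroupOf CC).Normal := by
  rw [← toL3_ker]; infer_instance

theorem isPGroup_QQ : IsPGroup 2 (QQ.subgroupOf CC) := by
  refine IsPGroup.of_card (n := 7) ?_
  rw [Nat.card_congr (Subgroup.subgroupOfEquivOfLe QQ_le_CC).toEquiv, card_QQ]
  norm_num

end Cfsg.Agent.SporadicRecognition.HeldModel
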