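import Mathlib
import Cfsg.Agent.SporadicRecognition.HeldCard

/-!
# Sylow 2-subgroup of `G`, weak closure of `V1`, `V2` and control of fusion
-/

set_option autoImplicit false

namespace Cfsg.Agent.SporadicRecognition.HeldModel

open Matrix Cfsg.Agent.Lib.F2Mat

/-! ### Abstract: weakly closed abelian subgroups control fusion -/

/-- the conjugate subgroup -/
def cj {G : Type*} [Group G] (g : G) (V : Subgroup G) : Subgroup G :=
  V.map (MulAut.conj g).toMonoidHom

theorem mem_cj {G : Type*} [Group G] {g : G} {V : Subgroup G} {w : G} :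
    w ∈ cj g V ↔ ∃ v ∈ V, g * v * g⁻¹ = w := Iff.rfl

theorem mem_cj' {G : Type*} [Group G] {g : G} {V : Subgroup G} {w : G} :
    w ∈ cj g V ↔ g⁻¹ * w * g ∈ V := by
  rw [mem_cj]
  constructor
  · rintro ⟨v, hv, rfl⟩
    have : g⁻¹ * (g * v * g⁻¹) * g = v := by group
    rwa [this]
  · intro h
    exact ⟨_, h, by group⟩

theorem card_cj {G : Type*} [Group G] (g : G) (V : Subgroup G) :
    Nat.card (cj g V) = Nat.card V :=
  Subgroup.card_map_of_injective (MulAut.conj g).injective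

/-- A weakly closed abelian subgroup `V` of a Sylow subgroup: fusion between elements of `V` is
controlled by the normaliser. -/
theorem exists_norm_of_weak {G : Type*} [Group G] [Finite G] {p : ℕ} [Fact p.Prime] (T : Sylow p G)
    (V : Subgroup G) (hVT : V ≤ T) (hab : ∀ x ∈ V, ∀ y ∈ V, x * y = y * x)
    (hw : ∀ g : G, (∀ v ∈ V, g * v * g⁻¹ ∈ (T : Subgroup G)) → ∀ v ∈ V, g * v * g⁻¹ ∈ V)
    {a b g : G} (ha : a ∈ V) (hb : b ∈ V) (h : g * a * g⁻¹ = b) :
    ∃ n : G, n * a * n⁻¹ = b ∧ ∀ v, v ∈ V ↔ n * v * n⁻¹ ∈ V := by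
  classical
  set D := Subgroup.centralizer ({b} : Set G) with hD
  -- `V` and `g V g⁻¹` inside `D`
  have hVD : V ≤ D := fun v hv => by
    rw [hD, Subgroup.mem_centralizer_singleton_iff]; exact hab v hv b hb
  set W := V.map (MulAut.conj g).toMonoidHom with hW
  have hWD : W ≤ D := by
    rintro _ ⟨v, hv, rfl⟩
    rw [hD, Subgroup.mem_centralizer_singleton_iff, ← h]
    show g * v * g⁻¹ * (g * a * g⁻¹) = g * a * g⁻¹ * (g * v * g⁻¹)
    calc g * v * g⁻¹ * (g * a * g⁻¹) = g * (v * a) * g⁻¹ := by group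
      _ = g * (a * v) * g⁻¹ := by rw [hab v hv a ha]
      _ = _ := by group
  have hVp : IsPGroup p V := T.isPGroup'.to_le hVT
  have hWp : IsPGroup p W := hVp.map _
  have hV' : IsPGroup p (V.subgroupOf D) := hVp.comap_of_injective _ (Subgroup.subtype_injective _)
  have hW' : IsPGroup p (W.subgroupOf D) := hWp.comap_of_injective _ (Subgroup.subtype_injective _)
  obtain ⟨S1, hS1⟩ := hV'.exists_le_sylow
  obtain ⟨S2, hS2⟩ := hW'.exists_le_sylow
  obtain ⟨c, hc⟩ := MulAction.exists_smul_eq D S2 S1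
  have hS1p : IsPGroup p ((S1 : Subgroup D).map D.subtype) := S1.isPGroup'.map _
  obtain ⟨P, hP⟩ := hS1p.exists_le_sylow
  obtain ⟨y, hy⟩ := MulAction.exists_smul_eq G P T
  -- `y P y⁻¹ = T`
  have hyP : ∀ u ∈ (P : Subgroup G), y * u * y⁻¹ ∈ (T : Subgroup G) := by
    intro u hu
    rw [← hy, Sylow.smul_def, Sylow.pointwise_smul_def]
    refine (Subgroup.mem_pointwise_smul_iff_inv_smul_mem).2 ?_
    have : (MulAut.conj y)⁻¹ • (y * u * y⁻¹) = u := by
      simp [MulAut.smul_def]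
      group
    rw [this]; exact hu
  have hcS : ∀ u ∈ (S2 : Subgroup D), c * u * c⁻¹ ∈ (S1 : Subgroup D) := by
    intro u hu
    rw [← hc, Sylow.smul_def, Sylow.pointwise_smul_def]
    refine (Subgroup.mem_pointwise_smul_iff_inv_smul_mem).2 ?_
    have : (MulAut.conj c)⁻¹ • (c * u * c⁻¹) = u := by
      simp [MulAut.smul_def]
      group
    rw [this]; exact hu
  have h1 : ∀ v ∈ V, y * v * y⁻¹ ∈ V := by
    apply hw
    intro v hv
    apply hyP
    apply hP
    exact ⟨⟨v, hVD hv⟩, hS1 hv, rfl⟩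
  have h2 : ∀ v ∈ V, (y * (c : G) * g) * v * (y * (c : G) * g)⁻¹ ∈ V := by
    apply hw
    intro v hv
    have e : (y * (c : G) * g) * v * (y * (c : G) * g)⁻¹ =
      y * ((c : G) * (g * v * g⁻¹) * (c : G)⁻¹) * y⁻¹ := by group
    rw [e]
    apply hyP
    apply hP
    have hgv : g * v * g⁻¹ ∈ W := ⟨v, hv, rfl⟩
    exact ⟨c * ⟨g * v * g⁻¹, hWD hgv⟩ * c⁻¹, hcS _ (hS2 hgv), rfl⟩
  -- maps are bijective on `V`
  have key : ∀ m : G, (∀ v ∈ V, m * v * m⁻¹ ∈ V) → ∀ v, m * v * m⁻¹ ∈ V → v ∈ V := by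
    intro m hm v hv
    have hle : V.map (MulAut.conj m).toMonoidHom ≤ V := by
      rintro _ ⟨u, hu, rfl⟩; exact hm u hu
    have heq : V.map (MulAut.conj m).toMonoidHom = V :=
      Subgroup.eq_of_le_of_card_ge hle (by
        rw [Subgroup.card_map_of_injective (MulAut.conj m).injective])
    rw [← heq] at hv
    obtain ⟨u, hu, hu'⟩ := hv
    have hu'' : m * u * m⁻¹ = m * v * m⁻¹ := hu'
    have : u = v := by
      have := congrArg (fun t => m⁻¹ * t * m) hu''
      simpa [mul_assoc] using this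
    rwa [← this]
  have hcb : (c : G) * b * (c : G)⁻¹ = b := by
    have hc2 : (c : G) ∈ Subgroup.centralizer ({b} : Set G) := c.2
    rw [Subgroup.mem_centralizer_singleton_iff] at hc2
    rw [hc2]; group
  have hn : ∀ v ∈ V, ((c : G) * g) * v * ((c : G) * g)⁻¹ ∈ V := by
    intro v hv
    apply key y h1
    have := h2 v hv
    have e : (y * (c : G) * g) * v * (y * (c : G) * g)⁻¹ =
      y * (((c : G) * g) * v * ((c : G) * g)⁻¹) * y⁻¹ := by group
    rwa [e] at this
  refine ⟨(c : G) * g, ?_, fun v => ⟨hn v, key _ hn v⟩⟩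
  calc (c : G) * g * a * ((c : G) * g)⁻¹ = (c : G) * (g * a * g⁻¹) * (c : G)⁻¹ := by group
    _ = b := by rw [h, hcb]

section Main

variable {G : Type*} [Group G] {z : G} {ι : CC →* G}

/-- the element of the model -/
theorem Hyp.comm (h : Hyp z ι) (u : CC) : ι u * z = z * ι u := by
  have : ι u ∈ Subgroup.centralizer ({z} : Set G) := by rw [← h.range]; exact ⟨u, rfl⟩
  rwa [Subgroup.mem_centralizer_singleton_iff] at this

theorem Hyp.exists_of_comm (h : Hyp z ι) {g : G} (hg : g * z = z * g) : ∃ u : CC, ι u = g := by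
  have : g ∈ ι.range := by rw [h.range, Subgroup.mem_centralizer_singleton_iff]; exact hg
  exact this

/-- the image in `G` of a subgroup of the model -/
def img (ι : CC →* G) (A : Subgroup L5) : Subgroup G := (A.subgroupOf CC).map ι

theorem mem_img {A : Subgroup L5} {g : G} : g ∈ img ι A ↔ ∃ u : CC, (u : L5) ∈ A ∧ ι u = g := by
  simp only [img, Subgroup.mem_map, Subgroup.mem_subgroupOf]

theorem ι_mem_img (h : Hyp z ι) {A : Subgroup L5} {u : CC} : ι u ∈ img ι A ↔ (u : L5) ∈ A := by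
  rw [mem_img]
  constructor
  · rintro ⟨v, hv, e⟩
    rwa [← h.inj e]
  · intro hu; exact ⟨u, hu, rfl⟩

theorem img_mono {A B : Subgroup L5} (hAB : A ≤ B) : img ι A ≤ img ι B := by
  intro g hg
  rw [mem_img] at hg ⊢
  obtain ⟨u, hu, e⟩ := hg
  exact ⟨u, hAB hu, e⟩

theorem card_img (h : Hyp z ι) {A : Subgroup L5} (hA : A ≤ CC) :
    Nat.card (img ι A) = Nat.card A := by
  rw [img, Subgroup.card_map_of_injective h.inj]
  exact Nat.card_congr (Subgroup.subgroupOfEquivOfLe hA).toEquiv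

/-- The image of `T0` is a Sylow 2-subgroup of `G`. -/
theorem exists_sylow [Finite G] (h : Hyp z ι) :
    ∃ P : Sylow 2 G, (P : Subgroup G) = (T0.subgroupOf CC).map ι := by
  classical
  have : Fact (Nat.Prime 2) := ⟨Nat.prime_two⟩
  have hcard : Nat.card (img ι T0) = 1024 := by rw [card_img h T0_le_CC, card_T0]
  have hp : IsPGroup 2 (img ι T0) := IsPGroup.of_card (n := 10) (by rw [hcard]; norm_num)
  obtain ⟨S, hS⟩ := hp.exists_le_sylow
  refine ⟨S, ?_⟩
  have hzT : z ∈ img ι T0 := by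
    rw [mem_img]
    exact ⟨zC, x_mem_T0 (by decide), h.map_zz⟩
  have hz1 : z ≠ 1 := by
    intro e
    have h1 : ι zC = ι 1 := by rw [h.map_zz, e, map_one]
    have h2 := congrArg (fun u : CC => cd (u : L5)) (h.inj h1)
    have h3 : cd zz = cd 1 := h2
    rw [cd_zz, cd_one, one_five] at h3
    exact absurd h3 (by decide)
  have hSC : (S : Subgroup G) ≤ Subgroup.centralizer ({z} : Set G) := by
    have hnt : Nontrivial (S : Subgroup G) :=
      ⟨⟨⟨z, hS hzT⟩, 1, fun e => hz1 (congrArg Subtype.val e)⟩⟩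
    have hn := S.isPGroup'.center_nontrivial
    obtain ⟨⟨w, hw⟩, hw1⟩ := exists_ne (1 : Subgroup.center (S : Subgroup G))
    rw [Subgroup.mem_center_iff] at hw
    have hwG : ∀ y ∈ (S : Subgroup G), y * (w : G) = w * y := by
      intro y hy
      simpa using congrArg Subtype.val (hw ⟨y, hy⟩)
    have hw1' : (w : G) ≠ 1 := by
      intro e
      apply hw1
      apply Subtype.ext
      exact Subtype.ext e
    obtain ⟨u, hu⟩ := h.exists_of_comm (hwG z (hS hzT)).symm
    have hu2 : ∀ t ∈ T0, (u : L5) * t = t * (u : L5) := by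
      intro t ht
      have h1 := hwG (ι ⟨t, T0_le_CC ht⟩) (hS (mem_img.2 ⟨_, ht, rfl⟩))
      rw [← hu, ← map_mul, ← map_mul] at h1
      exact (congrArg Subtype.val (h.inj h1)).symm
    have hwz : (w : G) = z := by
      rcases centralizer_T0 u.2 hu2 with h1 | h1
      · exfalso
        apply hw1'
        rw [← hu]
        have : u = 1 := Subtype.ext h1
        rw [this, map_one]
      · rw [← hu, ← h.map_zz]
        congr 1
        exact Subtype.ext h1
    intro y hy
    rw [Subgroup.mem_centralizer_singleton_iff, ← hwz]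
    exact hwG y hy
  have hdvd : Nat.card (S : Subgroup G) ∣ 21504 := by
    have h1 := Subgroup.card_dvd_of_le hSC
    have h2 : Nat.card (Subgroup.centralizer ({z} : Set G)) = 21504 := by
      rw [← h.range, ← card_CC]
      exact Nat.card_congr (MonoidHom.ofInjective h.inj).toEquiv.symm
    rwa [h2] at h1
  obtain ⟨k, hk⟩ := (IsPGroup.iff_card.1 S.isPGroup')
  have hle : Nat.card (S : Subgroup G) ≤ 1024 := by
    rw [hk] at hdvd ⊢
    have h3 : k ≤ 10 := by
      by_contra hcon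
      have h4 : 2 ^ 11 ∣ 2 ^ k := pow_dvd_pow 2 (by omega)
      have h5 := h4.trans hdvd
      exact absurd h5 (by decide)
    calc 2 ^ k ≤ 2 ^ 10 := Nat.pow_le_pow_right (by norm_num) h3
      _ = 1024 := by norm_num
  exact (Subgroup.eq_of_le_of_card_ge hS (by rw [hcard]; exact hle)).symm

/-! ### `V1` and `V2` are not conjugate -/

def mR1 : ℕ := 33554401
theorem msk_R1 : msk' PR1 = mR1 := by decide +kernel
theorem mem_R1_iff {g : L5} : g ∈ R1 ↔ inPf mR1 (cd g) = true := by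
  rw [R1, mem_pat_iff, msk_R1]

theorem card_V1_R1 : Nat.card (V1 ⊓ R1 : Subgroup L5) = 8 := by
  rw [card_eq_cntR (inf_le_left.trans V1_le_T0) (fun c => inPf mV1 c && inPf mR1 c)
    (fun g _ => by rw [Subgroup.mem_inf, mem_V1_iff, mem_R1_iff, Bool.and_eq_true])]
  decide +kernel

theorem card_V2_R1 : Nat.card (V2 ⊓ R1 : Subgroup L5) = 4 := by
  rw [card_eq_cntR (inf_le_left.trans V2_le_T0) (fun c => inPf mV2 c && inPf mR1 c)
    (fun g _ => by rw [Subgroup.mem_inf, mem_V2_iff, mem_R1_iff, Bool.and_eq_true])]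
  decide +kernel

/-- row `0` is normalised by the model -/
theorem R1_conj {c r : L5} (hc : c ∈ CC) (hr : r ∈ R1) : c * r * c⁻¹ ∈ R1 := by
  have hr' : ∀ i j : Fin 5, i ≠ 0 → ((r : Matrix (Fin 5) (Fin 5) (ZMod 2)) - 1) i j = 0 := by
    intro i j hi
    exact hr i j (by simp [PR1, hi])
  have hr0 : ((r : Matrix (Fin 5) (Fin 5) (ZMod 2)) - 1) 0 0 = 0 := hr 0 0 (by decide)
  have hpc : ∀ i : Fin 5, PC i 0 = false := by decide
  have e1 : ((c * r * c⁻¹ : L5) : Matrix (Fin 5) (Fin 5) (ZMod 2)) - 1 =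
      (c : Matrix (Fin 5) (Fin 5) (ZMod 2)) * ((r : Matrix (Fin 5) (Fin 5) (ZMod 2)) - 1) *
        ((c⁻¹ : L5) : Matrix (Fin 5) (Fin 5) (ZMod 2)) := by
    have h1 : ((c * r * c⁻¹ : L5) : Matrix (Fin 5) (Fin 5) (ZMod 2)) =
      (c : Matrix (Fin 5) (Fin 5) (ZMod 2)) * (r : Matrix (Fin 5) (Fin 5) (ZMod 2)) *
        ((c⁻¹ : L5) : Matrix (Fin 5) (Fin 5) (ZMod 2)) := rfl
    have h2 : (c : Matrix (Fin 5) (Fin 5) (ZMod 2)) *
        ((c⁻¹ : L5) : Matrix (Fin 5) (Fin 5) (ZMod 2)) = 1 := by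
      calc (c : Matrix (Fin 5) (Fin 5) (ZMod 2)) *
        ((c⁻¹ : L5) : Matrix (Fin 5) (Fin 5) (ZMod 2)) =
          ((c * c⁻¹ : L5) : Matrix (Fin 5) (Fin 5) (ZMod 2)) := rfl
        _ = ((1 : L5) : Matrix (Fin 5) (Fin 5) (ZMod 2)) := by rw [mul_inv_cancel]
        _ = 1 := rfl
    rw [h1, mul_sub, sub_mul, mul_one, h2]
  have hcr : ∀ i j : Fin 5, ((c : Matrix (Fin 5) (Fin 5) (ZMod 2)) *
      ((r : Matrix (Fin 5) (Fin 5) (ZMod 2)) - 1)) i j =
      (if i = 0 then 1 else 0) * ((r : Matrix (Fin 5) (Fin 5) (ZMod 2)) - 1) 0 j := by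
    intro i j
    rw [Matrix.mul_apply, Finset.sum_eq_single 0]
    · have h3 := CC_entry hc (hpc i)
      rw [h3, Matrix.one_apply]
    · intro k _ hk; rw [hr' k j hk, mul_zero]
    · intro h; exact absurd (Finset.mem_univ _) h
  intro i j hij
  rw [e1, Matrix.mul_apply]
  by_cases hi : i = 0
  · subst hi
    have hj : j = 0 := by
      by_contra hj
      have : (1 : Fin 5) ≤ j := by
        rcases j with ⟨j, hj'⟩
        rw [Fin.le_def]
        have : j ≠ 0 := fun e => hj (Fin.ext e)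
        show 1 ≤ j
        omega
      simp [PR1, this] at hij
    subst hj
    apply Finset.sum_eq_zero
    intro k _
    rw [hcr, if_pos rfl, one_mul]
    by_cases hk : k = 0
    · rw [hk, hr0, zero_mul]
    · have h3 := CC_entry (CC.inv_mem hc) (hpc k)
      rw [Matrix.one_apply_ne hk] at h3
      exact (congrArg _ h3).trans (mul_zero _)
  · apply Finset.sum_eq_zero
    intro k _
    rw [hcr, if_neg hi, zero_mul, zero_mul]

theorem mul_self_of_mem_V1 {g : L5} (hg : g ∈ V1) : g * g = 1 := by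
  obtain ⟨a, ha, hc⟩ := exists_tc (V1_le_T0 hg)
  have h := allR_zero (f := fun a => force (tc a) fun A => !(inPf mV1 A) || sqB A) (d := 10)
    (by decide +kernel) a (by simpa using ha)
  rw [force_eq, ← hc, mem_V1_iff.1 hg] at h
  exact sqB_iff.1 (by simpa using h)

theorem mul_self_of_mem_V2 {g : L5} (hg : g ∈ V2) : g * g = 1 := by
  obtain ⟨a, ha, hc⟩ := exists_tc (V2_le_T0 hg)
  have h := allR_zero (f := fun a => force (tc a) fun A => !(inPf mV2 A) || sqB A) (d := 10)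
    (by decide +kernel) a (by simpa using ha)
  rw [force_eq, ← hc, mem_V2_iff.1 hg] at h
  exact sqB_iff.1 (by simpa using h)

/-- `T0` normalises `V1` -/
theorem V1_conj_T0 {t v : L5} (ht : t ∈ T0) (hv : v ∈ V1) : t * v * t⁻¹ ∈ V1 := by
  have hcard : Nat.card (cj t V1) = 64 := by rw [card_cj, card_V1]
  have hAT : cj t V1 ≤ T0 := by
    intro w hw
    obtain ⟨v, hv, rfl⟩ := mem_cj.1 hw
    exact T0.mul_mem (T0.mul_mem ht (V1_le_T0 hv)) (T0.inv_mem ht)
  have h2 : ∀ a ∈ cj t V1, a * a = 1 := by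
    intro w hw
    obtain ⟨v, hv, rfl⟩ := mem_cj.1 hw
    calc (t * v * t⁻¹) * (t * v * t⁻¹) = t * (v * v) * t⁻¹ := by group
      _ = 1 := by rw [mul_self_of_mem_V1 hv]; group
  have hvA : t * v * t⁻¹ ∈ cj t V1 := ⟨v, hv, rfl⟩
  rcases elab64 _ hAT h2 hcard with h | h
  · rwa [h] at hvA
  · exfalso
    have hle : cj t (V1 ⊓ R1) ≤ V2 ⊓ R1 := by
      intro w hw
      obtain ⟨v, hv, rfl⟩ := mem_cj.1 hw
      refine ⟨?_, R1_conj (T0_le_CC ht) hv.2⟩
      rw [← h]; exact ⟨v, hv.1, rfl⟩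
    have h3 := Subgroup.card_le_of_le hle
    rw [card_cj, card_V1_R1, card_V2_R1] at h3
    omega

/-- `T0` normalises `V2` -/
theorem V2_conj_T0 {t v : L5} (ht : t ∈ T0) (hv : v ∈ V2) : t * v * t⁻¹ ∈ V2 := by
  have h1 := V1_conj_T0 (tau_mem_T0 ht) (tau_mem_V1 hv)
  have h2 := tau_mem_V2 h1
  rwa [map_mul, map_mul, map_inv, tau_tau, tau_tau] at h2

/-- No element of `G` conjugates `V1` into `V2`. -/
theorem not_conj [Finite G] (h : Hyp z ι) (g : G)
    (hg : ∀ v ∈ img ι V1, g * v * g⁻¹ ∈ img ι V2) : False := by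
  classical
  have : Fact (Nat.Prime 2) := ⟨Nat.prime_two⟩
  obtain ⟨T, hT⟩ := exists_sylow h
  have hT' : (T : Subgroup G) = img ι T0 := hT
  have hcj : cj g (img ι V1) = img ι V2 := by
    refine Subgroup.eq_of_le_of_card_ge ?_ ?_
    · intro w hw
      obtain ⟨v, hv, rfl⟩ := mem_cj.1 hw
      exact hg v hv
    · rw [card_cj, card_img h V1_le_CC, card_img h V2_le_CC, card_V1, card_V2]
  set N := Subgroup.normalizer ((img ι V2 : Subgroup G) : Set G) with hN
  -- `T` and `g T g⁻¹` normalise `V2`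
  have hTV1 : ∀ t ∈ (T : Subgroup G), ∀ v ∈ img ι V1, t * v * t⁻¹ ∈ img ι V1 := by
    intro t ht v hv
    rw [hT', mem_img] at ht
    rw [mem_img] at hv ⊢
    obtain ⟨t', ht', rfl⟩ := ht
    obtain ⟨v', hv', rfl⟩ := hv
    exact ⟨t' * v' * t'⁻¹, V1_conj_T0 ht' hv', by simp⟩
  have hTV2 : ∀ t ∈ (T : Subgroup G), ∀ v ∈ img ι V2, t * v * t⁻¹ ∈ img ι V2 := by
    intro t ht v hv
    rw [hT', mem_img] at ht
    rw [mem_img] at hv ⊢
    obtain ⟨t', ht', rfl⟩ := ht
    obtain ⟨v', hv', rfl⟩ := hv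
    exact ⟨t' * v' * t'⁻¹, V2_conj_T0 ht' hv', by simp⟩
  have hmemN : ∀ m : G, (∀ v ∈ img ι V2, m * v * m⁻¹ ∈ img ι V2) → m ∈ N := by
    intro m hm
    rw [hN, Subgroup.mem_normalizer_iff]
    have heq : cj m (img ι V2) = img ι V2 := by
      refine Subgroup.eq_of_le_of_card_ge ?_ (by rw [card_cj])
      intro w hw
      obtain ⟨v, hv, rfl⟩ := mem_cj.1 hw
      exact hm v hv
    intro v
    constructor
    · exact hm v
    · intro hv
      rw [← heq, mem_cj'] at hv
      have e : m⁻¹ * (m * v * m⁻¹) * m = v := by group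
      rwa [e] at hv
  have hTN : (T : Subgroup G) ≤ N := fun t ht => hmemN t (hTV2 t ht)
  have hgTN : ((g • T : Sylow 2 G) : Subgroup G) ≤ N := by
    intro w hw
    rw [Sylow.smul_def, Sylow.pointwise_smul_def] at hw
    rw [Subgroup.mem_pointwise_smul_iff_inv_smul_mem] at hw
    have e : (MulAut.conj g)⁻¹ • w = g⁻¹ * w * g := by
      simp [MulAut.smul_def]
    rw [e] at hw
    apply hmemN
    intro v hv
    rw [← hcj, mem_cj'] at hv ⊢
    have h1 := hTV1 _ hw _ hv
    have e2 : g⁻¹ * w * g * (g⁻¹ * v * g) * (g⁻¹ * w * g)⁻¹ = g⁻¹ * (w * v * w⁻¹) * g := by group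
    rwa [e2] at h1
  obtain ⟨n, hn⟩ := MulAction.exists_smul_eq N ((g • T).subtype hgTN) (T.subtype hTN)
  -- `n g` normalises `T`
  have hnorm : ∀ t ∈ (T : Subgroup G), ((n : G) * g) * t * ((n : G) * g)⁻¹ ∈ (T : Subgroup G) := by
    intro t ht
    have h1 : g * t * g⁻¹ ∈ ((g • T : Sylow 2 G) : Subgroup G) := by
      rw [Sylow.smul_def, Sylow.pointwise_smul_def]
      refine (Subgroup.mem_pointwise_smul_iff_inv_smul_mem).2 ?_
      have : (MulAut.conj g)⁻¹ • (g * t * g⁻¹) = t := by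
        simp [MulAut.smul_def]
        group
      rw [this]; exact ht
    have h2 : (⟨g * t * g⁻¹, hgTN h1⟩ : N) ∈ (((g • T).subtype hgTN : Sylow 2 N) : Subgroup N) := by
      rw [Sylow.coe_subtype, Subgroup.mem_subgroupOf]; exact h1
    have h3 : n * ⟨g * t * g⁻¹, hgTN h1⟩ * n⁻¹ ∈ ((T.subtype hTN : Sylow 2 N) : Subgroup N) := by
      rw [← hn, Sylow.smul_def, Sylow.pointwise_smul_def]
      refine (Subgroup.mem_pointwise_smul_iff_inv_smul_mem).2 ?_
      have : (MulAut.conj n)⁻¹ • (n * (⟨g * t * g⁻¹, hgTN h1⟩ : N) * n⁻¹) =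
          ⟨g * t * g⁻¹, hgTN h1⟩ := by
        simp [MulAut.smul_def]
        group
      rw [this]; exact h2
    rw [Sylow.coe_subtype, Subgroup.mem_subgroupOf] at h3
    have e : ((n : G) * g) * t * ((n : G) * g)⁻¹ = (n : G) * (g * t * g⁻¹) * (n : G)⁻¹ := by group
    rw [e]
    exact h3
  set m := (n : G) * g with hm
  -- `m` centralises `z`
  have hzT : z ∈ (T : Subgroup G) := by
    rw [hT', mem_img]; exact ⟨zC, x_mem_T0 (by decide), h.map_zz⟩
  have hTz : ∀ t ∈ (T : Subgroup G), t * z = z * t := by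
    intro t ht
    rw [hT', mem_img] at ht
    obtain ⟨t', _, rfl⟩ := ht
    exact h.comm t'
  have heqT : cj m (T : Subgroup G) = T := by
    refine Subgroup.eq_of_le_of_card_ge ?_ (by rw [card_cj])
    intro w hw
    obtain ⟨v, hv, rfl⟩ := mem_cj.1 hw
    exact hnorm v hv
  have hmz : m * z = z * m := by
    have h1 := hnorm z hzT
    have h2 : ∀ t ∈ (T : Subgroup G), t * (m * z * m⁻¹) = (m * z * m⁻¹) * t := by
      intro t ht
      rw [← heqT, mem_cj] at ht
      obtain ⟨v, hv, rfl⟩ := ht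
      calc m * v * m⁻¹ * (m * z * m⁻¹) = m * (v * z) * m⁻¹ := by group
        _ = m * (z * v) * m⁻¹ := by rw [hTz v hv]
        _ = _ := by group
    obtain ⟨u, hu⟩ := h.exists_of_comm (h2 z hzT).symm
    have hu2 : ∀ t ∈ T0, (u : L5) * t = t * (u : L5) := by
      intro t ht
      have h3 := h2 (ι ⟨t, T0_le_CC ht⟩) (by rw [hT', mem_img]; exact ⟨_, ht, rfl⟩)
      rw [← hu, ← map_mul, ← map_mul] at h3
      exact (congrArg Subtype.val (h.inj h3)).symm
    rcases centralizer_T0 u.2 hu2 with h4 | h4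
    · exfalso
      have h5 : u = 1 := Subtype.ext h4
      rw [h5, map_one] at hu
      have hz1 : z = 1 := by
        have h6 : m⁻¹ * (m * z * m⁻¹) * m = z := by group
        rw [← h6, ← hu]; group
      have h7 : ι zC = ι 1 := by rw [h.map_zz, hz1, map_one]
      have h8 := congrArg (fun u : CC => cd (u : L5)) (h.inj h7)
      have h9 : cd zz = cd 1 := h8
      rw [cd_zz, cd_one, one_five] at h9
      exact absurd h9 (by decide)
    · have h5 : u = zC := Subtype.ext h4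
      rw [h5, h.map_zz] at hu
      calc m * z = m * z * m⁻¹ * m := by group
        _ = z * m := by rw [← hu]
  obtain ⟨c, hc⟩ := h.exists_of_comm hmz
  -- `c` conjugates `V1` into `V2` inside the model
  have hle : cj (c : L5) (V1 ⊓ R1) ≤ V2 ⊓ R1 := by
    intro w hw
    obtain ⟨v, hv, rfl⟩ := mem_cj.1 hw
    refine ⟨?_, R1_conj c.2 hv.2⟩
    have h1 := hg (ι ⟨v, V1_le_CC hv.1⟩) (mem_img.2 ⟨_, hv.1, rfl⟩)
    have h2 : (n : G) * (g * ι ⟨v, V1_le_CC hv.1⟩ * g⁻¹) * (n : G)⁻¹ ∈ img ι V2 := by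
      have hn2 : (n : G) ∈ Subgroup.normalizer ((img ι V2 : Subgroup G) : Set G) := n.2
      rw [Subgroup.mem_normalizer_iff] at hn2
      exact (hn2 _).1 h1
    have e : (n : G) * (g * ι ⟨v, V1_le_CC hv.1⟩ * g⁻¹) * (n : G)⁻¹ =
        ι (c * ⟨v, V1_le_CC hv.1⟩ * c⁻¹) := by
      rw [map_mul, map_mul, map_inv, hc, hm]; group
    rw [e, ι_mem_img h] at h2
    exact h2
  have h3 := Subgroup.card_le_of_le hle
  rw [card_cj, card_V1_R1, card_V2_R1] at h3
  omega

/-- A subgroup of the Sylow subgroup which is conjugate to `V1` is the image of `V1`. -/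
theorem weak_V1 [Finite G] (h : Hyp z ι) (g : G)
    (hg : ∀ v ∈ img ι V1, g * v * g⁻¹ ∈ img ι T0) : ∀ v ∈ img ι V1, g * v * g⁻¹ ∈ img ι V1 := by
  -- the preimage in the model
  have hle : cj g (img ι V1) ≤ img ι T0 := by
    intro w hw
    obtain ⟨v, hv, rfl⟩ := mem_cj.1 hw
    exact hg v hv
  set A' : Subgroup CC := (cj g (img ι V1)).comap ι with hA'
  set A : Subgroup L5 := A'.map CC.subtype with hA
  have hAT : A ≤ T0 := by
    rintro _ ⟨u, hu, rfl⟩
    exact (ι_mem_img h).1 (hle hu)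
  have hmap : A'.map ι = cj g (img ι V1) := by
    apply le_antisymm
    · rintro _ ⟨u, hu, rfl⟩; exact hu
    · intro w hw
      obtain ⟨u, _, rfl⟩ := mem_img.1 (hle hw)
      exact ⟨u, hw, rfl⟩
  have hcard : Nat.card A = 64 := by
    rw [hA, Subgroup.card_map_of_injective (Subgroup.subtype_injective _),
      ← Subgroup.card_map_of_injective h.inj, hmap, card_cj, card_img h V1_le_CC, card_V1]
  have h2 : ∀ a ∈ A, a * a = 1 := by
    rintro _ ⟨u, hu, rfl⟩
    obtain ⟨v, hv, e⟩ := mem_cj.1 hu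
    have hvv : v * v = 1 := by
      obtain ⟨w, hw, rfl⟩ := mem_img.1 hv
      rw [← map_mul]
      have : w * w = 1 := Subtype.ext (mul_self_of_mem_V1 hw)
      rw [this, map_one]
    have huu : ι (u * u) = ι 1 := by
      rw [map_mul, ← e, map_one]
      calc g * v * g⁻¹ * (g * v * g⁻¹) = g * (v * v) * g⁻¹ := by group
        _ = 1 := by rw [hvv]; group
    have := h.inj huu
    exact congrArg Subtype.val this
  rcases elab64 A hAT h2 hcard with hA1 | hA1
  · intro v hv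
    obtain ⟨u, _, hu⟩ := mem_img.1 (hg v hv)
    have hu' : u ∈ A' := by rw [hA']; show ι u ∈ cj g (img ι V1); rw [hu]; exact ⟨v, hv, rfl⟩
    rw [← hu, ι_mem_img h, ← hA1]
    exact ⟨u, hu', rfl⟩
  · exfalso
    refine not_conj h g ?_
    intro v hv
    obtain ⟨u, _, hu⟩ := mem_img.1 (hg v hv)
    have hu' : u ∈ A' := by rw [hA']; show ι u ∈ cj g (img ι V1); rw [hu]; exact ⟨v, hv, rfl⟩
    rw [← hu, ι_mem_img h, ← hA1]
    exact ⟨u, hu', rfl⟩

theorem comm_of_V1 {a b : L5} (ha : a ∈ V1) (hb : b ∈ V1) : a * b = b * a := by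
  have hab := mul_self_of_mem_V1 (V1.mul_mem ha hb)
  have haa := mul_self_of_mem_V1 ha
  have hbb := mul_self_of_mem_V1 hb
  calc a * b = a * (a * b * (a * b)) * b := by rw [hab, mul_one]
    _ = (a * a) * b * a * (b * b) := by group
    _ = b * a := by rw [haa, hbb, one_mul, mul_one]

/-- Control of fusion in `V1`. -/
theorem control_V1 [Finite G] (h : Hyp z ι) {a b g : G} (ha : a ∈ img ι V1) (hb : b ∈ img ι V1)
    (e : g * a * g⁻¹ = b) : ∃ n : G, n * a * n⁻¹ = b ∧ ∀ v, v ∈ img ι V1 ↔ n * v * n⁻¹ ∈ img ι V1 := by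
  have : Fact (Nat.Prime 2) := ⟨Nat.prime_two⟩
  obtain ⟨T, hT⟩ := exists_sylow h
  have hT' : (T : Subgroup G) = img ι T0 := hT
  refine exists_norm_of_weak T (img ι V1) (by rw [hT']; exact img_mono V1_le_T0) ?_ ?_ ha hb e
  · intro x hx y hy
    obtain ⟨u, hu, rfl⟩ := mem_img.1 hx
    obtain ⟨v, hv, rfl⟩ := mem_img.1 hy
    rw [← map_mul, ← map_mul]
    congr 1
    exact Subtype.ext (comm_of_V1 hu hv)
  · intro g hg
    rw [hT'] at hg
    exact weak_V1 h g hg

theorem img_tau (A B : Subgroup L5) (hAB : ∀ a ∈ A, HeldModel.tau a ∈ B)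
    (hBA : ∀ b ∈ B, HeldModel.tau b ∈ A) : img (ι.comp tauC) A = img ι B := by
  ext g
  rw [mem_img, mem_img]
  constructor
  · rintro ⟨u, hu, rfl⟩
    exact ⟨tauC u, hAB _ hu, rfl⟩
  · rintro ⟨u, hu, rfl⟩
    refine ⟨tauC u, hBA _ hu, ?_⟩
    show ι (tauC (tauC u)) = ι u
    rw [tauC_tauC]

theorem img_tau_V1 : img (ι.comp tauC) V1 = img ι V2 :=
  img_tau V1 V2 (fun _ h => tau_mem_V2 h) (fun _ h => tau_mem_V1 h)

theorem img_tau_V2 : img (ι.comp tauC) V2 = img ι V1 :=
  img_tau V2 V1 (fun _ h => tau_mem_V1 h) (fun _ h => tau_mem_V2 h)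

theorem img_tau_T0 : img (ι.comp tauC) T0 = img ι T0 :=
  img_tau T0 T0 (fun _ h => tau_mem_T0 h) (fun _ h => tau_mem_T0 h)

/-- Control of fusion in `V2`. -/
theorem control_V2 [Finite G] (h : Hyp z ι) {a b g : G} (ha : a ∈ img ι V2) (hb : b ∈ img ι V2)
    (e : g * a * g⁻¹ = b) : ∃ n : G, n * a * n⁻¹ = b ∧ ∀ v, v ∈ img ι V2 ↔ n * v * n⁻¹ ∈ img ι V2 := by
  rw [← img_tau_V1] at ha hb
  have := control_V1 h.tau ha hb e
  rwa [img_tau_V1] at this

/-! ### Involutions of the model -/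

/-- permutation matrices of the middle block -/
def p12 : L5 := mk 17041537 17041537 (by decide +kernel)
def p13 : L5 := mk 16847105 16847105 (by decide +kernel)
def p23 : L5 := mk 16916545 16916545 (by decide +kernel)

end Main

end Cfsg.Agent.SporadicRecognition.HeldModel
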