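import Mathlib
import Cfsg.Agent.SporadicRecognition.HeldFusion
import Cfsg.Agent.Lib.Cores

/-!
# Involutions of the model, and `O_2(CC) = QQ`
-/

set_option autoImplicit false

namespace Cfsg.Agent.SporadicRecognition.HeldModel

open Matrix Cfsg.Agent.Lib.F2Mat

/-- `T0` as a subgroup of the model -/
def T0C : Subgroup CC := T0.subgroupOf CC

theorem card_T0C : Nat.card T0C = 1024 := by
  rw [← card_T0]
  exact Nat.card_congr (Subgroup.subgroupOfEquivOfLe T0_le_CC).toEquiv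

instance : Finite CC := Nat.finite_of_card_ne_zero (by rw [card_CC]; norm_num)

theorem exists_sylow_CC : ∃ P : Sylow 2 CC, (P : Subgroup CC) = T0C := by
  have : Fact (Nat.Prime 2) := ⟨Nat.prime_two⟩
  have hp : IsPGroup 2 T0C := IsPGroup.of_card (n := 10) (by rw [card_T0C]; norm_num)
  obtain ⟨S, hS⟩ := hp.exists_le_sylow
  refine ⟨S, ?_⟩
  have hdvd : Nat.card (S : Subgroup CC) ∣ 21504 := by
    rw [← card_CC]; exact Subgroup.card_subgroup_dvd_card _
  obtain ⟨k, hk⟩ := (IsPGroup.iff_card.1 S.isPGroup')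
  have hle : Nat.card (S : Subgroup CC) ≤ 1024 := by
    rw [hk] at hdvd ⊢
    have h3 : k ≤ 10 := by
      by_contra hcon
      have h4 : 2 ^ 11 ∣ 2 ^ k := pow_dvd_pow 2 (by omega)
      have h5 := h4.trans hdvd
      exact absurd h5 (by decide)
    calc 2 ^ k ≤ 2 ^ 10 := Nat.pow_le_pow_right (by norm_num) h3
      _ = 1024 := by norm_num
  exact (Subgroup.eq_of_le_of_card_ge hS (by rw [card_T0C]; exact hle)).symm

/-- Every 2-element of the model is conjugate into `T0`. -/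
theorem exists_conj_T0 {u : CC} (hu : u * u = 1) : ∃ g : CC, ((g * u * g⁻¹ : CC) : L5) ∈ T0 := by
  have : Fact (Nat.Prime 2) := ⟨Nat.prime_two⟩
  obtain ⟨P, hP⟩ := exists_sylow_CC
  have hp : IsPGroup 2 (Subgroup.zpowers u) := by
    rintro ⟨y, hy⟩
    obtain ⟨k, rfl⟩ := Subgroup.mem_zpowers_iff.1 hy
    refine ⟨1, Subtype.ext ?_⟩
    show (u ^ k) ^ (2 ^ 1) = 1
    rw [pow_one, ← zpow_natCast, ← _root_.zpow_mul, mul_comm, _root_.zpow_mul]
    have : u ^ ((2 : ℕ) : ℤ) = 1 := by rw [zpow_natCast, pow_two, hu]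
    rw [this, _root_.one_zpow]
  obtain ⟨S, hS⟩ := hp.exists_le_sylow
  obtain ⟨g, hg⟩ := MulAction.exists_smul_eq CC S P
  refine ⟨g, ?_⟩
  have h1 : g * u * g⁻¹ ∈ (P : Subgroup CC) := by
    rw [← hg, Sylow.smul_def, Sylow.pointwise_smul_def]
    refine (Subgroup.mem_pointwise_smul_iff_inv_smul_mem).2 ?_
    have : (MulAut.conj g)⁻¹ • (g * u * g⁻¹) = u := by
      simp [MulAut.smul_def]
      group
    rw [this]; exact hS (Subgroup.mem_zpowers u)
  rw [hP] at h1
  exact h1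

/-- conjugators (code, code of the inverse) -/
def cjL : List (ℕ × ℕ) := [(17107137, 17176705), (16988481, 17177025), (17185089, 17242497),
  (16922689, 17244225), (16855169, 16976129)]

theorem chk_cjL : (cjL.all fun p => (Nat.beq (mul 5 p.1 p.2) 17043521 &&
    Nat.beq (mul 5 p.2 p.1) 17043521) &&
    (inCC p.1 && Nat.blt p.1 33554432) && Nat.blt p.2 33554432) = true := by
  decide +kernel

theorem chk_rep : allR (fun a => force (tc a) fun X => !(sqB X) || (inPf mV1 X || (inPf mV2 X ||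
    cjL.any fun p => force (mul 5 (mul 5 p.1 X) p.2) fun Y => inPf mV1 Y || inPf mV2 Y))) 10 0 =
    true := by
  decide +kernel

theorem exists_cj {p : ℕ × ℕ} (hp : p ∈ cjL) : ∃ g : CC, cd (g : L5) = p.1 ∧
    cd ((g⁻¹ : CC) : L5) = p.2 := by
  have h := List.all_eq_true.1 chk_cjL p hp
  rw [Bool.and_eq_true, Bool.and_eq_true, Bool.and_eq_true, Bool.and_eq_true] at h
  obtain ⟨⟨⟨h1, h1'⟩, h2, h3⟩, h4⟩ := h
  rw [← one_five] at h1 h1'
  obtain ⟨m, hm⟩ : ∃ m : L5, cd m = p.1 := ⟨mk p.1 p.2 h1, cd_mk h1 h3⟩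
  obtain ⟨m', hm'⟩ : ∃ m' : L5, cd m' = p.2 := ⟨mk p.2 p.1 h1', cd_mk h1' h4⟩
  have hmm : m * m' = 1 := by
    apply cd_inj
    rw [cd_mul, hm, hm', cd_one]
    exact Nat.eq_of_beq_eq_true h1
  have hC : m ∈ CC := by rw [mem_CC_iff, hm]; exact h2
  refine ⟨⟨m, hC⟩, hm, ?_⟩
  have e : (((⟨m, hC⟩ : CC)⁻¹ : CC) : L5) = m' := by
    rw [Subgroup.coe_inv]
    exact inv_eq_of_mul_eq_one_right hmm
  rw [e, hm']

/-- Every involution of the model is conjugate into `V1` or `V2`. -/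
theorem exists_conj_V (u : CC) (hu : u * u = 1) :
    ∃ g : CC, ((g * u * g⁻¹ : CC) : L5) ∈ V1 ∨ ((g * u * g⁻¹ : CC) : L5) ∈ V2 := by
  obtain ⟨g, hg⟩ := exists_conj_T0 hu
  set w : CC := g * u * g⁻¹ with hw
  have hww : (w : L5) * (w : L5) = 1 := by
    have : w * w = 1 := by
      rw [hw]
      calc g * u * g⁻¹ * (g * u * g⁻¹) = g * (u * u) * g⁻¹ := by group
        _ = 1 := by rw [hu]; group
    have h1 := congrArg (fun t : CC => (t : L5)) this
    simpa using h1
  obtain ⟨a, ha, hc⟩ := exists_tc hg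
  have h := allR_zero chk_rep a (by simpa using ha)
  rw [force_eq, ← hc, sqB_iff.2 hww, Bool.not_true, Bool.false_or, Bool.or_eq_true,
    Bool.or_eq_true] at h
  rcases h with h | h | h
  · exact ⟨g, Or.inl (mem_V1_iff.2 h)⟩
  · exact ⟨g, Or.inr (mem_V2_iff.2 h)⟩
  · obtain ⟨p, hp, h⟩ := List.any_eq_true.1 h
    obtain ⟨c, hc1, hc2⟩ := exists_cj hp
    rw [force_eq, ← hc1, ← hc2, ← cd_mul, ← cd_mul, Bool.or_eq_true] at h
    refine ⟨c * g, ?_⟩
    have e : ((c * g * u * (c * g)⁻¹ : CC) : L5) = (c : L5) * (w : L5) * ((c⁻¹ : CC) : L5) := by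
      have : c * g * u * (c * g)⁻¹ = c * w * c⁻¹ := by rw [hw]; group
      rw [this]; rfl
    rw [e]
    rcases h with h | h
    · exact Or.inl (mem_V1_iff.2 h)
    · exact Or.inr (mem_V2_iff.2 h)

/-! ### `O_2` -/

/-- the reversal of the middle block -/
def wC : CC := ⟨mk 16847105 16847105 (by decide +kernel), by
  rw [mem_CC_iff, cd_mk (A := 16847105) (B := 16847105) (by decide +kernel) (by decide +kernel)]
  decide +kernel⟩

theorem cd_wC : cd (wC : L5) = 16847105 :=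
  cd_mk (A := 16847105) (B := 16847105) (by decide +kernel) (by decide +kernel)

theorem wC_mul : wC * wC = 1 := by
  apply Subtype.ext
  apply cd_inj
  show cd ((wC : L5) * (wC : L5)) = cd 1
  rw [cd_mul, cd_wC, cd_one, one_five]; decide +kernel

theorem chk_w : allR (fun a => force (tc a) fun X => inPf mQ X ||
    !(inPf mT (mul 5 (mul 5 16847105 X) 16847105))) 10 0 = true := by
  decide +kernel

theorem mem_QQ_of_conj {u : CC} (hu : (u : L5) ∈ T0) (hw : ((wC * u * wC⁻¹ : CC) : L5) ∈ T0) :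
    (u : L5) ∈ QQ := by
  obtain ⟨a, ha, hc⟩ := exists_tc hu
  have h := allR_zero chk_w a (by simpa using ha)
  have hwi : wC⁻¹ = wC := by rw [inv_eq_iff_mul_eq_one, wC_mul]
  rw [hwi] at hw
  have h1 : cd ((wC * u * wC : CC) : L5) = mul 5 (mul 5 16847105 (cd (u : L5))) 16847105 := by
    show cd ((wC : L5) * (u : L5) * (wC : L5)) = _
    rw [cd_mul, cd_mul, cd_wC]
  rw [mem_T0_iff, h1] at hw
  rw [force_eq, ← hc, hw, Bool.not_true, Bool.or_false] at h
  exact mem_QQ_iff.2 h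

theorem pCore_CC : Cfsg.pCore 2 CC = QQ.subgroupOf CC := by
  have : Fact (Nat.Prime 2) := ⟨Nat.prime_two⟩
  apply le_antisymm
  · intro u hu
    obtain ⟨P, hP⟩ := exists_sylow_CC
    have h1 : u ∈ T0C := by rw [← hP]; exact Lib.Cores.pCore_le_sylow P hu
    have h2 : wC * u * wC⁻¹ ∈ T0C := by
      rw [← hP]
      exact Lib.Cores.pCore_le_sylow P ((Lib.Cores.pCore_normal 2).conj_mem u hu wC)
    exact mem_QQ_of_conj h1 h2
  · exact Lib.Cores.le_pCore QQ_normal isPGroup_QQ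

/-- the model as the centraliser -/
noncomputable def Hyp.equiv {G : Type*} [Group G] {z : G} {ι : CC →* G} (h : Hyp z ι) :
    CC ≃* Subgroup.centralizer ({z} : Set G) :=
  (MonoidHom.ofInjective h.inj).trans (MulEquiv.subgroupCongr h.range)

theorem Hyp.coe_equiv {G : Type*} [Group G] {z : G} {ι : CC →* G} (h : Hyp z ι) (u : CC) :
    ((h.equiv u : Subgroup.centralizer ({z} : Set G)) : G) = ι u := rfl

/-- `O_2(C_G(z))` is the image of `QQ`. -/
theorem Hyp.mem_pCore_iff {G : Type*} [Group G] {z : G} {ι : CC →* G} (h : Hyp z ι)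
    (g : Subgroup.centralizer ({z} : Set G)) :
    g ∈ Cfsg.pCore 2 (Subgroup.centralizer ({z} : Set G)) ↔
      ∃ u : CC, (u : L5) ∈ QQ ∧ ι u = (g : G) := by
  rw [← Lib.Cores.map_equiv_pCore h.equiv 2, pCore_CC, Subgroup.mem_map]
  constructor
  · rintro ⟨u, hu, rfl⟩
    exact ⟨u, hu, rfl⟩
  · rintro ⟨u, hu, e⟩
    exact ⟨u, hu, Subtype.ext e⟩

end Cfsg.Agent.SporadicRecognition.HeldModel
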