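import Cfsg.Prelude.Def_Classical
import Cfsg.Prelude.Def_Spor_Conway
import Cfsg.Agent.S0280
import Cfsg.Agent.S0404
import Cfsg.Agent.S1580
import Cfsg.Agent.S1581
import Cfsg.Agent.SporadicRecognition.HSRank
import Cfsg.Agent.SporadicRecognition.HSParam
import Cfsg.Agent.SporadicRecognition.RankThreeOf
import Cfsg.Agent.McLGraph.AutBound

set_option autoImplicit false

/-!
Assembly of the recognition of the McLaughlin group.
-/

namespace Cfsg.Agent.SporadicRecognition.McLAssemble

open MulAction Cfsg Cfsg.Agent.Leech.Co0Elts Cfsg.Agent.SporadicRecognition.RankThree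
  Cfsg.Agent.SporadicRecognition.TwoEmb Cfsg.Agent.SporadicRecognition.HSRank
  Cfsg.Agent.SporadicRecognition.HSParam Cfsg.Agent.SporadicRecognition.RankThreeOf

/-- the order of `PSU(4,3)`. -/
theorem card_psu (K : Type) [Field K] [Fintype K] (hK : Fintype.card K = 9) :
    Nat.card (Cfsg.PSU 4 K 3) = 3265920 := by
  have h := Cfsg.Agent.S0280.result (F := K) (q := 3) (by rw [hK]; norm_num) 4 (by norm_num)
  simp [Finset.prod_range_succ, Nat.even_iff] at h
  omega

/-- Two groups of order `m > 2`, one of them simple, which embed into a group of order at most `2 m`, are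
isomorphic. -/
theorem nonempty_of_le {A G H : Type*} [Group A] [Group G] [Group H] {m : ℕ} (hm : 2 < m) [Finite A]
    (f : G →* A) (hf : Function.Injective f) (g : H →* A) (hg : Function.Injective g)
    (hA : Nat.card A ≤ 2 * m) (hG : Nat.card G = m) (hH : Nat.card H = m) (hs : IsSimpleGroup H) :
    Nonempty (G ≃* H) := by
  have e1 := MonoidHom.ofInjective hf
  have e2 := MonoidHom.ofInjective hg
  have c1 : Nat.card f.range = m := by rw [← Nat.card_congr e1.toEquiv, hG]
  have c2 : Nat.card g.range = m := by rw [← Nat.card_congr e2.toEquiv, hH]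
  have hdvd : m ∣ Nat.card A := by rw [← c1]; exact Subgroup.card_subgroup_dvd_card _
  have hpos : 0 < Nat.card A := Nat.card_pos
  obtain ⟨t, ht⟩ := hdvd
  have ht' : t = 1 ∨ t = 2 := by
    have h1 : t ≤ 2 := by
      by_contra h2
      push Not at h2
      have h3 : m * 3 ≤ m * t := Nat.mul_le_mul_left m h2
      omega
    have h2 : t ≠ 0 := by
      rintro rfl
      omega
    omega
  rcases ht' with rfl | rfl
  · -- both are everything
    have t1 : f.range = ⊤ := Subgroup.eq_top_of_card_eq _ (by rw [c1, ht, mul_one])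
    have t2 : g.range = ⊤ := Subgroup.eq_top_of_card_eq _ (by rw [c2, ht, mul_one])
    exact ⟨e1.trans ((MulEquiv.subgroupCongr (t1.trans t2.symm)).trans e2.symm)⟩
  · exact nonempty_mulEquiv hm f hf g hg (by rw [ht, mul_comm]) hG hH hs

/-- the graph of a rank three action with subdegrees 1, 112, 162. -/
theorem srg {G X : Type*} [Group G] [MulAction G X] [Fintype X] {a b c : X}
    (h : IsRankThree G a b c 112 162) [DecidableRel h.graph.Adj] : h.graph.IsSRGWith 275 112 30 56 := by
  have h1 := h.isSRG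
  have h2 := param_mcl h1
  rw [h2.1, h2.2] at h1
  exact h1

/-- A group of order 898128000 acting faithfully with rank 3 and subdegrees 1, 112, 162 is isomorphic to any
simple such group. -/
theorem nonempty_of_rank {G X H Y : Type*} [Group G] [MulAction G X] [Fintype X] [FaithfulSMul G X] {a b c : X}
    (h : IsRankThree G a b c 112 162) [Group H] [MulAction H Y] [Fintype Y] [FaithfulSMul H Y] {a' b' c' : Y}
    (h' : IsRankThree H a' b' c' 112 162) (hG : Nat.card G = 898128000) (hH : Nat.card H = 898128000)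
    (hs : IsSimpleGroup H) : Nonempty (G ≃* H) := by
  classical
  obtain ⟨e⟩ := Cfsg.Agent.McLGraph.Unique.unique (srg h) (srg h')
  have hfin : Finite (h.graph ≃g h.graph) :=
    Finite.of_injective (fun g : (h.graph ≃g h.graph) => g.toEquiv) RelIso.toEquiv_injective
  refine nonempty_of_le (A := (h.graph ≃g h.graph)) (m := 898128000) (by norm_num) (toAut h) (toAut_injective h)
    ((conj e).symm.toMonoidHom.comp (toAut h')) ?_ ?_ hG hH hs
  · exact (conj e).symm.injective.comp (toAut_injective h')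
  · exact Cfsg.Agent.McLGraph.AutBound.card_aut_le (srg h)

/-- `K(V, U) = K(U, -(U + V))`. -/
theorem k_eq' (v u : ↥leechLattice) : K v u = K u (-(v + u)) := by
  ext g
  simp only [Subgroup.mem_inf, mem_stabilizer_iff]
  constructor
  · rintro ⟨h1, h2⟩
    refine ⟨h2, ?_⟩
    rw [smul_neg_co0, smul_add_co0, h1, h2]
  · rintro ⟨h1, h2⟩
    refine ⟨?_, h1⟩
    rw [smul_neg_co0, smul_add_co0, h1] at h2
    exact add_right_cancel (neg_injective h2)

/-- `K(V, U) = K(-V, U)`. -/
theorem k_neg (v u : ↥leechLattice) : K v u = K (-v) u := by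
  ext g
  simp only [Subgroup.mem_inf, mem_stabilizer_iff]
  constructor
  · rintro ⟨h1, h2⟩
    exact ⟨by rw [smul_neg_co0, h1], h2⟩
  · rintro ⟨h1, h2⟩
    rw [smul_neg_co0] at h1
    exact ⟨neg_injective h1, h2⟩

theorem norm_U : sqNorm ((Spor.leechU : ↥leechLattice) : GolayPt → ℤ) = 32 := by
  show sqNorm Spor.vecU = 32
  decide

theorem norm_W : sqNorm ((-(Spor.leechV + Spor.leechU) : ↥leechLattice) : GolayPt → ℤ) = 32 := by
  show sqNorm (-(Spor.vecV + Spor.vecU)) = 32
  decide

theorem dot_UW : dotInt ((Spor.leechU : ↥leechLattice) : GolayPt → ℤ)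
    ((-(Spor.leechV + Spor.leechU) : ↥leechLattice) : GolayPt → ℤ) = -8 := by
  show dotInt Spor.vecU (-(Spor.vecV + Spor.vecU)) = -8
  decide

theorem norm_negV : sqNorm ((-Spor.leechV : ↥leechLattice) : GolayPt → ℤ) = 48 := by
  show sqNorm (-Spor.vecV) = 48
  decide

theorem norm_sub : sqNorm ((-Spor.leechV : ↥leechLattice) - (Spor.leechU : ↥leechLattice) : GolayPt → ℤ) = 32 := by
  show sqNorm (-Spor.vecV - Spor.vecU) = 32
  decide

/-- The McLaughlin group as a rank 3 group. -/
theorem mcl_rank : ∃ (H Y : Type) (_ : Group H) (_ : MulAction H Y) (_ : Fintype Y) (_ : FaithfulSMul H Y)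
    (a b c : Y), IsRankThree H a b c 112 162 ∧ Nat.card H = 898128000 ∧ IsSimpleGroup H ∧
      Nonempty (H ≃* ↥Cfsg.Spor.McL) := by
  classical
  obtain ⟨hs, hc⟩ := Cfsg.Agent.S0404.result _ _ norm_U norm_W dot_UW
  have hK : K (-Spor.leechV) Spor.leechU = K Spor.leechU (-(Spor.leechV + Spor.leechU)) := by
    rw [← k_neg, k_eq']
  have hK' : K Spor.leechV Spor.leechU = K (-Spor.leechV) Spor.leechU := k_neg _ _
  change IsSimpleGroup ↥(K Spor.leechU (-(Spor.leechV + Spor.leechU))) at hs
  change Nat.card ↥(K Spor.leechU (-(Spor.leechV + Spor.leechU))) = 898128000 at hc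
  rw [← hK] at hs hc
  obtain ⟨h1, h2⟩ := Cfsg.Agent.S1580.result (-Spor.leechV) Spor.leechU norm_negV ⟨norm_U, norm_sub⟩
  have hS := fun x hx => Cfsg.Agent.S1581.result (-Spor.leechV) Spor.leechU x norm_negV ⟨norm_U, norm_sub⟩ hx
  set u : ↥leechLattice := -Spor.leechV with hu
  set v : ↥leechLattice := Spor.leechU with hv
  set X : Set ↥leechLattice := {x : ↥leechLattice | sqNorm (x : GolayPt → ℤ) = 32 ∧
    sqNorm ((u - x) : GolayPt → ℤ) = 32 ∧ dotInt (v : GolayPt → ℤ) (x : GolayPt → ℤ) = 16} with hXdef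
  have hX : ∀ g ∈ K u v, ∀ x ∈ X, g • x ∈ X := by
    rintro g ⟨hgu, hgv⟩ x ⟨hx1, hx2, hx3⟩
    refine ⟨?_, ?_, ?_⟩
    · rw [sqNorm_smul]; exact hx1
    · have h3 := sqNorm_smul g (u - x)
      have h4 : g • (u - x) = u - g • x := by
        rw [sub_eq_add_neg, smul_add_co0 g u (-x), smul_neg_co0 g x, show g • u = u from hgu,
          ← sub_eq_add_neg]
      rw [h4] at h3
      exact h3.trans hx2
    · have := dotInt_smul g v x
      rw [show g • v = v from hgv] at this
      rw [this]; exact hx3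
  obtain ⟨x0, hx0⟩ : X.Nonempty := by
    rw [Set.nonempty_iff_ne_empty]
    intro h
    rw [h, Set.ncard_empty] at h1
    norm_num at h1
  have hfinX : X.Finite := Set.finite_of_ncard_pos (by rw [h1]; norm_num)
  obtain ⟨h3, h4, h5⟩ := hS x0 hx0
  have hx00 : dotInt (x0 : GolayPt → ℤ) (x0 : GolayPt → ℤ) = 32 := by
    rw [← hx0.1]
    exact Finset.sum_congr rfl fun i _ => (sq _).symm
  have hdich : ∀ y ∈ X, y ≠ x0 → dotInt (x0 : GolayPt → ℤ) (y : GolayPt → ℤ) = 8 ∨
      dotInt (x0 : GolayPt → ℤ) (y : GolayPt → ℤ) = 16 := by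
    intro y hy hne
    set S8 : Set ↥leechLattice := {y | y ∈ X ∧ dotInt (x0 : GolayPt → ℤ) (y : GolayPt → ℤ) = 8} with hS8
    set S16 : Set ↥leechLattice := {y | y ∈ X ∧ y ≠ x0 ∧ dotInt (x0 : GolayPt → ℤ) (y : GolayPt → ℤ) = 16} with hS16
    have f8 : S8.Finite := hfinX.subset fun y hy => hy.1
    have f16 : S16.Finite := hfinX.subset fun y hy => hy.1
    have hd : Disjoint S8 S16 := by
      rw [Set.disjoint_left]
      rintro z hz hz'
      have e1 := hz.2
      have e2 := hz'.2.2
      omega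
    have hd' : x0 ∉ S8 ∪ S16 := by
      rintro (hz | hz)
      · have e1 := hz.2
        omega
      · exact hz.2.1 rfl
    have hU : insert x0 (S8 ∪ S16) = X := by
      apply Set.eq_of_subset_of_ncard_le _ _ hfinX
      · rintro z (rfl | hz | hz)
        · exact hx0
        · exact hz.1
        · exact hz.1
      · rw [Set.ncard_insert_of_notMem hd' (f8.union f16), Set.ncard_union_eq hd f8 f16, h3, h4, h1]
    have hy' : y ∈ insert x0 (S8 ∪ S16) := by rw [hU]; exact hy
    rcases hy' with h6 | h6 | h6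
    · exact absurd h6 hne
    · exact Or.inl h6.2
    · exact Or.inr h6.2.2
  letI := act (K u v) X hX
  obtain ⟨b, c, hr⟩ := exists_isRankThree (K u v) X hX (k := 112) (l := 162) (by rw [h1]) (by norm_num) (by norm_num)
    (by norm_num) ⟨x0, hx0⟩ (fun y => dotInt (x0 : GolayPt → ℤ) (y : GolayPt → ℤ) = 8)
    (by
      intro x hx x' hx'
      obtain ⟨g, hg1, hg2, hg3⟩ := h2 x hx x' hx'
      exact ⟨g, ⟨hg1, hg2⟩, hg3⟩)
    (by
      intro g hg hg0 y hy
      have := dotInt_smul g x0 y
      rw [show g • x0 = x0 from hg0] at this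
      rw [this]; exact hy)
    (by
      intro h
      have h7 : dotInt (x0 : GolayPt → ℤ) (x0 : GolayPt → ℤ) = 8 := h
      omega)
    h3
    (by
      rw [← h4]
      congr 1
      ext y
      constructor
      · rintro ⟨hy, hne, h8⟩
        refine ⟨hy, hne, ?_⟩
        rcases hdich y hy hne with h9 | h9
        · exact absurd h9 h8
        · exact h9
      · rintro ⟨hy, hne, h8⟩
        refine ⟨hy, hne, ?_⟩
        intro h9
        have h9' : dotInt (x0 : GolayPt → ℤ) (y : GolayPt → ℤ) = 8 := h9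
        omega)
    (by
      intro y hy y' hy' hne hne' h
      have h10 : dotInt (x0 : GolayPt → ℤ) (y : GolayPt → ℤ) = dotInt (x0 : GolayPt → ℤ) (y' : GolayPt → ℤ) := by
        have h' : dotInt (x0 : GolayPt → ℤ) (y : GolayPt → ℤ) = 8 ↔ dotInt (x0 : GolayPt → ℤ) (y' : GolayPt → ℤ) = 8 := h
        rcases hdich y hy hne with h11 | h11 <;> rcases hdich y' hy' hne' with h12 | h12 <;> omega
      obtain ⟨g, hg1, hg2, hg3, hg4⟩ := h5 y hy y' hy' hne hne' h10
      exact ⟨g, ⟨hg1, hg2⟩, hg3, hg4⟩)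
  haveI : Finite ↥X := hfinX.to_subtype
  have hf : FaithfulSMul ↥(K u v) ↥X := by
    haveI := hr.trans
    obtain ⟨g, hg⟩ := exists_smul_eq ↥(K u v) (⟨x0, hx0⟩ : ↥X) b
    exact faithful_of_simple hs hg hr.ne_b.symm
  exact ⟨↥(K u v), ↥X, inferInstance, act (K u v) X hX, Fintype.ofFinite _, hf, ⟨x0, hx0⟩, b, c, hr, hc, hs,
    ⟨((kEquiv Spor.leechV Spor.leechU).trans (MulEquiv.subgroupCongr hK')).symm⟩⟩

end Cfsg.Agent.SporadicRecognition.McLAssemble
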