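import Cfsg.Agent.SporadicRecognition.SuzU43Chk0
import Cfsg.Agent.SporadicRecognition.SuzU43Chk1
import Cfsg.Agent.SporadicRecognition.SuzU43Chk2
import Cfsg.Agent.SporadicRecognition.SuzU43Chk3
import Cfsg.Agent.SporadicRecognition.SuzU43Chk4
import Cfsg.Agent.SporadicRecognition.SuzU43Chk5
import Cfsg.Agent.SporadicRecognition.SuzU43Chk6
import Cfsg.Agent.SporadicRecognition.SuzU43Chk7
import Cfsg.Agent.SporadicRecognition.SuzU43Chk8

set_option autoImplicit false
set_option maxRecDepth 100000

namespace Cfsg.Agent.SporadicRecognition.SuzU43All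

open Cfsg.Agent.SporadicRecognition.CosetCert Cfsg.Agent.SporadicRecognition.SuzU43Data

theorem part : Part C 0 C.N 22880 := ((((((((Cfsg.Agent.SporadicRecognition.SuzU43Chk0.all).append C Cfsg.Agent.SporadicRecognition.SuzU43Chk1.all).append C Cfsg.Agent.SporadicRecognition.SuzU43Chk2.all).append C Cfsg.Agent.SporadicRecognition.SuzU43Chk3.all).append C Cfsg.Agent.SporadicRecognition.SuzU43Chk4.all).append C Cfsg.Agent.SporadicRecognition.SuzU43Chk5.all).append C Cfsg.Agent.SporadicRecognition.SuzU43Chk6.all).append C Cfsg.Agent.SporadicRecognition.SuzU43Chk7.all).append C Cfsg.Agent.SporadicRecognition.SuzU43Chk8.all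

end Cfsg.Agent.SporadicRecognition.SuzU43All
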