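import Cfsg.Agent.SporadicRecognition.AltCover

/-!
# Homomorphisms out of the non-split double cover of an alternating group

`exists_hom`: elements `Y 0, …, Y (m-1)` of a group `H` with `Y i ^ 3 = 1` and
`(Y i * Y j) ^ 2 = ζ` for `i ≠ j`, `ζ ^ 2 = 1`, `ζ` commuting with the `Y i`, are the images of the
lifts of order three of the Carmichael generators of `A_(m+2)` under a homomorphism from the
double cover, which maps `z` to `ζ`.
-/

set_option autoImplicit false

namespace Cfsg.Agent.SporadicRecognition.AltCoverHom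

open Cfsg.Agent.SporadicRecognition.AltCover
open Subgroup
open Cfsg.Agent.Lib.AltCarmichael

variable {m : ℕ} {C : Type*} [Group C] {π : C →* alternatingGroup (Fin (m + 2))} {z : C}

/-- Homomorphisms out of the double cover, `ζ` central. -/
theorem exists_hom_central (h : IsCover π z) (hm : 3 ≤ m) {H : Type*} [Group H]
    (Y : ℕ → H) {ζ : H} (hζ : ζ * ζ = 1) (hζc : ∀ x, x * ζ = ζ * x) (hY3 : ∀ i < m, Y i ^ 3 = 1)
    (hY : ∀ i < m, ∀ j < m, i ≠ j → (Y i * Y j) ^ 2 = ζ) :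
    ∃ Φ : C →* H, (∀ i (hi : i < m) (g : C), g ^ 3 = 1 → π g = cy m i hi → Φ g = Y i) ∧
      Φ z = ζ := by
  classical
  set N : Subgroup (C × H) := zpowers (z, ζ) with hN
  have hNz : (z, ζ) * (z, ζ) = (1 : C × H) := Prod.ext h.z_mul hζ
  have hmemN : ∀ p : C × H, p ∈ N ↔ p = 1 ∨ p = (z, ζ) := by
    intro p
    constructor
    · intro hp
      obtain ⟨k, hk⟩ := mem_zpowers_iff.1 hp
      rcases Int.even_or_odd' k with ⟨l, hl | hl⟩
      · left
        rw [← hk, hl, zpow_mul, zpow_two, hNz, one_zpow]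
      · right
        rw [← hk, hl, zpow_add, zpow_mul, zpow_two, hNz, one_zpow, one_mul, zpow_one]
    · rintro (rfl | rfl)
      · exact one_mem _
      · exact mem_zpowers _
  have hNn : N.Normal := by
    refine ⟨fun p hp g => ?_⟩
    rcases (hmemN p).1 hp with rfl | rfl
    · rw [mul_one, mul_inv_cancel]; exact one_mem _
    · have : g * (z, ζ) * g⁻¹ = (z, ζ) := by
        refine Prod.ext ?_ ?_
        · change g.1 * z * g.1⁻¹ = z
          rw [h.z_comm, mul_inv_cancel_right]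
        · change g.2 * ζ * g.2⁻¹ = ζ
          rw [hζc, mul_inv_cancel_right]
      rw [this]; exact mem_zpowers _
  choose X hX3 hXπ using fun (k : Fin m) => h.exists_cube (cy_cube k.2)
  let q : C × H →* (C × H) ⧸ N := QuotientGroup.mk' N
  have hq : ∀ p, q p = 1 ↔ p = 1 ∨ p = (z, ζ) := by
    intro p
    rw [← hmemN]
    exact QuotientGroup.eq_one_iff p
  have hrel : Rel m (fun k => if hk : k < m then q (X ⟨k, hk⟩, Y k) else 1) := by
    constructor
    · intro k hk
      simp only [dif_pos hk]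
      rw [← map_pow, hq]
      left
      exact Prod.ext (hX3 _) (hY3 _ hk)
    · intro k hk l hl hkl
      simp only [dif_pos hk, dif_pos hl]
      rw [← map_mul, ← map_pow, hq]
      right
      exact Prod.ext (h.sq_eq hm hk hl hkl (hX3 _) (hXπ _) (hX3 _) (hXπ _)) (hY k hk l hl hkl)
  obtain ⟨s, hs⟩ := Cfsg.Agent.Lib.AltCarmichael.exists_hom (by omega) hrel
  have hs' : ∀ k (hk : k < m), s (cy m k hk) = q (X ⟨k, hk⟩, Y k) := by
    intro k hk
    have := hs k hk
    simp only [dif_pos hk] at this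
    exact this
  have hN1 : N ≤ (π.comp (MonoidHom.fst C H)).ker := by
    intro p hp
    rw [MonoidHom.mem_ker]
    rcases (hmemN p).1 hp with rfl | rfl
    · exact map_one _
    · exact h.map_z
  have key1 : ∀ p g, q p = s g → π p.1 = g := by
    have hc : (QuotientGroup.lift N (π.comp (MonoidHom.fst C H)) hN1).comp s =
        MonoidHom.id _ := by
      refine hom_ext (by omega) fun k hk => ?_
      rw [MonoidHom.comp_apply, hs']
      exact hXπ ⟨k, hk⟩
    intro p g hp
    have h1 := DFunLike.congr_fun hc g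
    rw [MonoidHom.comp_apply, ← hp] at h1
    exact h1
  -- the graph
  let Γ : Subgroup (C × H) := s.range.comap q
  have hΓz : (z, ζ) ∈ Γ := ⟨1, by rw [map_one]; exact ((hq _).2 (Or.inr rfl)).symm⟩
  let f₁ : Γ →* C := (MonoidHom.fst C H).comp Γ.subtype
  let f₂ : Γ →* H := (MonoidHom.snd C H).comp Γ.subtype
  have hΓ : ∀ g, ∃ p ∈ Γ, π p.1 = g := by
    intro g
    obtain ⟨p, hp⟩ := QuotientGroup.mk'_surjective N (s g)
    exact ⟨p, ⟨g, hp.symm⟩, key1 p g hp⟩
  have hf₁ : Function.Bijective f₁ := by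
    constructor
    · rw [injective_iff_map_eq_one]
      rintro ⟨⟨a, b⟩, g, hg⟩ hab
      have ha : a = 1 := hab
      subst ha
      have h1 := key1 (1, b) g hg.symm
      rw [map_one] at h1
      rw [← h1, map_one] at hg
      rcases (hq (1, b)).1 hg.symm with h2 | h2
      · exact Subtype.ext h2
      · exact absurd (congrArg Prod.fst h2).symm h.z_ne
    · intro x
      obtain ⟨p, hp, hp1⟩ := hΓ (π x)
      rcases h.eq_or_of_map_eq hp1.symm with h1 | h1
      · exact ⟨⟨p, hp⟩, h1.symm⟩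
      · exact ⟨⟨p * (z, ζ), mul_mem hp hΓz⟩, h1.symm⟩
  let e₁ : Γ ≃* C := MulEquiv.ofBijective f₁ hf₁
  have he : ∀ p : Γ, (f₂.comp e₁.symm.toMonoidHom) p.1.1 = p.1.2 := by
    intro p
    have h1 : e₁.symm (p.1.1) = p := e₁.symm_apply_eq.2 rfl
    change f₂ (e₁.symm (p.1.1)) = p.1.2
    rw [h1]
    rfl
  refine ⟨f₂.comp e₁.symm.toMonoidHom, fun i hi g hg hgi => ?_, he ⟨(z, ζ), hΓz⟩⟩
  have hgX : g = X ⟨i, hi⟩ := h.eq_of_cube hg (hX3 _) (by rw [hgi, hXπ])
  have hmem : (g, Y i) ∈ Γ := ⟨cy m i hi, by rw [hs' i hi, hgX]⟩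
  exact he ⟨(g, Y i), hmem⟩

/-- Homomorphisms out of the double cover. -/
theorem exists_hom (h : IsCover π z) (hm : 3 ≤ m) {H : Type*} [Group H]
    (Y : ℕ → H) {ζ : H} (hζ : ζ * ζ = 1) (hY3 : ∀ i < m, Y i ^ 3 = 1)
    (hY : ∀ i < m, ∀ j < m, i ≠ j → (Y i * Y j) ^ 2 = ζ) :
    ∃ Φ : C →* H, (∀ i (hi : i < m) (g : C), g ^ 3 = 1 → π g = cy m i hi → Φ g = Y i) ∧
      Φ z = ζ := by
  have hζY : ∀ i < m, Y i * ζ = ζ * Y i := by
    intro i hi
    obtain ⟨j, hj, hij⟩ : ∃ j < m, i ≠ j := by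
      by_cases h0 : i = 0
      · exact ⟨1, by omega, by omega⟩
      · exact ⟨0, by omega, h0⟩
    calc Y i * ζ = Y i * (Y j * Y i) ^ 2 := by rw [hY j hj i hi hij.symm]
      _ = (Y i * Y j) ^ 2 * Y i := by simp only [pow_two, mul_assoc]
      _ = ζ * Y i := by rw [hY i hi j hj hij]
  let K : Subgroup H := centralizer {ζ}
  have hK : ∀ x : H, x ∈ K ↔ x * ζ = ζ * x := fun x => by
    rw [mem_centralizer_singleton_iff]
  let Y' : ℕ → K := fun i => if hi : i < m then ⟨Y i, (hK _).2 (hζY i hi)⟩ else 1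
  let ζ' : K := ⟨ζ, (hK _).2 rfl⟩
  have hY' : ∀ i < m, ((Y' i : K) : H) = Y i := fun i hi => by
    change ((if hi : i < m then (⟨Y i, (hK _).2 (hζY i hi)⟩ : K) else 1 : K) : H) = Y i
    rw [dif_pos hi]
  obtain ⟨Φ, h1, h2⟩ := exists_hom_central h hm Y' (ζ := ζ') (Subtype.ext hζ)
    (fun x => Subtype.ext ((hK x).1 x.2))
    (fun i hi => Subtype.ext (by
      rw [coe_pow, hY' i hi, hY3 i hi]; rfl))
    (fun i hi j hj hij => Subtype.ext (by
      rw [coe_pow, coe_mul, hY' i hi, hY' j hj, hY i hi j hj hij]))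
  refine ⟨K.subtype.comp Φ, fun i hi g hg hgi => ?_, ?_⟩
  · rw [MonoidHom.comp_apply, h1 i hi g hg hgi]
    exact hY' i hi
  · rw [MonoidHom.comp_apply, h2]; rfl

end Cfsg.Agent.SporadicRecognition.AltCoverHom
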