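import Mathlib.GroupTheory.Index
import Mathlib.Algebra.Group.Subgroup.Finite
import Mathlib.GroupTheory.Perm.Basic
import Mathlib.Data.Nat.Bitwise
import Mathlib.SetTheory.Cardinal.Finite
import Mathlib.Tactic.Ring
import Mathlib.Tactic.Linarith

/-!
An upper bound, checked by the kernel, for the order of a group of automorphisms of an explicit graph.

The graph has the vertices `0, …, n - 1` and is given by its rows: `rows.getD i 0` is the number whose bits are the
neighbours of `i`. The stabiliser of `0, …, v - 1` moves `v` only to points `w ≥ v` with the same adjacencies to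
`0, …, v - 1`; the number of these points is computed, and the product over all `v` bounds the order of the group.
-/

set_option autoImplicit false

namespace Cfsg.Agent.SporadicRecognition.AutBound

/-- the points of the mask `m` having the same adjacencies as `v` to the points with rows `done`. -/
def pat (v : ℕ) : List ℕ → ℕ → ℕ
  | [], m => m
  | r :: done, m => pat v done (bif Nat.testBit r v then Nat.land m r else Nat.xor m (Nat.land m r))

theorem testBit_pat (v w : ℕ) (done : List ℕ) (m : ℕ) (hm : m.testBit w = true)
    (h : ∀ r ∈ done, r.testBit w = r.testBit v) : (pat v done m).testBit w = true := by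
  induction done generalizing m with
  | nil => exact hm
  | cons r done ih =>
    rw [pat]
    apply ih
    · have hr := h r (by simp)
      cases hv : r.testBit v with
      | true =>
        rw [hv] at hr
        have : (m &&& r).testBit w = true := by rw [Nat.testBit_and, hm, hr]; rfl
        exact this
      | false =>
        rw [hv] at hr
        have : (m ^^^ (m &&& r)).testBit w = true := by
          rw [Nat.testBit_xor, Nat.testBit_and, hm, hr]; rfl
        exact this
    · exact fun r' hr' => h r' (by simp [hr'])

/-- the points `≥ v` and `< n` -/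
def tail (n v : ℕ) : ℕ := Nat.shiftLeft (Nat.sub (Nat.pow 2 (Nat.sub n v)) 1) v

theorem testBit_tail {n v w : ℕ} (h1 : v ≤ w) (h2 : w < n) : (tail n v).testBit w = true := by
  have h3 : ((2 ^ (n - v) - 1) <<< v).testBit w = true := by
    rw [Nat.testBit_shiftLeft, Nat.testBit_two_pow_sub_one]
    simp only [Bool.and_eq_true, decide_eq_true_eq]
    omega
  exact h3

/-- the number of points `< n` of the mask `m` -/
def cnt (m : ℕ) : ℕ → ℕ
  | 0 => 0
  | n + 1 => bif Nat.testBit m n then Nat.succ (cnt m n) else cnt m n

theorem cnt_eq (m n : ℕ) : cnt m n = ((Finset.range n).filter fun i => m.testBit i = true).card := by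
  induction n with
  | zero => rfl
  | succ n ih =>
    rw [cnt, Finset.range_add_one, Finset.filter_insert]
    cases h : m.testBit n with
    | true =>
      rw [if_pos rfl, Finset.card_insert_of_notMem (by simp), ← ih]
      rfl
    | false =>
      rw [if_neg (by simp), ← ih]
      rfl

/-- the number of points of a mask, with a short cut for the mask containing only `v` -/
def size (n v m : ℕ) : ℕ := bif Nat.beq m (Nat.shiftLeft 1 v) then 1 else cnt m n

theorem card_le_size {n v m : ℕ} (S : Finset ℕ) (hn : ∀ w ∈ S, w < n) (hm : ∀ w ∈ S, m.testBit w = true) :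
    S.card ≤ size n v m := by
  rw [size]
  cases h : Nat.beq m (Nat.shiftLeft 1 v) with
  | true =>
    have h1 : m = 1 <<< v := Nat.eq_of_beq_eq_true h
    show S.card ≤ 1
    rw [Finset.card_le_one]
    have key : ∀ w ∈ S, w = v := by
      intro w hw
      have h2 := hm w hw
      rw [h1, Nat.testBit_shiftLeft] at h2
      simp only [Bool.and_eq_true, decide_eq_true_eq] at h2
      have h3 : w - v = 0 := Nat.testBit_one_eq_true_iff_self_eq_zero.1 h2.2
      omega
    intro a ha b hb
    rw [key a ha, key b hb]
  | false =>
    show S.card ≤ cnt m n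
    rw [cnt_eq]
    apply Finset.card_le_card
    intro w hw
    rw [Finset.mem_filter, Finset.mem_range]
    exact ⟨hn w hw, hm w hw⟩

/-- the product of the sizes of the pattern classes -/
def go (n : ℕ) : List ℕ → List ℕ → ℕ → ℕ → ℕ
  | [], _, _, B => B
  | r :: rest, done, v, B => go n rest (r :: done) (Nat.succ v) (Nat.mul B (size n v (pat v done (tail n v))))

/-- the kernel-checked bound -/
def bound (n : ℕ) (rows : List ℕ) : ℕ := go n rows [] 0 1

section

variable {n : ℕ} (H : Subgroup (Equiv.Perm (Fin n)))

/-- the elements of `H` fixing all points `< v` -/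
def stab (v : ℕ) : Subgroup (Equiv.Perm (Fin n)) where
  carrier := {g | g ∈ H ∧ ∀ j : Fin n, (j : ℕ) < v → g j = j}
  one_mem' := ⟨H.one_mem, fun _ _ => rfl⟩
  mul_mem' := by
    rintro a b ⟨ha, ha'⟩ ⟨hb, hb'⟩
    exact ⟨H.mul_mem ha hb, fun j hj => by rw [Equiv.Perm.mul_apply, hb' j hj, ha' j hj]⟩
  inv_mem' := by
    rintro a ⟨ha, ha'⟩
    exact ⟨H.inv_mem ha, fun j hj => by rw [Equiv.Perm.inv_eq_iff_eq, ha' j hj]⟩

theorem mem_stab {v : ℕ} {g : Equiv.Perm (Fin n)} :
    g ∈ stab H v ↔ g ∈ H ∧ ∀ j : Fin n, (j : ℕ) < v → g j = j := Iff.rfl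

theorem stab_zero : stab H 0 = H := by
  ext g
  rw [mem_stab]
  exact ⟨fun h => h.1, fun h => ⟨h, fun j hj => absurd hj (Nat.not_lt_zero _)⟩⟩

theorem card_stab_top : Nat.card (stab H n) = 1 := by
  have : stab H n = ⊥ := by
    rw [Subgroup.eq_bot_iff_forall]
    intro g hg
    ext j
    rw [((mem_stab H).1 hg).2 j j.2]
    rfl
  rw [this, Subgroup.card_bot]

open Classical in
/-- the orbit-stabiliser step -/
theorem card_stab_le (v : Fin n) (S : Finset ℕ) (hS : ∀ g ∈ stab H v, ((g v : Fin n) : ℕ) ∈ S) :
    Nat.card (stab H v) ≤ S.card * Nat.card (stab H ((v : ℕ) + 1)) := by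
  let rep : ℕ → Equiv.Perm (Fin n) := fun w =>
    if h : ∃ g : stab H v, (((g : Equiv.Perm (Fin n)) v : Fin n) : ℕ) = w then h.choose else 1
  have hrep : ∀ g : stab H v, rep ((g : Equiv.Perm (Fin n)) v : Fin n) ∈ stab H v ∧
      rep ((g : Equiv.Perm (Fin n)) v : Fin n) v = (g : Equiv.Perm (Fin n)) v := by
    intro g
    have h : ∃ g' : stab H v, (((g' : Equiv.Perm (Fin n)) v : Fin n) : ℕ) =
      ((g : Equiv.Perm (Fin n)) v : Fin n) := ⟨g, rfl⟩
    have h2 : rep ((g : Equiv.Perm (Fin n)) v : Fin n) = h.choose := by
      simp only [rep]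
      rw [dif_pos h]
    rw [h2]
    exact ⟨h.choose.2, Fin.ext h.choose_spec⟩
  have hmem : ∀ g : stab H v, (rep ((g : Equiv.Perm (Fin n)) v : Fin n))⁻¹ * (g : Equiv.Perm (Fin n)) ∈
      stab H ((v : ℕ) + 1) := by
    intro g
    have h1 := (stab H v).mul_mem ((stab H v).inv_mem (hrep g).1) g.2
    refine ⟨((mem_stab H).1 h1).1, ?_⟩
    intro j hj
    rcases Nat.lt_succ_iff_lt_or_eq.1 hj with h | h
    · exact ((mem_stab H).1 h1).2 j h
    · have : j = v := Fin.ext h
      subst this
      rw [Equiv.Perm.mul_apply, Equiv.Perm.inv_eq_iff_eq]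
      exact (hrep g).2.symm
  have hcard : Nat.card S = S.card := by simp
  rw [← hcard, ← Nat.card_prod]
  refine Nat.card_le_card_of_injective (fun g : stab H v =>
    ((⟨((g : Equiv.Perm (Fin n)) v : Fin n), hS g g.2⟩ : S),
      (⟨(rep ((g : Equiv.Perm (Fin n)) v : Fin n))⁻¹ * (g : Equiv.Perm (Fin n)), hmem g⟩ :
        stab H ((v : ℕ) + 1)))) ?_
  intro g g' h
  simp only [Prod.mk.injEq, Subtype.mk.injEq] at h
  obtain ⟨h1, h2⟩ := h
  rw [h1] at h2
  exact Subtype.ext (mul_left_cancel h2)

theorem card_mul_le_go (rows : List ℕ) (hlen : rows.length = n)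
    (hH : ∀ g ∈ H, ∀ i j : Fin n,
      (rows.getD (g i : Fin n) 0).testBit (g j : Fin n) = (rows.getD i 0).testBit j)
    (rest done : List ℕ) (B : ℕ) (hrows : rows = done.reverse ++ rest) :
    Nat.card (stab H done.length) * B ≤ go n rest done done.length B := by
  induction rest generalizing done B with
  | nil =>
    have h1 : done.length = n := by
      rw [← hlen, hrows]; simp
    rw [go, h1, card_stab_top, one_mul]
  | cons r rest ih =>
    have h1 : done.length < n := by
      rw [← hlen, hrows]; simp
    have h2 := ih (r :: done) (Nat.mul B (size n done.length (pat done.length done (tail n done.length))))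
      (by rw [hrows]; simp)
    rw [go]
    refine le_trans ?_ h2
    have h3 : Nat.card (stab H done.length) ≤
        size n done.length (pat done.length done (tail n done.length)) *
          Nat.card (stab H (done.length + 1)) := by
      classical
      let v : Fin n := ⟨done.length, h1⟩
      let S : Finset ℕ := (Finset.univ.filter fun w : Fin n =>
        ∃ g ∈ stab H done.length, g v = w).image (fun w : Fin n => (w : ℕ))
      have hS := card_stab_le H v S (by
        intro g hg
        exact Finset.mem_image.2 ⟨g v, Finset.mem_filter.2 ⟨Finset.mem_univ _, g, hg, rfl⟩, rfl⟩)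
      refine hS.trans (Nat.mul_le_mul_right _ (card_le_size S ?_ ?_))
      · intro w hw
        obtain ⟨w', -, rfl⟩ := Finset.mem_image.1 hw
        exact w'.2
      · intro w hw
        obtain ⟨w', hw', rfl⟩ := Finset.mem_image.1 hw
        obtain ⟨g, hg, hgw⟩ := (Finset.mem_filter.1 hw').2
        obtain ⟨hgH, hfix⟩ := (mem_stab H).1 hg
        have hle : done.length ≤ (w' : ℕ) := by
          by_contra hlt
          push Not at hlt
          have e1 := hfix w' hlt
          have e2 : g w' = g v := by rw [e1, hgw]
          have e3 : w' = v := g.injective e2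
          rw [e3] at hlt
          exact lt_irrefl _ hlt
        apply testBit_pat
        · exact testBit_tail hle w'.2
        · intro r' hr'
          obtain ⟨u, hu, rfl⟩ : ∃ u : ℕ, u < done.length ∧ r' = rows.getD u 0 := by
            obtain ⟨i, hi, rfl⟩ := List.getElem_of_mem (List.mem_reverse.2 hr')
            rw [List.length_reverse] at hi
            refine ⟨i, hi, ?_⟩
            rw [hrows, List.getD_eq_getElem?_getD, List.getElem?_append_left (by simpa using hi),
              List.getElem?_eq_getElem (by simpa using hi)]
            rfl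
          have e1 : g ⟨u, hu.trans h1⟩ = ⟨u, hu.trans h1⟩ := hfix ⟨u, hu.trans h1⟩ hu
          have e2 := hH g hgH ⟨u, hu.trans h1⟩ v
          rw [e1, hgw] at e2
          exact e2
    calc Nat.card (stab H done.length) * B
        ≤ size n done.length (pat done.length done (tail n done.length)) *
          Nat.card (stab H (done.length + 1)) * B := Nat.mul_le_mul_right _ h3
      _ = Nat.card (stab H (r :: done).length) *
          Nat.mul B (size n done.length (pat done.length done (tail n done.length))) := by
        rw [List.length_cons]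
        show _ = _ * (B * _)
        ring

/-- **The bound.** -/
theorem card_le_bound (rows : List ℕ) (hlen : rows.length = n)
    (hH : ∀ g ∈ H, ∀ i j : Fin n,
      (rows.getD (g i : Fin n) 0).testBit (g j : Fin n) = (rows.getD i 0).testBit j) :
    Nat.card H ≤ bound n rows := by
  have := card_mul_le_go H rows hlen hH rows [] 1 (by simp)
  rw [List.length_nil, stab_zero, mul_one] at this
  exact this

end

end Cfsg.Agent.SporadicRecognition.AutBound
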