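import Cfsg.Agent.SporadicRecognition.M11hData

set_option autoImplicit false
set_option maxRecDepth 100000

namespace Cfsg.Agent.SporadicRecognition.M11hChk0

open Cfsg.Agent.SporadicRecognition.CosetCert Cfsg.Agent.SporadicRecognition.M11hData

theorem c0 : Part C 0 12 12 := runChunk_sound C 12 (by decide +kernel : runChunk C 2 3 0x67996699669a 1 1 0 0 12 = 13)

theorem all : Part C 0 12 12 := c0

end Cfsg.Agent.SporadicRecognition.M11hChk0
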