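import Cfsg.Agent.SporadicRecognition.McLRows

/-!
The McLaughlin graph `mcl` on `Fin 275`: strongly regular with parameters (275, 112, 30, 56), and its automorphism
group has order at most `1796256000 = 2 * 898128000`.
-/

set_option autoImplicit false

namespace Cfsg.Agent.SporadicRecognition.McLAut

open Cfsg.Agent.SporadicRecognition.McLRows Cfsg.Agent.SporadicRecognition.RowGraph
  Cfsg.Agent.SporadicRecognition.AutBound

theorem rows_length : rows.length = 275 := by decide +kernel

theorem rows_chkAll : chkAll rows rows 0 = true := by decide +kernel

theorem rows_spread : chkSpread 9 275 rows packed = true := by decide +kernel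

theorem rows_srg : chkSrg 275 9 56 26 56 rows packed = true := by decide +kernel

theorem rows_bound : Nat.beq (bound 275 rows) 1796256000 = true := by decide +kernel

/-- The McLaughlin graph on `Fin 275`. -/
noncomputable def mcl : SimpleGraph (Fin 275) := graph rows rows_length rows_chkAll

noncomputable instance mclDecidable : DecidableRel mcl.Adj := graphDecidable rows rows_length rows_chkAll

theorem mcl_isSRGWith : mcl.IsSRGWith 275 112 30 56 :=
  isSRGWith rows packed rows_length rows_chkAll rows_spread rows_srg (by norm_num) (by norm_num) (by norm_num)
    (by norm_num)

/-- The automorphism group of the McLaughlin graph has order at most `2 * 898128000`. -/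
theorem card_aut_le : Nat.card (mcl ≃g mcl) ≤ 1796256000 := by
  have h := RowGraph.card_aut_le rows rows_length rows_chkAll
  rw [Nat.eq_of_beq_eq_true rows_bound] at h
  exact h

end Cfsg.Agent.SporadicRecognition.McLAut
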