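import Cfsg.Agent.SporadicRecognition.CosetCert

set_option autoImplicit false
set_option maxRecDepth 100000

namespace Cfsg.Agent.SporadicRecognition.ONK2Data

open Cfsg.Agent.SporadicRecognition.CosetCert

noncomputable def tree : Tr := (.L 0xffeeba078fff6dafc07ffbd06581ffdc7aeb0ffeaa9a70fff4d2c347ffacc4501ffd459e70ffe699250fff2ca8247ff9c82481ffcc38e30ffe288a30fff0c24147ff8c40421ffc41842f)

noncomputable def wtree : WT := (.L 0 [1,0,1,0,1,0,1,0,1,0,1,0,1,0,1])

noncomputable def stree : ST := (.L 2 [] [])

noncomputable def C : Cert where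
  data := tree
  lm := 15
  rb := 37
  fb := 11
  mask := 2047
  B := 32
  k := 2
  N := 16
  inv := fun x => x
  words := wtree
  subs := stree

def rels : List (List Nat) := [[0,1,0,1,0,1,0,1,0,1,0,1,0,1,0,1]]

def subw : List (List Nat) := []

end Cfsg.Agent.SporadicRecognition.ONK2Data
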