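import Cfsg.Agent.SporadicRecognition.CosetCert

set_option autoImplicit false
set_option maxRecDepth 100000

namespace Cfsg.Agent.SporadicRecognition.ONK4Data

open Cfsg.Agent.SporadicRecognition.CosetCert

noncomputable def tree : Tr := (.L 0xfe135a58bf792245f)

noncomputable def wtree : WT := (.N 1 (.L 0 [2,0,2]) (.N 2 (.L 1 [2,1,2]) (.L 3 [1,0,1,0,1,0,1,0,2])))

noncomputable def stree : ST := (.N 1 (.L 0 [] []) (.L 1 [] []))

noncomputable def C : Cert where
  data := tree
  lm := 15
  rb := 34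
  fb := 6
  mask := 63
  B := 4
  k := 4
  N := 2
  inv := fun x => x
  words := wtree
  subs := stree

def rels : List (List Nat) := [[0,2,0,2], [0,3,0,3], [1,2,1,2], [1,3,1,3], [2,3,2,3], [2,3,1,0,1,0,1,0,1,0], [0,1,0,1,0,1,0,1,0,1,0,1,0,1,0,1]]

def subw : List (List Nat) := [[0], [1]]

end Cfsg.Agent.SporadicRecognition.ONK4Data
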