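import Cfsg.Agent.SporadicRecognition.ONK5Data

set_option autoImplicit false
set_option maxRecDepth 100000

namespace Cfsg.Agent.SporadicRecognition.ONK5Chk0

open Cfsg.Agent.SporadicRecognition.CosetCert Cfsg.Agent.SporadicRecognition.ONK5Data

theorem c0 : Part C 0 21 21 := runChunk_sound C 21 (by decide +kernel : runChunk C 9 511 0x431980804013998c03330100907230080926838180626023180404a3010cc04020090c66f301004e6630094d46011180804020088d860201004460209acc048301004040111b0c26b30118c02027180866d30100404630094c04934180802023998c02535190c66020100402230104c0402018942a05 1 1 0 0 21 = 22)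

theorem all : Part C 0 21 21 := c0

end Cfsg.Agent.SporadicRecognition.ONK5Chk0
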