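import Cfsg.Agent.SporadicRecognition.CosetCert

set_option autoImplicit false
set_option maxRecDepth 100000

namespace Cfsg.Agent.SporadicRecognition.ONK5Data

open Cfsg.Agent.SporadicRecognition.CosetCert

noncomputable def tree : Tr := (.N 16 (.L 0xfff94f910bb4b138cd0fff9308af88fa7284c0fffa1182e7cb9b180e2fff72a7ad99178b8f04fff6686ec70c6c986f4fff5e762b7ee76d64b4fff74d54a5875075c81fff4664a94e96ac4c94fff68c4483c54265aa2fff60b3a756a52a3650fff4893462c34083242fff2a52853e82433871fff2242041a21e43062fff1831632e62651220fff0a11021c40e21434fff0c2081061041021f) (.L 0xfffcb5c95cf3d34c530fffc34c14b90d15bf12fffb72b33cd5af0c751fffb53ab2a92a4fad21fffa2e9f196d9cebd42))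

noncomputable def wtree : WT := (.N 10 (.N 5 (.N 2 (.N 1 (.L 3 [1,0,1,0,1,0,1,0,2]) (.L 1 [4,1,4])) (.N 3 (.L 3 [4,3,4]) (.N 4 (.L 3 [0,3,0]) (.L 4 [0,4,0,4,0])))) (.N 7 (.N 6 (.L 1 [2,1,2]) (.L 3 [2,3,2])) (.N 8 (.L 4 [2,4,2,4,2]) (.N 9 (.L 3 [1,3,1]) (.L 4 [1,4,1]))))) (.N 15 (.N 12 (.N 11 (.L 0 [2,0,2]) (.L 0 [4,0,4,0,4])) (.N 13 (.L 2 [4,2,4,2,4]) (.N 14 (.L 2 [0,1,0,1,0,1,0,1,3]) (.L 0 [2,3,1,0,1,0,1,0,1])))) (.N 17 (.N 16 (.L 2 [0,2,0]) (.L 2 [1,2,1])) (.N 18 (.L 0 [1,0,1,0,1,0,1,3,2]) (.N 19 (.L 2 [3,1,0,1,0,1,0,1,0]) (.L 1 [3,2,0,1,0,1,0,1,0]))))))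

noncomputable def stree : ST := (.N 1 (.L 0 [] []) (.N 2 (.L 1 [] []) (.L 2 [] [])))

noncomputable def C : Cert where
  data := tree
  lm := 15
  rb := 76
  fb := 12
  mask := 4095
  B := 32
  k := 5
  N := 21
  inv := fun x => x
  words := wtree
  subs := stree

def rels : List (List Nat) := [[0,2,0,2], [0,3,0,3], [1,2,1,2], [1,3,1,3], [2,3,2,3], [4,1,4,1], [4,3,4,3], [2,4,2,4,2,4], [4,0,4,0,4,0], [2,3,1,0,1,0,1,0,1,0], [0,1,0,1,0,1,0,1,0,1,0,1,0,1,0,1]]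

def subw : List (List Nat) := [[0], [1], [2], [3]]

end Cfsg.Agent.SporadicRecognition.ONK5Data
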