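import Cfsg.Agent.SporadicRecognition.ONK7Chk0
import Cfsg.Agent.SporadicRecognition.ONK7Chk1
import Cfsg.Agent.SporadicRecognition.ONK7Chk2
import Cfsg.Agent.SporadicRecognition.ONK7Chk3
import Cfsg.Agent.SporadicRecognition.ONK7Chk4
import Cfsg.Agent.SporadicRecognition.ONK7Chk5
import Cfsg.Agent.SporadicRecognition.ONK7Chk6
import Cfsg.Agent.SporadicRecognition.ONK7Chk7
import Cfsg.Agent.SporadicRecognition.ONK7Chk8
import Cfsg.Agent.SporadicRecognition.ONK7Chk9
import Cfsg.Agent.SporadicRecognition.ONK7Chk10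
import Cfsg.Agent.SporadicRecognition.ONK7Chk11
import Cfsg.Agent.SporadicRecognition.ONK7Chk12
import Cfsg.Agent.SporadicRecognition.ONK7Chk13
import Cfsg.Agent.SporadicRecognition.ONK7Chk14
import Cfsg.Agent.SporadicRecognition.ONK7Chk15
import Cfsg.Agent.SporadicRecognition.ONK7Chk16
import Cfsg.Agent.SporadicRecognition.ONK7Chk17

set_option autoImplicit false
set_option maxRecDepth 100000

namespace Cfsg.Agent.SporadicRecognition.ONK7All

open Cfsg.Agent.SporadicRecognition.CosetCert Cfsg.Agent.SporadicRecognition.ONK7Data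

theorem part : Part C 0 C.N 122760 := (((((((((((((((((Cfsg.Agent.SporadicRecognition.ONK7Chk0.all).append C Cfsg.Agent.SporadicRecognition.ONK7Chk1.all).append C Cfsg.Agent.SporadicRecognition.ONK7Chk2.all).append C Cfsg.Agent.SporadicRecognition.ONK7Chk3.all).append C Cfsg.Agent.SporadicRecognition.ONK7Chk4.all).append C Cfsg.Agent.SporadicRecognition.ONK7Chk5.all).append C Cfsg.Agent.SporadicRecognition.ONK7Chk6.all).append C Cfsg.Agent.SporadicRecognition.ONK7Chk7.all).append C Cfsg.Agent.SporadicRecognition.ONK7Chk8.all).append C Cfsg.Agent.SporadicRecognition.ONK7Chk9.all).append C Cfsg.Agent.SporadicRecognition.ONK7Chk10.all).append C Cfsg.Agent.SporadicRecognition.ONK7Chk11.all).append C Cfsg.Agent.SporadicRecognition.ONK7Chk12.all).append C Cfsg.Agent.SporadicRecognition.ONK7Chk13.all).append C Cfsg.Agent.SporadicRecognition.ONK7Chk14.all).append C Cfsg.Agent.SporadicRecognition.ONK7Chk15.all).append C Cfsg.Agent.SporadicRecognition.ONK7Chk16.all).append C Cfsg.Agent.SporadicRecognition.ONK7Chk17.all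

end Cfsg.Agent.SporadicRecognition.ONK7All
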