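import Cfsg.Agent.SporadicRecognition.CosetCert
import Cfsg.Agent.SporadicRecognition.ONK7DataP0
import Cfsg.Agent.SporadicRecognition.ONK7DataP1
import Cfsg.Agent.SporadicRecognition.ONK7DataP2
import Cfsg.Agent.SporadicRecognition.ONK7DataP3
import Cfsg.Agent.SporadicRecognition.ONK7DataP4
import Cfsg.Agent.SporadicRecognition.ONK7DataP5

set_option autoImplicit false
set_option maxRecDepth 100000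

namespace Cfsg.Agent.SporadicRecognition.ONK7Data

open Cfsg.Agent.SporadicRecognition.CosetCert

noncomputable def tree : Tr := (.N 85744 (.N 42864 (.N 21424 (.N 10704 (.N 5344 (.N 2672 (.N 1328 (.N 656 (.N 320 t0 t1) (.N 992 t2 t3)) (.N 2000 (.N 1664 t4 t5) (.N 2336 t6 t7))) (.N 4000 (.N 3328 (.N 2992 t8 t9) (.N 3664 t10 t11)) (.N 4672 (.N 4336 t12 t13) (.N 5008 t14 t15)))) (.N 8016 (.N 6672 (.N 6000 (.N 5664 t16 t17) (.N 6336 t18 t19)) (.N 7344 (.N 7008 t20 t21) (.N 7680 t22 t23))) (.N 9360 (.N 8688 (.N 8352 t24 t25) (.N 9024 t26 t27)) (.N 10032 (.N 9696 t28 t29) (.N 10368 t30 t31))))) (.N 16064 (.N 13376 (.N 12032 (.N 11360 (.N 11024 t32 t33) (.N 11696 t34 t35)) (.N 12704 (.N 12368 t36 t37) (.N 13040 t38 t39))) (.N 14720 (.N 14048 (.N 13712 t40 t41) (.N 14384 t42 t43))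 (.N 15392 (.N 15056 t44 t45) (.N 15728 t46 t47)))) (.N 18736 (.N 17392 (.N 16720 (.N 16384 t48 t49) (.N 17056 t50 t51)) (.N 18064 (.N 17728 t52 t53) (.N 18400 t54 t55))) (.N 20080 (.N 19408 (.N 19072 t56 t57) (.N 19744 t58 t59)) (.N 20752 (.N 20416 t60 t61) (.N 21088 t62 t63)))))) (.N 32144 (.N 26784 (.N 24096 (.N 22752 (.N 22080 (.N 21744 t64 t65) (.N 22416 t66 t67)) (.N 23424 (.N 23088 t68 t69) (.N 23760 t70 t71))) (.N 25440 (.N 24768 (.N 24432 t72 t73) (.N 25104 t74 t75)) (.N 26112 (.N 25776 t76 t77) (.N 26448 t78 t79)))) (.N 29456 (.N 28112 (.N 27440 (.N 27104 t80 t81) (.N 27776 t82 t83)) (.N 28784 (.N 28448 t84 t85) (.N 29120 t86 t87))) (.N 30800 (.N 30128 (.N 29792 t88 t89) (.N 30464 t90 t91)) (.N 31472 (.N 31136 t92 t93) (.N 31808 t94 t95))))) (.N 37504 (.N 34816 (.N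 33472 (.N 32800 (.N 32464 t96 t97) (.N 33136 t98 t99)) (.N 34144 (.N 33808 t100 t101) (.N 34480 t102 t103))) (.N 36160 (.N 35488 (.N 35152 t104 t105) (.N 35824 t106 t107)) (.N 36832 (.N 36496 t108 t109) (.N 37168 t110 t111)))) (.N 40176 (.N 38832 (.N 38160 (.N 37824 t112 t113) (.N 38496 t114 t115)) (.N 39504 (.N 39168 t116 t117) (.N 39840 t118 t119))) (.N 41520 (.N 40848 (.N 40512 t120 t121) (.N 41184 t122 t123)) (.N 42192 (.N 41856 t124 t125) (.N 42528 t126 t127))))))) (.N 64304 (.N 53584 (.N 48224 (.N 45536 (.N 44192 (.N 43520 (.N 43184 t128 t129) (.N 43856 t130 t131)) (.N 44864 (.N 44528 t132 t133) (.N 45200 t134 t135))) (.N 46880 (.N 46208 (.N 45872 t136 t137) (.N 46544 t138 t139)) (.N 47552 (.N 47216 t140 t141) (.N 47888 t142 t143)))) (.N 50896 (.N 49552 (.N 48880 (.N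 48544 t144 t145) (.N 49216 t146 t147)) (.N 50224 (.N 49888 t148 t149) (.N 50560 t150 t151))) (.N 52240 (.N 51568 (.N 51232 t152 t153) (.N 51904 t154 t155)) (.N 52912 (.N 52576 t156 t157) (.N 53248 t158 t159))))) (.N 58944 (.N 56256 (.N 54912 (.N 54240 (.N 53904 t160 t161) (.N 54576 t162 t163)) (.N 55584 (.N 55248 t164 t165) (.N 55920 t166 t167))) (.N 57600 (.N 56928 (.N 56592 t168 t169) (.N 57264 t170 t171)) (.N 58272 (.N 57936 t172 t173) (.N 58608 t174 t175)))) (.N 61616 (.N 60272 (.N 59600 (.N 59264 t176 t177) (.N 59936 t178 t179)) (.N 60944 (.N 60608 t180 t181) (.N 61280 t182 t183))) (.N 62960 (.N 62288 (.N 61952 t184 t185) (.N 62624 t186 t187)) (.N 63632 (.N 63296 t188 t189) (.N 63968 t190 t191)))))) (.N 75024 (.N 69664 (.N 66976 (.N 65632 (.N 64960 (.N 64624 t192 t193)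 (.N 65296 t194 t195)) (.N 66304 (.N 65968 t196 t197) (.N 66640 t198 t199))) (.N 68320 (.N 67648 (.N 67312 t200 t201) (.N 67984 t202 t203)) (.N 68992 (.N 68656 t204 t205) (.N 69328 t206 t207)))) (.N 72336 (.N 70992 (.N 70320 (.N 69984 t208 t209) (.N 70656 t210 t211)) (.N 71664 (.N 71328 t212 t213) (.N 72000 t214 t215))) (.N 73680 (.N 73008 (.N 72672 t216 t217) (.N 73344 t218 t219)) (.N 74352 (.N 74016 t220 t221) (.N 74688 t222 t223))))) (.N 80384 (.N 77696 (.N 76352 (.N 75680 (.N 75344 t224 t225) (.N 76016 t226 t227)) (.N 77024 (.N 76688 t228 t229) (.N 77360 t230 t231))) (.N 79040 (.N 78368 (.N 78032 t232 t233) (.N 78704 t234 t235)) (.N 79712 (.N 79376 t236 t237) (.N 80048 t238 t239)))) (.N 83056 (.N 81712 (.N 81040 (.N 80704 t240 t241) (.N 81376 t242 t243)) (.N 82384 (.N 82048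 t244 t245) (.N 82720 t246 t247))) (.N 84400 (.N 83728 (.N 83392 t248 t249) (.N 84064 t250 t251)) (.N 85072 (.N 84736 t252 t253) (.N 85408 t254 t255)))))))) (.N 128624 (.N 107184 (.N 96464 (.N 91104 (.N 88416 (.N 87072 (.N 86400 (.N 86064 t256 t257) (.N 86736 t258 t259)) (.N 87744 (.N 87408 t260 t261) (.N 88080 t262 t263))) (.N 89760 (.N 89088 (.N 88752 t264 t265) (.N 89424 t266 t267)) (.N 90432 (.N 90096 t268 t269) (.N 90768 t270 t271)))) (.N 93776 (.N 92432 (.N 91760 (.N 91424 t272 t273) (.N 92096 t274 t275)) (.N 93104 (.N 92768 t276 t277) (.N 93440 t278 t279))) (.N 95120 (.N 94448 (.N 94112 t280 t281) (.N 94784 t282 t283)) (.N 95792 (.N 95456 t284 t285) (.N 96128 t286 t287))))) (.N 101824 (.N 99136 (.N 97792 (.N 97120 (.N 96784 t288 t289) (.N 97456 t290 t291)) (.N 98464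 (.N 98128 t292 t293) (.N 98800 t294 t295))) (.N 100480 (.N 99808 (.N 99472 t296 t297) (.N 100144 t298 t299)) (.N 101152 (.N 100816 t300 t301) (.N 101488 t302 t303)))) (.N 104496 (.N 103152 (.N 102480 (.N 102144 t304 t305) (.N 102816 t306 t307)) (.N 103824 (.N 103488 t308 t309) (.N 104160 t310 t311))) (.N 105840 (.N 105168 (.N 104832 t312 t313) (.N 105504 t314 t315)) (.N 106512 (.N 106176 t316 t317) (.N 106848 t318 t319)))))) (.N 117904 (.N 112544 (.N 109856 (.N 108512 (.N 107840 (.N 107504 t320 t321) (.N 108176 t322 t323)) (.N 109184 (.N 108848 t324 t325) (.N 109520 t326 t327))) (.N 111200 (.N 110528 (.N 110192 t328 t329) (.N 110864 t330 t331)) (.N 111872 (.N 111536 t332 t333) (.N 112208 t334 t335)))) (.N 115216 (.N 113872 (.N 113200 (.N 112864 t336 t337) (.N 113536 t338 t339))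 (.N 114544 (.N 114208 t340 t341) (.N 114880 t342 t343))) (.N 116560 (.N 115888 (.N 115552 t344 t345) (.N 116224 t346 t347)) (.N 117232 (.N 116896 t348 t349) (.N 117568 t350 t351))))) (.N 123264 (.N 120576 (.N 119232 (.N 118560 (.N 118224 t352 t353) (.N 118896 t354 t355)) (.N 119904 (.N 119568 t356 t357) (.N 120240 t358 t359))) (.N 121920 (.N 121248 (.N 120912 t360 t361) (.N 121584 t362 t363)) (.N 122592 (.N 122256 t364 t365) (.N 122928 t366 t367)))) (.N 125936 (.N 124592 (.N 123920 (.N 123584 t368 t369) (.N 124256 t370 t371)) (.N 125264 (.N 124928 t372 t373) (.N 125600 t374 t375))) (.N 127280 (.N 126608 (.N 126272 t376 t377) (.N 126944 t378 t379)) (.N 127952 (.N 127616 t380 t381) (.N 128288 t382 t383))))))) (.N 150064 (.N 139344 (.N 133984 (.N 131296 (.N 129952 (.N 129280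 (.N 128944 t384 t385) (.N 129616 t386 t387)) (.N 130624 (.N 130288 t388 t389) (.N 130960 t390 t391))) (.N 132640 (.N 131968 (.N 131632 t392 t393) (.N 132304 t394 t395)) (.N 133312 (.N 132976 t396 t397) (.N 133648 t398 t399)))) (.N 136656 (.N 135312 (.N 134640 (.N 134304 t400 t401) (.N 134976 t402 t403)) (.N 135984 (.N 135648 t404 t405) (.N 136320 t406 t407))) (.N 138000 (.N 137328 (.N 136992 t408 t409) (.N 137664 t410 t411)) (.N 138672 (.N 138336 t412 t413) (.N 139008 t414 t415))))) (.N 144704 (.N 142016 (.N 140672 (.N 140000 (.N 139664 t416 t417) (.N 140336 t418 t419)) (.N 141344 (.N 141008 t420 t421) (.N 141680 t422 t423))) (.N 143360 (.N 142688 (.N 142352 t424 t425) (.N 143024 t426 t427)) (.N 144032 (.N 143696 t428 t429) (.N 144368 t430 t431)))) (.N 147376 (.N 146032 (.N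 145360 (.N 145024 t432 t433) (.N 145696 t434 t435)) (.N 146704 (.N 146368 t436 t437) (.N 147040 t438 t439))) (.N 148720 (.N 148048 (.N 147712 t440 t441) (.N 148384 t442 t443)) (.N 149392 (.N 149056 t444 t445) (.N 149728 t446 t447)))))) (.N 160784 (.N 155424 (.N 152736 (.N 151392 (.N 150720 (.N 150384 t448 t449) (.N 151056 t450 t451)) (.N 152064 (.N 151728 t452 t453) (.N 152400 t454 t455))) (.N 154080 (.N 153408 (.N 153072 t456 t457) (.N 153744 t458 t459)) (.N 154752 (.N 154416 t460 t461) (.N 155088 t462 t463)))) (.N 158096 (.N 156752 (.N 156080 (.N 155744 t464 t465) (.N 156416 t466 t467)) (.N 157424 (.N 157088 t468 t469) (.N 157760 t470 t471))) (.N 159440 (.N 158768 (.N 158432 t472 t473) (.N 159104 t474 t475)) (.N 160112 (.N 159776 t476 t477) (.N 160448 t478 t479))))) (.N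 166144 (.N 163456 (.N 162112 (.N 161440 (.N 161104 t480 t481) (.N 161776 t482 t483)) (.N 162784 (.N 162448 t484 t485) (.N 163120 t486 t487))) (.N 164800 (.N 164128 (.N 163792 t488 t489) (.N 164464 t490 t491)) (.N 165472 (.N 165136 t492 t493) (.N 165808 t494 t495)))) (.N 168816 (.N 167472 (.N 166800 (.N 166464 t496 t497) (.N 167136 t498 t499)) (.N 168144 (.N 167808 t500 t501) (.N 168480 t502 t503))) (.N 170160 (.N 169488 (.N 169152 t504 t505) (.N 169824 t506 t507)) (.N 170832 (.N 170496 t508 t509) (.N 171168 t510 t511)))))))))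

noncomputable def wtree : WT := (.N 126 (.N 63 (.N 31 (.N 15 (.N 7 (.N 3 (.N 1 (.L 3 [5,2,5,2,5,2,5,2,4]) (.N 2 (.L 7 [4,3,6]) (.L 3 [5,3,5]))) (.N 5 (.N 4 (.L 4 [7,7,3]) (.L 4 [5,4,5])) (.N 6 (.L 5 [0,5,0]) (.L 2 [7,5,7,5,2,5,6,5,6])))) (.N 11 (.N 9 (.N 8 (.L 5 [2,6,2,6,5,7,2,7,2]) (.L 3 [0,3,0])) (.N 10 (.L 4 [1,4,1]) (.L 3 [2,3,2]))) (.N 13 (.N 12 (.L 4 [2,4,2]) (.L 5 [3,5,3])) (.N 14 (.L 0 [1,0,1]) (.L 1 [2,1,2]))))) (.N 23 (.N 19 (.N 17 (.N 16 (.L 5 [7,2,7,2,5,2,6,2,6]) (.L 5 [4,5,4])) (.N 18 (.L 1 [5,1,5,1,5]) (.L 2 [5,6,5,6,2,7,5,7,5]))) (.N 21 (.N 20 (.L 4 [3,5,2,5,2,5,2,5,2]) (.L 1 [7,1,5,7,5,1,7,5,7,5])) (.N 22 (.L 2 [1,2,1]) (.L 3 [4,3,4])))) (.N 27 (.N 25 (.N 24 (.L 6 [7,3,4]) (.L 0 [4,0,4,0,4])) (.N 26 (.L 6 [3,4,7]) (.L 4 [3,4,3]))) (.N 29 (.N 28 (.L 7 [6,4,3])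 (.L 1 [3,1,3,1,3])) (.N 30 (.L 0 [5,0,5]) (.L 0 [3,0,3])))))) (.N 47 (.N 39 (.N 35 (.N 33 (.N 32 (.L 1 [4,1,4]) (.L 2 [0,2,0,2,0])) (.N 34 (.L 2 [4,2,4]) (.L 5 [6,1,5,6,5,1,6,1,5,6]))) (.N 37 (.N 36 (.L 1 [6,1,5,6,5,6,1,5,6,5]) (.L 5 [1,7,5,7,5,1,7,1,5,7])) (.N 38 (.L 1 [0,1,0]) (.L 2 [3,2,3])))) (.N 43 (.N 41 (.N 40 (.L 6 [5,1,7,1,5,7,5,1,7,5]) (.L 8 [7,5,7,5,1,7,1,5,7,5,1])) (.N 42 (.L 8 [5,6,5,6,1,5,6,5,1,6,1]) (.L 8 [7,5,1,7,1,5,7,5,1,7,5]))) (.N 45 (.N 44 (.L 8 [1,3,1,3,1,3]) (.L 2 [7,2,0,7,0,2,7,2,0,7])) (.N 46 (.L 0 [2,7,2,0,7,2,7,2,0,7]) (.L 2 [6,2,0,6,0,2,6,2,6,0]))))) (.N 55 (.N 51 (.N 49 (.N 48 (.L 8 [7,2,7,2,5,2,6,2,6,5]) (.L 0 [7,0,2,7,2,0,7,2,7,2])) (.N 50 (.L 3 [1,3,1,3,1]) (.L 5 [1,5,1,5,1]))) (.N 53 (.N 52 (.L 8 [4,1,4,1]) (.L 8 [3,4,3,4])) (.N 54 (.L 2 [7,2,5,2,6,2,6,5,7])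 (.L 8 [6,0,2,6,2,6,0,2,6,2,0])))) (.N 59 (.N 57 (.N 56 (.L 8 [5,7,5,2,5,6,5,6,2,7]) (.L 7 [2,6,0,2,6,2,0,6,0,2])) (.N 58 (.L 6 [2,5,2,6,2,6,5,7,2]) (.L 6 [2,0,7,2,7,2,0,7,0,2]))) (.N 61 (.N 60 (.L 3 [4,7,7]) (.L 5 [6,2,7,5,7,5,2,5,6])) (.N 62 (.L 5 [7,5,2,5,6,5,6,2,7]) (.L 8 [6,5,6,2,7,5,7,5,2,5]))))))) (.N 94 (.N 78 (.N 70 (.N 66 (.N 64 (.L 0 [2,0,2,0,2]) (.N 65 (.L 8 [6,5,7,2,7,2,5,2,6,2]) (.L 5 [2,5,6,5,6,2,7,5,7]))) (.N 68 (.N 67 (.L 6 [2,0,7,0,2,7,2,0,7,2]) (.L 8 [2,7,2,0,7,2,7,2,0,7,0])) (.N 69 (.L 6 [5,2,5,6,5,6,2,7,5]) (.L 4 [0,4,0,4,0])))) (.N 74 (.N 72 (.N 71 (.L 7 [5,6,2,7,5,7,5,2,5]) (.L 8 [0,3,0,3])) (.N 73 (.L 8 [0,4,0,4,0,4]) (.L 8 [0,1,0,1]))) (.N 76 (.N 75 (.L 8 [3,2,3,2]) (.L 4 [3,6,6])) (.N 77 (.L 7 [0,2,6,2,6,0,2,6,2,0]) (.L 8 [0,5,0,5]))))) (.N 86 (.N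 82 (.N 80 (.N 79 (.L 1 [5,7,5,1,7,5,7,5,1,7]) (.L 8 [7,3,4,7])) (.N 81 (.L 7 [2,6,5,7,2,7,2,5,2]) (.L 8 [5,7,5,1,7,5,7,5,1,7,1]))) (.N 84 (.N 83 (.L 8 [6,2,7,5,7,5,2,5,6,5]) (.L 2 [5,2,6,2,6,5,7,2,7])) (.N 85 (.L 7 [5,6,1,5,6,5,1,6,1,5]) (.L 8 [1,0,1,0])))) (.N 90 (.N 88 (.N 87 (.L 8 [2,1,2,1]) (.L 5 [7,5,1,7,5,7,5,1,7,1])) (.N 89 (.L 1 [5,6,5,6,1,5,6,5,1,6]) (.L 6 [1,5,7,5,1,7,5,7,5,1]))) (.N 92 (.N 91 (.L 2 [6,5,7,2,7,2,5,2,6]) (.L 0 [2,6,2,6,0,2,6,2,0,6])) (.N 93 (.L 6 [0,2,7,2,0,7,2,7,2,0]) (.L 8 [7,7,3,4])))))) (.N 110 (.N 102 (.N 98 (.N 96 (.N 95 (.L 5 [1,6,1,5,6,5,6,1,5,6]) (.L 8 [7,5,1,7,5,7,5,1,7,1,5])) (.N 97 (.L 8 [5,7,5,1,7,1,5,7,5,1,7]) (.L 8 [4,3,6,6]))) (.N 100 (.N 99 (.L 8 [6,5,6,1,5,6,5,1,6,1,5]) (.L 5 [6,5,1,6,1,5,6,5,6,1])) (.N 101 (.L 2 [0,6,0,2,6,2,6,0,2,6])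 (.L 1 [7,5,7,5,1,7,1,5,7,5])))) (.N 106 (.N 104 (.N 103 (.L 7 [1,5,6,5,6,1,5,6,5,1]) (.L 8 [1,4,1,4])) (.N 105 (.L 8 [1,2,1,2]) (.L 8 [4,2,4,2]))) (.N 108 (.N 107 (.L 2 [5,2,5,2,4,3,5,2,5]) (.L 4 [2,5,2,5,2,5,2,5,3])) (.N 109 (.L 5 [2,4,3,5,2,5,2,5,2]) (.L 3 [6,6,4]))))) (.N 118 (.N 114 (.N 112 (.N 111 (.L 2 [6,0,2,6,2,0,6,0,2,6]) (.L 6 [5,7,5,2,5,6,5,6,2])) (.N 113 (.L 0 [7,2,7,2,0,7,0,2,7,2]) (.L 2 [5,2,5,2,5,2,4,3,5]))) (.N 116 (.N 115 (.L 7 [2,0,6,0,2,6,2,6,0,2]) (.L 8 [2,5,2,6,2,6,5,7,2,7])) (.N 117 (.L 8 [6,0,2,6,2,0,6,0,2,6,2]) (.L 8 [6,2,6,0,2,6,2,0,6,0,2])))) (.N 122 (.N 120 (.N 119 (.L 8 [2,0,6,0,2,6,2,6,0,2,6]) (.L 2 [0,7,2,7,2,0,7,0,2,7])) (.N 121 (.L 2 [7,2,0,7,2,7,2,0,7,0]) (.L 6 [5,1,7,5,7,5,1,7,1,5]))) (.N 124 (.N 123 (.L 6 [2,7,2,5,2,6,2,6,5]) (.L 5 [7,5,1,7,1,5,7,5,1,7]))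 (.N 125 (.L 7 [5,7,2,7,2,5,2,6,2]) (.L 6 [2,7,2,0,7,0,2,7,2,0])))))))) (.N 189 (.N 157 (.N 141 (.N 133 (.N 129 (.N 127 (.L 8 [3,1,3,1,3,1]) (.N 128 (.L 8 [3,0,3,0]) (.L 1 [5,6,5,1,6,1,5,6,5,6]))) (.N 131 (.N 130 (.L 7 [2,7,5,7,5,2,5,6,5]) (.L 2 [6,1,5,2,6,1,5,2,6,1,5,2,6,1,5,2,6,1,5])) (.N 132 (.L 6 [2,5,1,7,2,5,1,7,2,5,1,7,2,5,1,7,2,5,1]) (.L 7 [1,5,6,5,1,6,1,5,6,5])))) (.N 137 (.N 135 (.N 134 (.L 7 [5,1,6,1,5,6,5,6,1,5]) (.L 5 [2,6,1,5,2,6,1,5,2,6,1,5,2,6,1,5,2,6,1])) (.N 136 (.L 8 [5,1,6,1,5,6,5,6,1,5,6]) (.L 8 [1,5,6,5,1,6,1,5,6,5,6]))) (.N 139 (.N 138 (.L 5 [6,5,6,2,7,5,7,5,2]) (.L 0 [2,6,2,0,6,0,2,6,2,6])) (.N 140 (.L 2 [6,2,6,5,7,2,7,2,5]) (.L 0 [6,0,2,6,2,6,0,2,6,2]))))) (.N 149 (.N 145 (.N 143 (.N 142 (.L 5 [6,5,6,1,5,6,5,1,6,1]) (.L 8 [1,5,7,5,1,7,5,7,5,1,7])) (.N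 144 (.L 8 [5,6,1,5,6,5,1,6,1,5,6]) (.L 8 [5,1,7,5,7,5,1,7,1,5,7]))) (.N 147 (.N 146 (.L 2 [5,1,7,2,5,1,7,2,5,1,7,2,5,1,7,2,5,1,7]) (.L 2 [5,2,5,2,5,2,5,2,5,2,5,2,5,2,5])) (.N 148 (.L 6 [5,7,5,1,7,1,5,7,5,1]) (.L 8 [6,1,5,2,6,1,5,2,6,1,5,2,6,1,5,2,6,1,5,2])))) (.N 153 (.N 151 (.N 150 (.L 7 [0,2,6,2,0,6,0,2,6,2]) (.L 8 [2,7,2,0,7,0,2,7,2,0,7])) (.N 152 (.L 8 [1,5,1,5,1,5]) (.L 2 [6,2,6,0,2,6,2,0,6,0]))) (.N 155 (.N 154 (.L 8 [7,2,7,2,0,7,0,2,7,2,0]) (.L 8 [2,0,7,0,2,7,2,0,7,2,7])) (.N 156 (.L 8 [6,4,3,6]) (.L 8 [7,5,7,5,2,5,6,5,6,2])))))) (.N 173 (.N 165 (.N 161 (.N 159 (.N 158 (.L 8 [1,5,6,5,6,1,5,6,5,1,6]) (.L 8 [2,4,2,4])) (.N 160 (.L 8 [7,2,0,7,0,2,7,2,0,7,2]) (.L 8 [5,1,5,1,5,1]))) (.N 163 (.N 162 (.L 8 [2,5,6,5,6,2,7,5,7,5]) (.L 8 [2,6,5,7,2,7,2,5,2,6])) (.N 164 (.L 8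 [3,4,7,7]) (.L 8 [5,2,6,2,6,5,7,2,7,2])))) (.N 169 (.N 167 (.N 166 (.L 8 [7,2,0,7,2,7,2,0,7,0,2]) (.L 8 [2,3,2,3])) (.N 168 (.L 8 [0,6,0,2,6,2,6,0,2,6,2]) (.L 8 [2,6,2,6,0,2,6,2,0,6,0]))) (.N 171 (.N 170 (.L 8 [5,7,2,7,2,5,2,6,2,6]) (.L 8 [7,5,2,5,6,5,6,2,7,5])) (.N 172 (.L 8 [0,2,6,2,6,0,2,6,2,0,6]) (.L 8 [6,6,4,3]))))) (.N 181 (.N 177 (.N 175 (.N 174 (.L 8 [5,1,7,1,5,7,5,1,7,5,7]) (.L 5 [1,7,1,5,7,5,1,7,5,7])) (.N 176 (.L 8 [6,1,5,6,5,1,6,1,5,6,5]) (.L 8 [6,1,5,6,5,6,1,5,6,5,1]))) (.N 179 (.N 178 (.L 8 [1,6,1,5,6,5,6,1,5,6,5]) (.L 8 [5,0,5,0])) (.N 180 (.L 8 [0,7,0,2,7,2,0,7,2,7,2]) (.L 8 [4,7,7,3])))) (.N 185 (.N 183 (.N 182 (.L 8 [5,6,2,7,5,7,5,2,5,6]) (.L 8 [4,0,4,0,4,0])) (.N 184 (.L 2 [0,7,0,2,7,2,0,7,2,7]) (.L 8 [5,4,5,4]))) (.N 187 (.N 186 (.L 8 [2,6,0,2,6,2,0,6,0,2,6])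 (.L 8 [6,2,6,5,7,2,7,2,5,2])) (.N 188 (.L 8 [7,0,2,7,2,0,7,2,7,2,0]) (.L 8 [3,6,6,4]))))))) (.N 220 (.N 204 (.N 196 (.N 192 (.N 190 (.L 8 [7,1,5,7,5,1,7,5,7,5,1]) (.N 191 (.L 8 [7,2,5,2,6,2,6,5,7,2]) (.L 5 [2,5,2,5,2,5,2,4,3]))) (.N 194 (.N 193 (.L 7 [1,5,2,6,1,5,2,6,1,5,2,6,1,5,2,6,1,5,2]) (.L 1 [5,2,6,1,5,2,6,1,5,2,6,1,5,2,6,1,5,2,6])) (.N 195 (.L 8 [2,7,5,7,5,2,5,6,5,6]) (.L 1 [7,2,5,1,7,2,5,1,7,2,5,1,7,2,5,1,7,2,5])))) (.N 200 (.N 198 (.N 197 (.L 2 [4,3,5,2,5,2,5,2,5]) (.L 8 [0,2,0,2,0,2])) (.N 199 (.L 8 [5,1,7,2,5,1,7,2,5,1,7,2,5,1,7,2,5,1,7,2]) (.L 8 [2,6,1,5,2,6,1,5,2,6,1,5,2,6,1,5,2,6,1,5]))) (.N 202 (.N 201 (.L 8 [2,6,2,6,5,7,2,7,2,5]) (.L 8 [0,2,7,2,0,7,2,7,2,0,7])) (.N 203 (.L 8 [4,5,4,5]) (.L 8 [2,0,2,0,2,0]))))) (.N 212 (.N 208 (.N 206 (.N 205 (.L 8 [6,5,1,6,1,5,6,5,6,1,5])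 (.L 8 [5,6,5,1,6,1,5,6,5,6,1])) (.N 207 (.L 2 [5,2,4,3,5,2,5,2,5]) (.L 8 [2,0,7,2,7,2,0,7,0,2,7]))) (.N 210 (.N 209 (.L 8 [6,2,0,6,0,2,6,2,6,0,2]) (.L 8 [1,7,5,7,5,1,7,1,5,7,5])) (.N 211 (.L 8 [1,7,1,5,7,5,1,7,5,7,5]) (.L 8 [2,7,2,5,2,6,2,6,5,7])))) (.N 216 (.N 214 (.N 213 (.L 8 [1,5,2,6,1,5,2,6,1,5,2,6,1,5,2,6,1,5,2,6]) (.L 8 [5,2,5,3,4,2,5,2,5,2])) (.N 215 (.L 8 [2,5,1,7,2,5,1,7,2,5,1,7,2,5,1,7,2,5,1,7]) (.L 5 [2,5,2,5,2,4,3,5,2]))) (.N 218 (.N 217 (.L 2 [5,2,5,2,5,2,5,3,4]) (.L 8 [0,2,6,2,0,6,0,2,6,2,6])) (.N 219 (.L 5 [1,7,2,5,1,7,2,5,1,7,2,5,1,7,2,5,1,7,2]) (.L 5 [2,5,2,4,3,5,2,5,2])))))) (.N 236 (.N 228 (.N 224 (.N 222 (.N 221 (.L 8 [4,3,4,3]) (.L 8 [4,3,5,2,5,2,5,2,5,2])) (.N 223 (.L 8 [0,7,2,7,2,0,7,0,2,7,2]) (.L 5 [2,5,2,5,3,4,2,5,2]))) (.N 226 (.N 225 (.L 8 [4,2,5,2,5,2,5,2,5,3])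 (.L 8 [5,6,5,6,2,7,5,7,5,2])) (.N 227 (.L 8 [2,6,2,0,6,0,2,6,2,6,0]) (.L 3 [4,2,5,2,5,2,5,2,5])))) (.N 232 (.N 230 (.N 229 (.L 5 [3,4,2,5,2,5,2,5,2]) (.L 8 [5,2,5,6,5,6,2,7,5,7])) (.N 231 (.L 5 [2,5,2,5,2,5,2,5,2,5,2,5,2,5,2]) (.L 8 [5,2,5,2,5,2,5,3,4,2]))) (.N 234 (.N 233 (.L 8 [3,5,3,5]) (.L 8 [2,5,2,5,2,5,3,4,2,5])) (.N 235 (.L 2 [5,3,4,2,5,2,5,2,5]) (.L 8 [1,7,2,5,1,7,2,5,1,7,2,5,1,7,2,5,1,7,2,5]))))) (.N 244 (.N 240 (.N 238 (.N 237 (.L 8 [2,5,2,5,2,5,2,5,3,4]) (.L 8 [5,2,5,2,5,3,4,2,5,2])) (.N 239 (.L 2 [5,2,5,2,5,3,4,2,5]) (.L 5 [2,5,2,5,2,5,3,4,2]))) (.N 242 (.N 241 (.L 8 [2,5,2,5,3,4,2,5,2,5]) (.L 8 [5,3,4,2,5,2,5,2,5,2])) (.N 243 (.L 8 [5,2,6,1,5,2,6,1,5,2,6,1,5,2,6,1,5,2,6,1]) (.L 8 [2,5,2,4,3,5,2,5,2,5])))) (.N 248 (.N 246 (.N 245 (.L 5 [2,5,3,4,2,5,2,5,2]) (.L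 8 [5,3,5,3])) (.N 247 (.L 8 [7,2,5,1,7,2,5,1,7,2,5,1,7,2,5,1,7,2,5,1]) (.L 8 [2,5,2,5,2,4,3,5,2,5]))) (.N 250 (.N 249 (.L 8 [2,5,3,4,2,5,2,5,2,5]) (.L 2 [5,2,5,3,4,2,5,2,5])) (.N 251 (.L 8 [5,2,5,2,5,2,5,2,4,3]) (.L 8 [3,5,2,5,2,5,2,5,2,4])))))))))

noncomputable def stree : ST := (.N 2 (.N 1 (.L 5 [] []) (.L 2 [] [])) (.N 3 (.L 1 [] []) (.N 4 (.L 4 [] []) (.L 0 [] []))))

noncomputable def C : Cert where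
  data := tree
  lm := 15
  rb := 355
  fb := 39
  mask := 549755813887
  B := 262144
  k := 8
  N := 171489
  inv := fun x => bif Nat.beq x 0 then 0 else bif Nat.beq x 1 then 1 else bif Nat.beq x 2 then 2 else bif Nat.beq x 3 then 3 else bif Nat.beq x 4 then 4 else bif Nat.beq x 5 then 5 else bif Nat.beq x 6 then 7 else bif Nat.beq x 7 then 6 else x
  words := wtree
  subs := stree

def rels : List (List Nat) := [[5,3,5,3], [5,4,5,4], [2,3,2,3], [2,4,2,4], [3,4,3,4], [1,2,1,2], [1,4,1,4], [3,0,3,0], [1,0,1,0], [5,0,5,0], [3,4,7,7], [3,1,3,1,3,1], [1,5,1,5,1,5], [2,0,2,0,2,0], [0,4,0,4,0,4], [3,4,2,5,2,5,2,5,2,5], [5,7,2,7,2,5,2,6,2,6], [2,7,5,7,5,2,5,6,5,6], [6,1,5,6,5,1,6,1,5,6,5], [6,0,2,6,2,0,6,0,2,6,2], [5,2,5,2,5,2,5,2,5,2,5,2,5,2,5,2], [1,5,2,6,1,5,2,6,1,5,2,6,1,5,2,6,1,5,2,6]]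

def subw : List (List Nat) := [[5], [2], [1], [4], [0], [3]]

end Cfsg.Agent.SporadicRecognition.ONK7Data
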