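import Mathlib

set_option autoImplicit false

/-!
Rank 3 transitive actions give strongly regular graphs, and two arithmetical restrictions on the parameters of a
strongly regular graph.
-/

namespace Cfsg.Agent.SporadicRecognition.RankThree

open MulAction

variable {G X : Type*} [Group G] [MulAction G X]

/-- the orbital of the pair `(a, b)`. -/
def Orb (G : Type*) {X : Type*} [Group G] [MulAction G X] (a b x y : X) : Prop :=
  ∃ g : G, g • a = x ∧ g • b = y

theorem Orb.smul {a b x y : X} (h : Orb G a b x y) (g : G) : Orb G a b (g • x) (g • y) := by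
  obtain ⟨t, rfl, rfl⟩ := h
  exact ⟨g * t, mul_smul _ _ _, mul_smul _ _ _⟩

theorem Orb.of_smul {a b x y : X} (g : G) (h : Orb G a b (g • x) (g • y)) : Orb G a b x y := by
  have := h.smul g⁻¹
  rwa [inv_smul_smul, inv_smul_smul] at this

theorem orb_smul_iff {a b x y : X} (g : G) : Orb G a b (g • x) (g • y) ↔ Orb G a b x y :=
  ⟨Orb.of_smul g, fun h => h.smul g⟩

theorem orb_self_iff {a b y : X} : Orb G a b a y ↔ y ∈ orbit (stabilizer G a) b := by
  constructor
  · rintro ⟨g, hg, rfl⟩
    exact ⟨⟨g, hg⟩, rfl⟩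
  · rintro ⟨⟨g, hg⟩, rfl⟩
    exact ⟨g, hg, rfl⟩

theorem ncard_orb [IsPretransitive G X] {a b : X} (x : X) :
    {y | Orb G a b x y}.ncard = (orbit (stabilizer G a) b).ncard := by
  obtain ⟨g, rfl⟩ := exists_smul_eq G a x
  have : {y | Orb G a b (g • a) y} = (fun y => g • y) '' (orbit (stabilizer G a) b) := by
    ext y
    constructor
    · intro h
      refine ⟨g⁻¹ • y, ?_, smul_inv_smul g y⟩
      rw [← orb_self_iff (G := G)]
      apply Orb.of_smul g
      rwa [smul_inv_smul]
    · rintro ⟨y, hy, rfl⟩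
      exact (orb_self_iff.2 hy).smul g
  rw [this, Set.ncard_image_of_injective _ (MulAction.injective g)]

/-- The hypotheses of a rank 3 action with different subdegrees. -/
structure IsRankThree (G : Type*) {X : Type*} [Group G] [MulAction G X] [Finite X] (a b c : X) (k l : ℕ) : Prop where
  trans : IsPretransitive G X
  cardX : Nat.card X = 1 + k + l
  cb : (orbit (stabilizer G a) b).ncard = k
  cc : (orbit (stabilizer G a) c).ncard = l
  hk : 1 < k
  hl : 1 < l
  ne : k ≠ l

namespace IsRankThree

variable [Finite X] {a b c : X} {k l : ℕ}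

theorem cases_base (h : IsRankThree G a b c k l) (y : X) :
    y = a ∨ Orb G a b a y ∨ Orb G a c a y := by
  have hfix : ∀ z : X, a ∈ orbit (stabilizer G a) z → (orbit (stabilizer G a) z).ncard = 1 := by
    intro z hz
    have h1 : orbit (stabilizer G a) z = orbit (stabilizer G a) a := (orbit_eq_iff.2 hz).symm
    rw [h1]
    have : orbit (stabilizer G a) a = {a} := by
      ext t
      simp only [Set.mem_singleton_iff]
      constructor
      · rintro ⟨⟨g, hg⟩, rfl⟩
        exact hg
      · rintro rfl
        exact mem_orbit_self _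
    rw [this, Set.ncard_singleton]
  have ha1 : a ∉ orbit (stabilizer G a) b := by
    intro h1
    have := hfix _ h1
    have h2 := h.cb
    have := h.hk
    omega
  have ha2 : a ∉ orbit (stabilizer G a) c := by
    intro h1
    have := hfix _ h1
    have h2 := h.cc
    have := h.hl
    omega
  have hd : Disjoint (orbit (stabilizer G a) b) (orbit (stabilizer G a) c) := by
    rw [Set.disjoint_left]
    intro t h1 h2
    have e1 := orbit_eq_iff.2 h1
    have e2 := orbit_eq_iff.2 h2
    have := h.cb
    have := h.cc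
    have := h.ne
    rw [← e1] at *
    rw [← e2] at *
    omega
  have hu : ({a} ∪ (orbit (stabilizer G a) b ∪ orbit (stabilizer G a) c) : Set X) = Set.univ := by
    apply Set.eq_of_subset_of_ncard_le (Set.subset_univ _)
    rw [Set.ncard_univ, h.cardX, Set.ncard_union_eq, Set.ncard_union_eq hd, h.cb, h.cc, Set.ncard_singleton]
    · omega
    · rw [Set.disjoint_singleton_left]
      rintro (h1 | h1)
      · exact ha1 h1
      · exact ha2 h1
  have hy : y ∈ ({a} ∪ (orbit (stabilizer G a) b ∪ orbit (stabilizer G a) c) : Set X) := by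
    rw [hu]; exact Set.mem_univ _
  rcases hy with h1 | h1 | h1
  · exact Or.inl h1
  · exact Or.inr (Or.inl (orb_self_iff.2 h1))
  · exact Or.inr (Or.inr (orb_self_iff.2 h1))

theorem cases_all (h : IsRankThree G a b c k l) (x y : X) :
    y = x ∨ Orb G a b x y ∨ Orb G a c x y := by
  have := h.trans
  obtain ⟨g, rfl⟩ := exists_smul_eq G a x
  rcases h.cases_base (g⁻¹ • y) with h1 | h1 | h1
  · left
    rw [← h1, smul_inv_smul]
  · right; left
    have := h1.smul g
    rwa [smul_inv_smul] at this
  · right; right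
    have := h1.smul g
    rwa [smul_inv_smul] at this

theorem ne_b (h : IsRankThree G a b c k l) : b ≠ a := by
  rintro rfl
  have h1 := h.cb
  have : orbit (stabilizer G b) b = {b} := by
    ext t
    simp only [Set.mem_singleton_iff]
    constructor
    · rintro ⟨⟨g, hg⟩, rfl⟩
      exact hg
    · rintro rfl
      exact mem_orbit_self _
  rw [this, Set.ncard_singleton] at h1
  have := h.hk
  omega

theorem ne_c (h : IsRankThree G a b c k l) : c ≠ a := by
  rintro rfl
  have h1 := h.cc
  have : orbit (stabilizer G c) c = {c} := by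
    ext t
    simp only [Set.mem_singleton_iff]
    constructor
    · rintro ⟨⟨g, hg⟩, rfl⟩
      exact hg
    · rintro rfl
      exact mem_orbit_self _
  rw [this, Set.ncard_singleton] at h1
  have := h.hl
  omega

theorem orb_ne (h : IsRankThree G a b c k l) {x y : X} (h1 : Orb G a b x y) : x ≠ y := by
  obtain ⟨g, rfl, rfl⟩ := h1
  intro h2
  exact h.ne_b (smul_left_cancel _ h2).symm

theorem orb_ne' (h : IsRankThree G a b c k l) {x y : X} (h1 : Orb G a c x y) : x ≠ y := by
  obtain ⟨g, rfl, rfl⟩ := h1
  intro h2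
  exact h.ne_c (smul_left_cancel _ h2).symm

theorem orb_disj (h : IsRankThree G a b c k l) {x y : X} (h1 : Orb G a b x y) (h2 : Orb G a c x y) : False := by
  obtain ⟨g, hg1, hg2⟩ := h1
  obtain ⟨t, ht1, ht2⟩ := h2
  have h3 : Orb G a b a c := by
    refine ⟨t⁻¹ * g, ?_, ?_⟩
    · rw [mul_smul, hg1, ← ht1, inv_smul_smul]
    · rw [mul_smul, hg2, ← ht2, inv_smul_smul]
  rw [orb_self_iff] at h3
  have e1 := orbit_eq_iff.2 h3
  have := h.cb
  have := h.cc
  have := h.ne
  rw [← e1] at *
  omega

theorem orb_symm (h : IsRankThree G a b c k l) {x y : X} (h1 : Orb G a b x y) : Orb G a b y x := by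
  have := h.trans
  classical
  have := Fintype.ofFinite X
  rcases h.cases_all y x with h2 | h2 | h2
  · exact absurd h2 (h.orb_ne h1)
  · exact h2
  · exfalso
    -- every pair of the orbital of `(a, b)` reversed is in the orbital of `(a, c)` and conversely
    have key : ∀ u v : X, Orb G a b u v ↔ Orb G a c v u := by
      intro u v
      obtain ⟨g, rfl, rfl⟩ := h1
      obtain ⟨t, ht1, ht2⟩ := h2
      -- `t • a = g • b`, `t • c = g • a`
      constructor
      · rintro ⟨s, rfl, rfl⟩
        refine ⟨s * g⁻¹ * t, ?_, ?_⟩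
        · rw [mul_smul, ht1, mul_smul, inv_smul_smul]
        · rw [mul_smul, ht2, mul_smul, inv_smul_smul]
      · rintro ⟨s, rfl, rfl⟩
        refine ⟨s * t⁻¹ * g, ?_, ?_⟩
        · rw [mul_smul, ← ht2, mul_smul, inv_smul_smul]
        · rw [mul_smul, ← ht1, mul_smul, inv_smul_smul]
    have c1 : ∑ u : X, {v | Orb G a b u v}.ncard = Fintype.card X * k := by
      simp only [ncard_orb, h.cb, Finset.sum_const, smul_eq_mul, Finset.card_univ]
    have c2 : ∑ v : X, {u | Orb G a c v u}.ncard = Fintype.card X * l := by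
      simp only [ncard_orb, h.cc, Finset.sum_const, smul_eq_mul, Finset.card_univ]
    have c3 : ∑ u : X, {v | Orb G a b u v}.ncard = ∑ v : X, {u | Orb G a c v u}.ncard := by
      have e1 : ∀ u : X, {v | Orb G a b u v}.ncard = ∑ v : X, if Orb G a b u v then 1 else 0 := by
        intro u
        rw [Set.ncard_eq_toFinset_card', Finset.sum_boole, Nat.cast_id]
        congr 1
        ext v
        simp
      have e2 : ∀ v : X, {u | Orb G a c v u}.ncard = ∑ u : X, if Orb G a c v u then 1 else 0 := by
        intro u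
        rw [Set.ncard_eq_toFinset_card', Finset.sum_boole, Nat.cast_id]
        congr 1
        ext v
        simp
      simp only [e1, e2]
      rw [Finset.sum_comm]
      refine Finset.sum_congr rfl fun v _ => Finset.sum_congr rfl fun u _ => ?_
      simp only [key u v]
    rw [c1, c2] at c3
    have hX : 0 < Fintype.card X := Fintype.card_pos_iff.2 ⟨a⟩
    exact h.ne (Nat.eq_of_mul_eq_mul_left hX c3)

/-- the graph of a rank 3 action. -/
def graph (h : IsRankThree G a b c k l) : SimpleGraph X where
  Adj x y := Orb G a b x y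
  symm := ⟨fun _ _ h1 => h.orb_symm h1⟩
  loopless := ⟨fun _ h1 => h.orb_ne h1 rfl⟩

theorem adj_iff (h : IsRankThree G a b c k l) {x y : X} : h.graph.Adj x y ↔ Orb G a b x y := Iff.rfl

theorem adj_smul (h : IsRankThree G a b c k l) (g : G) {x y : X} :
    h.graph.Adj (g • x) (g • y) ↔ h.graph.Adj x y := orb_smul_iff g

theorem not_adj_iff (h : IsRankThree G a b c k l) {x y : X} (hxy : x ≠ y) :
    ¬ h.graph.Adj x y ↔ Orb G a c x y := by
  constructor
  · intro h1
    rcases h.cases_all x y with h2 | h2 | h2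
    · exact absurd h2.symm hxy
    · exact absurd h2 h1
    · exact h2
  · intro h2 h1
    exact h.orb_disj h1 h2

theorem commonNeighbors_smul (h : IsRankThree G a b c k l) (g : G) (x y : X) :
    h.graph.commonNeighbors (g • x) (g • y) = (fun z => g • z) '' (h.graph.commonNeighbors x y) := by
  ext z
  simp only [SimpleGraph.mem_commonNeighbors, Set.mem_image]
  constructor
  · rintro ⟨h1, h2⟩
    refine ⟨g⁻¹ • z, ⟨?_, ?_⟩, smul_inv_smul g z⟩
    · rw [← h.adj_smul g, smul_inv_smul]; exact h1
    · rw [← h.adj_smul g, smul_inv_smul]; exact h2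
  · rintro ⟨w, ⟨h1, h2⟩, rfl⟩
    exact ⟨(h.adj_smul g).2 h1, (h.adj_smul g).2 h2⟩

theorem isSRG [Fintype X] (h : IsRankThree G a b c k l) [DecidableRel h.graph.Adj] :
    h.graph.IsSRGWith (1 + k + l) k (h.graph.commonNeighbors a b).ncard (h.graph.commonNeighbors a c).ncard := by
  have := h.trans
  refine ⟨?_, ?_, ?_, ?_⟩
  · rw [← Nat.card_eq_fintype_card, h.cardX]
  · intro x
    rw [← SimpleGraph.card_neighborSet_eq_degree, ← Set.toFinset_card, ← Set.ncard_eq_toFinset_card']
    have h1 : h.graph.neighborSet x = {y | Orb G a b x y} := rfl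
    rw [h1, ncard_orb, h.cb]
  · intro x y hxy
    rw [← Set.toFinset_card, ← Set.ncard_eq_toFinset_card']
    obtain ⟨g, rfl, rfl⟩ := h.adj_iff.1 hxy
    rw [h.commonNeighbors_smul, Set.ncard_image_of_injective _ (MulAction.injective g)]
  · intro x y hne hxy
    rw [← Set.toFinset_card, ← Set.ncard_eq_toFinset_card']
    obtain ⟨g, rfl, rfl⟩ := (h.not_adj_iff hne).1 hxy
    rw [h.commonNeighbors_smul, Set.ncard_image_of_injective _ (MulAction.injective g)]

end IsRankThree

/-! ### Arithmetical restrictions -/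

section Arith

variable {V : Type*} [Fintype V] [DecidableEq V] {Γ : SimpleGraph V} [DecidableRel Γ.Adj] {n k ℓ μ : ℕ}

/-- number of ordered triangles is divisible by three. -/
theorem three_dvd (h : Γ.IsSRGWith n k ℓ μ) : 3 ∣ n * k * ℓ := by
  have h1 := ZMod.trace_pow_card (p := 3) (Γ.adjMatrix (ZMod 3))
  rw [SimpleGraph.trace_adjMatrix, zero_pow (by norm_num), pow_succ] at h1
  have h2 : (Matrix.trace (Γ.adjMatrix (ZMod 3) ^ 2 * Γ.adjMatrix (ZMod 3))) = ((n * k * ℓ : ℕ) : ZMod 3) := by
    rw [Matrix.trace]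
    have h3 : ∀ v, (Γ.adjMatrix (ZMod 3) ^ 2 * Γ.adjMatrix (ZMod 3)).diag v = ((k * ℓ : ℕ) : ZMod 3) := by
      intro v
      rw [Matrix.diag_apply, Matrix.mul_apply]
      have h4 : ∀ w, (Γ.adjMatrix (ZMod 3) ^ 2) v w * Γ.adjMatrix (ZMod 3) w v
          = if Γ.Adj v w then (ℓ : ZMod 3) else 0 := by
        intro w
        by_cases hvw : Γ.Adj v w
        · have hne : v ≠ w := hvw.ne
          rw [show Γ.adjMatrix (ZMod 3) w v = 1 by simp [SimpleGraph.adjMatrix_apply, hvw.symm], mul_one,
            h.matrix_eq, if_pos hvw, Matrix.add_apply, Matrix.add_apply, Matrix.smul_apply, Matrix.smul_apply,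
            Matrix.smul_apply, Matrix.one_apply_ne hne, SimpleGraph.adjMatrix_apply, SimpleGraph.adjMatrix_apply]
          simp [hvw]
        · have : ¬ Γ.Adj w v := fun h => hvw h.symm
          rw [show Γ.adjMatrix (ZMod 3) w v = 0 by simp [SimpleGraph.adjMatrix_apply, this], mul_zero,
            if_neg hvw]
      simp only [h4]
      rw [← Finset.sum_filter, Finset.sum_const, ← SimpleGraph.neighborFinset_eq_filter,
        SimpleGraph.card_neighborFinset_eq_degree, h.regular v]
      simp
    simp only [h3, Finset.sum_const, Finset.card_univ, h.card]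
    push_cast
    simp [mul_assoc]
  rw [h2] at h1
  exact (ZMod.natCast_eq_zero_iff _ _).1 h1

/-- a disjoint union of complete graphs. -/
theorem dvd_of_union_complete (h : Γ.IsSRGWith n k (k - 1) 0) (hk : 0 < k) (hp : (k + 1).Prime) : (k + 1) ∣ n := by
  have := Fact.mk hp
  rcases isEmpty_or_nonempty V with hV | hV
  · have h1 := h.card
    rw [Fintype.card_eq_zero] at h1
    rw [← h1]
    exact dvd_zero _
  set A := Γ.adjMatrix (ZMod (k + 1)) with hA
  have h0 : A ^ 2 + 2 • A + 1 = 0 := by
    rw [hA, h.matrix_eq]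
    obtain ⟨j, rfl⟩ : ∃ j, k = j + 1 := ⟨k - 1, by omega⟩
    have e1 : ((j + 1 : ℕ) : ZMod (j + 1 + 1)) = -1 := by
      have := ZMod.natCast_self (j + 1 + 1)
      push_cast at this ⊢
      linear_combination this
    have e2 : ((j : ℕ) : ZMod (j + 1 + 1)) = -2 := by
      have := ZMod.natCast_self (j + 1 + 1)
      push_cast at this ⊢
      linear_combination this
    rw [Nat.add_sub_cancel, zero_smul, add_zero, ← Nat.cast_smul_eq_nsmul (ZMod (j + 1 + 1)) (j + 1), e1,
      ← Nat.cast_smul_eq_nsmul (ZMod (j + 1 + 1)) j, e2, ← Nat.cast_smul_eq_nsmul (ZMod (j + 1 + 1)) 2]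
    push_cast
    module
  have h1 : (A + 1) ^ 2 = 0 := by
    rw [← h0]
    noncomm_ring
  have h2 : (A + 1) ^ (k + 1) = 0 := by
    obtain ⟨j, hj⟩ : ∃ j, k = j + 1 := ⟨k - 1, by omega⟩
    have h2' : ∀ m, m = 2 + j → (A + 1) ^ m = 0 := by
      rintro m rfl
      rw [pow_add, h1, zero_mul]
    exact h2' _ (by omega)
  have h3 : (A + 1) ^ (k + 1) = A ^ (k + 1) + 1 := by
    have := add_pow_char_of_commute (R := Matrix V V (ZMod (k + 1))) (k + 1) (x := A) (y := 1) (Commute.one_right A)
    rw [this, one_pow]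
  have h4 : A ^ (k + 1) = -1 := by
    rw [h3] at h2
    exact eq_neg_of_add_eq_zero_left h2
  have h5 := ZMod.trace_pow_card (p := k + 1) A
  rw [h4, hA, SimpleGraph.trace_adjMatrix, zero_pow (by omega), Matrix.trace_neg, Matrix.trace_one, h.card,
    neg_eq_zero] at h5
  exact (ZMod.natCast_eq_zero_iff _ _).1 h5

end Arith

end Cfsg.Agent.SporadicRecognition.RankThree
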