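import Mathlib.Combinatorics.SimpleGraph.StronglyRegular
import Mathlib.Data.Nat.Bitwise
import Mathlib.Tactic.Ring
import Mathlib.Tactic.Linarith
import Mathlib.Algebra.Order.Group.End
import Cfsg.Agent.SporadicRecognition.AutBound

/-!
Explicit graphs on `Fin n` given by a list of rows (bit masks): kernel-checkable conditions for being a simple graph
and for being strongly regular, and the bound of `AutBound` for the order of the automorphism group.
-/

set_option autoImplicit false

namespace Cfsg.Agent.SporadicRecognition.RowGraph

open Finset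

/-- compare row `i` with column `i` -/
def chkRow (ri i : ℕ) : List ℕ → ℕ → Bool
  | [], _ => true
  | rj :: rest, j => bif Nat.beq (Nat.land (Nat.shiftRight ri j) 1) (Nat.land (Nat.shiftRight rj i) 1) then
      chkRow ri i rest (Nat.succ j) else false

/-- symmetry and irreflexivity -/
def chkAll (all : List ℕ) : List ℕ → ℕ → Bool
  | [], _ => true
  | ri :: rest, i => bif chkRow ri i all 0 then
      (bif Nat.beq (Nat.land (Nat.shiftRight ri i) 1) 0 then chkAll all rest (Nat.succ i) else false) else false

theorem testBit_eq_of_land {x y i j : ℕ}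
    (h : Nat.beq (Nat.land (Nat.shiftRight x j) 1) (Nat.land (Nat.shiftRight y i) 1) = true) :
    x.testBit j = y.testBit i := by
  have h1 : (x >>> j) &&& 1 = (y >>> i) &&& 1 := Nat.eq_of_beq_eq_true h
  rw [Nat.testBit, Nat.testBit, Nat.and_comm 1, Nat.and_comm 1, h1]

theorem testBit_of_land {x j : ℕ}
    (h : Nat.beq (Nat.land (Nat.shiftRight x j) 1) 0 = true) : x.testBit j = false := by
  have h1 : (x >>> j) &&& 1 = 0 := Nat.eq_of_beq_eq_true h
  rw [Nat.testBit, Nat.and_comm 1, h1]
  rfl

theorem cond_true {b c : Bool} (h : (bif b then c else false) = true) : b = true ∧ c = true := by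
  cases b <;> simp_all

theorem chkRow_spec {ri i : ℕ} {rows : List ℕ} {j : ℕ} (h : chkRow ri i rows j = true) (t : ℕ)
    (ht : t < rows.length) : ri.testBit (j + t) = (rows.getD t 0).testBit i := by
  induction rows generalizing j t with
  | nil => simp at ht
  | cons rj rest ih =>
    rw [chkRow] at h
    obtain ⟨h1, h2⟩ := cond_true h
    cases t with
    | zero => simpa using testBit_eq_of_land h1
    | succ t =>
      have := ih h2 t (by simpa using ht)
      rw [List.getD_cons_succ, ← this]
      congr 1
      omega

theorem chkAll_spec {all rest : List ℕ} {i : ℕ} (h : chkAll all rest i = true) (t : ℕ) (ht : t < rest.length) :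
    (∀ s < all.length, (rest.getD t 0).testBit s = (all.getD s 0).testBit (i + t)) ∧
      (rest.getD t 0).testBit (i + t) = false := by
  induction rest generalizing i t with
  | nil => simp at ht
  | cons ri rest ih =>
    rw [chkAll] at h
    obtain ⟨h1, h2⟩ := cond_true h
    obtain ⟨h2, h3⟩ := cond_true h2
    cases t with
    | zero =>
      refine ⟨fun s hs => ?_, ?_⟩
      · have := chkRow_spec h1 s hs
        simpa using this
      · simpa using testBit_of_land h2
    | succ t =>
      have := ih h3 t (by simpa using ht)
      rw [List.getD_cons_succ]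
      have e : Nat.succ i + t = i + (t + 1) := by omega
      rw [e] at this
      exact this

section

variable {n : ℕ} (rows : List ℕ) (hlen : rows.length = n) (hchk : chkAll rows rows 0 = true)

include hlen hchk in
theorem symm_rows (i j : Fin n) : (rows.getD i 0).testBit j = (rows.getD j 0).testBit i := by
  have := (chkAll_spec hchk i (by rw [hlen]; exact i.2)).1 j (by rw [hlen]; exact j.2)
  simpa using this

include hlen hchk in
theorem irrefl_rows (i : Fin n) : (rows.getD i 0).testBit i = false := by
  have := (chkAll_spec hchk i (by rw [hlen]; exact i.2)).2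
  simpa using this

/-- the graph with the given rows -/
def graph : SimpleGraph (Fin n) where
  Adj i j := (rows.getD i 0).testBit j = true
  symm := ⟨by
    intro i j h
    rw [← symm_rows rows hlen hchk i j]
    exact h⟩
  loopless := ⟨by
    intro i h
    rw [irrefl_rows rows hlen hchk i] at h
    exact absurd h (by simp)⟩

theorem graph_adj (i j : Fin n) : (graph rows hlen hchk).Adj i j ↔ (rows.getD i 0).testBit j = true := Iff.rfl

instance graphDecidable : DecidableRel (graph rows hlen hchk).Adj := fun i j =>
  inferInstanceAs (Decidable ((rows.getD i 0).testBit j = true))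

/-- The order of the automorphism group is at most `AutBound.bound`. -/
theorem card_aut_le : Nat.card (graph rows hlen hchk ≃g graph rows hlen hchk) ≤ AutBound.bound n rows := by
  classical
  let Γ := graph rows hlen hchk
  let f : (Γ ≃g Γ) →* Equiv.Perm (Fin n) :=
    { toFun := fun g => g.toEquiv
      map_one' := rfl
      map_mul' := fun _ _ => rfl }
  have hf : Function.Injective f := by
    intro g g' h
    exact RelIso.toEquiv_injective h
  rw [Nat.card_congr (MonoidHom.ofInjective hf).toEquiv]
  apply AutBound.card_le_bound f.range rows hlen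
  rintro _ ⟨g, rfl⟩ i j
  have h1 : Γ.Adj (g i) (g j) ↔ Γ.Adj i j := g.map_rel_iff'
  rw [graph_adj, graph_adj] at h1
  exact Bool.eq_iff_iff.2 h1

end

/-! ### Strong regularity -/

/-- the bits of `r` below `n`, spread to the positions `s * j` -/
def spread (s r : ℕ) : ℕ → ℕ
  | 0 => 0
  | j + 1 => bif Nat.testBit r j then Nat.add (spread s r j) (Nat.shiftLeft 1 (Nat.mul s j)) else spread s r j

theorem spread_eq (s r n : ℕ) :
    spread s r n = ∑ j ∈ range n, (r.testBit j).toNat * (2 ^ s) ^ j := by
  induction n with
  | zero => rfl
  | succ n ih =>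
    rw [spread, sum_range_succ, ← ih]
    cases h : r.testBit n with
    | true =>
      have : (1 : ℕ) <<< (s * n) = (2 ^ s) ^ n := by rw [Nat.shiftLeft_eq, one_mul, pow_mul]
      show spread s r n + 1 <<< (s * n) = _
      rw [this]; simp
    | false => simp

/-- all packed rows are the spread rows -/
def chkSpread (s n : ℕ) : List ℕ → List ℕ → Bool
  | [], [] => true
  | r :: rows, R :: packed => bif Nat.beq (spread s r n) R then chkSpread s n rows packed else false
  | _, _ => false

theorem chkSpread_spec {s n : ℕ} {rows packed : List ℕ} (h : chkSpread s n rows packed = true) :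
    packed.length = rows.length ∧ ∀ t < rows.length, packed.getD t 0 = spread s (rows.getD t 0) n := by
  induction rows generalizing packed with
  | nil =>
    cases packed with
    | nil => exact ⟨rfl, fun t ht => absurd ht (by simp)⟩
    | cons R packed => simp [chkSpread] at h
  | cons r rows ih =>
    cases packed with
    | nil => simp [chkSpread] at h
    | cons R packed =>
      rw [chkSpread] at h
      obtain ⟨h1, h2⟩ := cond_true h
      obtain ⟨h3, h4⟩ := ih h2
      refine ⟨by simp [h3], ?_⟩
      intro t ht
      cases t with
      | zero => exact (Nat.eq_of_beq_eq_true h1).symm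
      | succ t => exact h4 t (by simpa using ht)

/-- the sum of the packed rows selected by the bits of `r` -/
def sumSel (r : ℕ) : List ℕ → ℕ → ℕ → ℕ
  | [], _, acc => acc
  | R :: packed, k, acc => bif Nat.testBit r k then sumSel r packed (Nat.succ k) (Nat.add acc R)
      else sumSel r packed (Nat.succ k) acc

theorem sumSel_eq (r : ℕ) (packed : List ℕ) (k acc : ℕ) :
    sumSel r packed k acc =
      acc + ∑ t ∈ range packed.length, (r.testBit (k + t)).toNat * packed.getD t 0 := by
  induction packed generalizing k acc with
  | nil => simp [sumSel]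
  | cons R packed ih =>
    rw [sumSel, List.length_cons, sum_range_succ']
    have e : ∀ t, Nat.succ k + t = k + (t + 1) := fun t => by omega
    cases h : r.testBit k with
    | true =>
      show sumSel r packed (Nat.succ k) (acc + R) = _
      rw [ih]
      simp only [e, List.getD_cons_succ, List.getD_cons_zero]
      rw [Bool.toNat_true]
      ring
    | false =>
      show sumSel r packed (Nat.succ k) acc = _
      rw [ih]
      simp only [e, List.getD_cons_succ, List.getD_cons_zero]
      rw [Bool.toNat_false]
      ring

/-- The number with all digits `1` in base `2 ^ s`. -/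
def ones (s : ℕ) : ℕ → ℕ
  | 0 => 0
  | j + 1 => Nat.add (ones s j) (Nat.shiftLeft 1 (Nat.mul s j))

theorem ones_eq (s n : ℕ) : ones s n = ∑ j ∈ range n, 1 * (2 ^ s) ^ j := by
  induction n with
  | zero => rfl
  | succ n ih =>
    rw [sum_range_succ, ← ih]
    have : (1 : ℕ) <<< (s * n) = (2 ^ s) ^ n := by rw [Nat.shiftLeft_eq, one_mul, pow_mul]
    show ones s n + 1 <<< (s * n) = _
    rw [this]; simp

/-- For every `i`: the sum of the rows of the neighbours of `i` plus `d` times row `i` is `m` times the all-one row
plus `c` times the unit row. -/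
def chkSRG (s c d mOnes : ℕ) (allPacked : List ℕ) : List ℕ → List ℕ → ℕ → Bool
  | r :: rows, R :: packed, i =>
      bif Nat.beq (Nat.add (sumSel r allPacked 0 0) (Nat.mul d R))
          (Nat.add mOnes (Nat.mul c (Nat.shiftLeft 1 (Nat.mul s i)))) then
        chkSRG s c d mOnes allPacked rows packed (Nat.succ i) else false
  | _, _, _ => true

theorem chkSRG_spec {s c d mOnes : ℕ} {allPacked rows packed : List ℕ} {i : ℕ}
    (h : chkSRG s c d mOnes allPacked rows packed i = true) (hl : packed.length = rows.length) (t : ℕ)
    (ht : t < rows.length) :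
    sumSel (rows.getD t 0) allPacked 0 0 + d * packed.getD t 0 = mOnes + c * (2 ^ s) ^ (i + t) := by
  induction rows generalizing packed i t with
  | nil => simp at ht
  | cons r rows ih =>
    cases packed with
    | nil => simp at hl
    | cons R packed =>
      rw [chkSRG] at h
      obtain ⟨h1, h2⟩ := cond_true h
      cases t with
      | zero =>
        have h3 : sumSel r allPacked 0 0 + d * R = mOnes + c * (1 <<< (s * i)) := Nat.eq_of_beq_eq_true h1
        have : (1 : ℕ) <<< (s * i) = (2 ^ s) ^ i := by rw [Nat.shiftLeft_eq, one_mul, pow_mul]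
        rw [this] at h3
        simpa using h3
      | succ t =>
        have := ih h2 (by simpa using hl) t (by simpa using ht)
        rw [List.getD_cons_succ, List.getD_cons_succ, this]
        congr 3
        omega

/-- the strong regularity check: `d = m - ℓ`, `c = k - m`. -/
def chkSrg (n s c d m : ℕ) (rows packed : List ℕ) : Bool :=
  chkSRG s c d (Nat.mul m (ones s n)) packed rows packed 0

/-- uniqueness of digits -/
theorem digits_unique (b : ℕ) (hb : 0 < b) (n : ℕ) (x y : ℕ → ℕ) (hx : ∀ j < n, x j < b) (hy : ∀ j < n, y j < b)
    (h : ∑ j ∈ range n, x j * b ^ j = ∑ j ∈ range n, y j * b ^ j) : ∀ j < n, x j = y j := by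
  induction n generalizing x y with
  | zero => intro j hj; exact absurd hj (Nat.not_lt_zero _)
  | succ n ih =>
    rw [sum_range_succ', sum_range_succ'] at h
    have e : ∀ z : ℕ → ℕ, ∑ j ∈ range n, z (j + 1) * b ^ (j + 1) = b * ∑ j ∈ range n, z (j + 1) * b ^ j := by
      intro z
      rw [mul_sum]
      apply sum_congr rfl
      intro j _
      ring
    rw [e, e, pow_zero, mul_one, mul_one] at h
    have h0 : x 0 = y 0 := by
      have h1 := congrArg (· % b) h
      simp only [Nat.mul_add_mod] at h1
      rwa [Nat.mod_eq_of_lt (hx 0 (by omega)), Nat.mod_eq_of_lt (hy 0 (by omega))] at h1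
    have hs : ∑ j ∈ range n, x (j + 1) * b ^ j = ∑ j ∈ range n, y (j + 1) * b ^ j := by
      rw [h0] at h
      exact Nat.eq_of_mul_eq_mul_left hb (Nat.add_right_cancel h)
    intro j hj
    cases j with
    | zero => exact h0
    | succ j =>
      exact ih (fun j => x (j + 1)) (fun j => y (j + 1)) (fun t ht => hx (t + 1) (Nat.succ_lt_succ ht))
        (fun t ht => hy (t + 1) (Nat.succ_lt_succ ht)) hs j (Nat.lt_of_succ_lt_succ hj)

/-- the number of common neighbours from the checked identity -/
theorem common_eq {n s c d m : ℕ} {rows packed : List ℕ} (hlen : rows.length = n)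
    (hsp : chkSpread s n rows packed = true)
    (hsrg : chkSrg n s c d m rows packed = true) (hb : n + d < 2 ^ s)
    (hmc : m + c < 2 ^ s) (i j : Fin n) :
    ∑ k ∈ range n, ((rows.getD i 0).testBit k).toNat * ((rows.getD k 0).testBit j).toNat +
      d * ((rows.getD i 0).testBit j).toNat = m + c * (if (i : ℕ) = j then 1 else 0) := by
  obtain ⟨hl, hp⟩ := chkSpread_spec hsp
  have h1 := chkSRG_spec hsrg hl i (by rw [hlen]; exact i.2)
  rw [sumSel_eq, hl, hlen, hp i (by rw [hlen]; exact i.2), spread_eq, zero_add] at h1
  have h2 : ∑ t ∈ range n, ((rows.getD i 0).testBit (0 + t)).toNat * packed.getD t 0 =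
      ∑ j ∈ range n, (∑ k ∈ range n, ((rows.getD i 0).testBit k).toNat *
        ((rows.getD k 0).testBit j).toNat) * (2 ^ s) ^ j := by
    calc ∑ t ∈ range n, ((rows.getD i 0).testBit (0 + t)).toNat * packed.getD t 0
        = ∑ t ∈ range n, ∑ j ∈ range n, ((rows.getD i 0).testBit t).toNat *
            (((rows.getD t 0).testBit j).toNat * (2 ^ s) ^ j) := by
          apply sum_congr rfl
          intro t ht
          rw [hp t (by rw [hlen]; exact mem_range.1 ht), spread_eq, mul_sum, zero_add]
      _ = _ := by
          rw [sum_comm]
          apply sum_congr rfl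
          intro j _
          rw [sum_mul]
          apply sum_congr rfl
          intro k _
          ring
  rw [h2] at h1
  have h3 : Nat.mul m (ones s n) = m * ∑ j ∈ range n, 1 * (2 ^ s) ^ j := by rw [← ones_eq]; rfl
  have h4 : ((2 : ℕ) ^ s) ^ (0 + (i : ℕ)) = ∑ j ∈ range n, (if (i : ℕ) = j then 1 else 0) * (2 ^ s) ^ j := by
    rw [zero_add]
    simp only [ite_mul, one_mul, zero_mul]
    rw [sum_ite_eq, if_pos (mem_range.2 i.2)]
  rw [h3, h4, mul_sum, mul_sum, mul_sum, ← sum_add_distrib, ← sum_add_distrib] at h1
  have h5 : ∑ j ∈ range n, ((∑ k ∈ range n, ((rows.getD i 0).testBit k).toNat *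
        ((rows.getD k 0).testBit j).toNat) + d * ((rows.getD i 0).testBit j).toNat) * (2 ^ s) ^ j =
      ∑ j ∈ range n, (m + c * (if (i : ℕ) = j then 1 else 0)) * (2 ^ s) ^ j := by
    calc _ = _ := by
          apply sum_congr rfl
          intro j _
          rw [add_mul, mul_assoc d]
      _ = _ := h1
      _ = _ := by
          apply sum_congr rfl
          intro j _
          ring
  refine digits_unique (2 ^ s) (by positivity) n _ _ ?_ ?_ h5 j j.2
  · intro j _
    have : ∑ k ∈ range n, ((rows.getD i 0).testBit k).toNat * ((rows.getD k 0).testBit j).toNat ≤ n := by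
      calc _ ≤ ∑ k ∈ range n, 1 := sum_le_sum fun k _ => by
            cases (rows.getD i 0).testBit k <;> cases (rows.getD k 0).testBit j <;> simp
        _ = n := by simp
    have h6 : ((rows.getD i 0).testBit j).toNat ≤ 1 := by cases (rows.getD i 0).testBit j <;> simp
    have h7 : d * ((rows.getD i 0).testBit j).toNat ≤ d := by
      calc _ ≤ d * 1 := Nat.mul_le_mul_left _ h6
        _ = d := mul_one d
    omega
  · intro j _
    split_ifs <;> omega

/-- **Strong regularity from the checks**: `d = m - ℓ`, `c = k - m`. -/
theorem isSRGWith {n s c d m k ℓ : ℕ} (rows packed : List ℕ) (hlen : rows.length = n)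
    (hchk : chkAll rows rows 0 = true) (hsp : chkSpread s n rows packed = true)
    (hsrg : chkSrg n s c d m rows packed = true) (hb : n + d < 2 ^ s)
    (hmc : m + c < 2 ^ s) (hd : ℓ + d = m) (hk : k = m + c) :
    (graph rows hlen hchk).IsSRGWith n k ℓ m := by
  classical
  have key : ∀ i j : Fin n, (univ.filter fun t : Fin n => (rows.getD i 0).testBit t = true ∧
      (rows.getD j 0).testBit t = true).card + d * ((rows.getD i 0).testBit j).toNat =
        m + c * (if (i : ℕ) = j then 1 else 0) := by
    intro i j
    rw [← common_eq hlen hsp hsrg hb hmc i j]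
    congr 1
    rw [card_filter, Finset.sum_range]
    apply sum_congr rfl
    intro t _
    rw [symm_rows rows hlen hchk t j]
    cases (rows.getD i 0).testBit t <;> cases (rows.getD j 0).testBit t <;> simp
  have hcn : ∀ i j : Fin n, Fintype.card ((graph rows hlen hchk).commonNeighbors i j) =
      (univ.filter fun t : Fin n => (rows.getD i 0).testBit t = true ∧
      (rows.getD j 0).testBit t = true).card := by
    intro i j
    rw [← Set.toFinset_card]
    congr 1
    ext t
    rw [Set.mem_toFinset, SimpleGraph.mem_commonNeighbors, mem_filter]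
    simp only [graph_adj, mem_univ, true_and]
  refine ⟨by simp, ?_, ?_, ?_⟩
  · intro i
    have h1 := key i i
    rw [irrefl_rows rows hlen hchk i] at h1
    simp only [Bool.toNat_false, mul_zero, add_zero, and_self, if_true, mul_one] at h1
    rw [← SimpleGraph.card_neighborSet_eq_degree, ← Set.toFinset_card, hk, ← h1]
    congr 1
    ext t
    rw [Set.mem_toFinset, SimpleGraph.mem_neighborSet, mem_filter]
    simp only [graph_adj, mem_univ, true_and]
  · intro i j hij
    rw [hcn]
    have h1 := key i j
    have h2 : (i : ℕ) ≠ j := fun h => (graph rows hlen hchk).ne_of_adj hij (Fin.ext h)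
    rw [if_neg h2, (graph_adj rows hlen hchk i j).1 hij] at h1
    simp only [Bool.toNat_true, mul_one, mul_zero, add_zero] at h1
    omega
  · intro i j hij hadj
    rw [hcn]
    have h1 := key i j
    have h2 : (i : ℕ) ≠ j := fun h => hij (Fin.ext h)
    have h3 : (rows.getD i 0).testBit j = false := by
      rw [graph_adj] at hadj
      simpa using hadj
    rw [if_neg h2, h3] at h1
    simp only [Bool.toNat_false, mul_zero, add_zero] at h1
    omega

end Cfsg.Agent.SporadicRecognition.RowGraph
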