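import Cfsg.Prelude.Def_Spor_Suz
import Cfsg.Agent.Lib.PermNetOrbit
import Cfsg.Agent.SporadicRecognition.SuzNet

/-!
The permutation representation of the presented Suzuki group on 1782 points, by swap networks.
-/

set_option autoImplicit false
set_option maxRecDepth 100000

namespace Cfsg.Agent.SporadicRecognition.SuzPhi

open Cfsg.Spor Cfsg.Agent.Lib.PermNet Cfsg.Agent.Lib.PermNetOrbit Cfsg.Agent.SporadicRecognition.SuzNet

noncomputable def net : Suz.Gen → Net
  | .a => aN
  | .b => bN
  | .c => cN
  | .d => dN
  | .e => eN
  | .f => fN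
  | .g => gN

theorem ok_a : aN.ok (2 ^ 11) = true := by decide +kernel
theorem ok_b : bN.ok (2 ^ 11) = true := by decide +kernel
theorem ok_c : cN.ok (2 ^ 11) = true := by decide +kernel
theorem ok_d : dN.ok (2 ^ 11) = true := by decide +kernel
theorem ok_e : eN.ok (2 ^ 11) = true := by decide +kernel
theorem ok_f : fN.ok (2 ^ 11) = true := by decide +kernel
theorem ok_g : gN.ok (2 ^ 11) = true := by decide +kernel

theorem net_ok (x : Suz.Gen) : (net x).ok (2 ^ 11) = true := by
  cases x
  · exact ok_a
  · exact ok_b
  · exact ok_c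
  · exact ok_d
  · exact ok_e
  · exact ok_f
  · exact ok_g

/-- word of networks -/
noncomputable def wd (w : List Suz.Gen) : List Net := w.map net

theorem wd_ok (w : List Suz.Gen) : WOk (2 ^ 11) (wd w) := by
  intro L hL
  obtain ⟨x, _, rfl⟩ := List.mem_map.mp hL
  exact net_ok x

/-- the permutation of a generator -/
noncomputable def gp (x : Suz.Gen) : Equiv.Perm ℕ := (net x).perm

theorem wperm_wd (w : List Suz.Gen) : wperm (wd w) = (w.map gp).prod := by
  rw [wperm, wd, List.map_map]; rfl

/-- repeat a word -/
def rp (w : List Suz.Gen) : ℕ → List Suz.Gen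
  | 0 => []
  | m + 1 => w ++ rp w m

theorem rp_prod {M : Type*} [Monoid M] (f : Suz.Gen → M) (w : List Suz.Gen) (m : ℕ) :
    ((rp w m).map f).prod = ((w.map f).prod) ^ m := by
  induction m with
  | zero => simp [rp]
  | succ m ih => rw [rp, List.map_append, List.prod_append, ih, pow_succ']

/-- the word is the identity on all points -/
noncomputable def triv (w : List Suz.Gen) : Bool := checkEq 11 (wd w) []

theorem triv_spec {w : List Suz.Gen} (h : triv w = true) : (w.map gp).prod = 1 := by
  rw [← wperm_wd, wperm_eq_of_checkEq (wd_ok w) (WOk.nil _) h, wperm_nil]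

def alls : List Suz.Gen := [.a, .b, .c, .d, .e, .f, .g]

theorem sq_a : triv [.a, .a] = true := by decide +kernel
theorem sq_b : triv [.b, .b] = true := by decide +kernel
theorem sq_c : triv [.c, .c] = true := by decide +kernel
theorem sq_d : triv [.d, .d] = true := by decide +kernel
theorem sq_e : triv [.e, .e] = true := by decide +kernel
theorem sq_f : triv [.f, .f] = true := by decide +kernel
theorem sq_g : triv [.g, .g] = true := by decide +kernel

theorem gp_sq (x : Suz.Gen) : gp x * gp x = 1 := by
  have h : triv [x, x] = true := by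
    cases x
    · exact sq_a
    · exact sq_b
    · exact sq_c
    · exact sq_d
    · exact sq_e
    · exact sq_f
    · exact sq_g
  simpa using triv_spec h

theorem pair_rel {x y : Suz.Gen} {m : ℕ} (h : triv (rp [x, y] m) = true) : (gp x * gp y) ^ m = 1 := by
  have := triv_spec h
  rw [rp_prod] at this
  simpa using this

theorem pair_rel_symm {x y : Suz.Gen} {m : ℕ} (h : (gp x * gp y) ^ m = 1) : (gp y * gp x) ^ m = 1 := by
  have h1 : (gp y * gp x) = (gp x * gp y)⁻¹ := by
    rw [mul_inv_rev, inv_eq_of_mul_eq_one_right (gp_sq x), inv_eq_of_mul_eq_one_right (gp_sq y)]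
  rw [h1, inv_pow, h, inv_one]

theorem chk_ab : triv (rp [.a, .b] 5) = true := by decide +kernel
theorem chk_ac : triv (rp [.a, .c] 2) = true := by decide +kernel
theorem chk_ad : triv (rp [.a, .d] 2) = true := by decide +kernel
theorem chk_ae : triv (rp [.a, .e] 2) = true := by decide +kernel
theorem chk_af : triv (rp [.a, .f] 2) = true := by decide +kernel
theorem chk_ag : triv (rp [.a, .g] 2) = true := by decide +kernel
theorem chk_bc : triv (rp [.b, .c] 3) = true := by decide +kernel
theorem chk_bd : triv (rp [.b, .d] 2) = true := by decide +kernel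
theorem chk_be : triv (rp [.b, .e] 2) = true := by decide +kernel
theorem chk_bf : triv (rp [.b, .f] 3) = true := by decide +kernel
theorem chk_bg : triv (rp [.b, .g] 3) = true := by decide +kernel
theorem chk_cd : triv (rp [.c, .d] 8) = true := by decide +kernel
theorem chk_ce : triv (rp [.c, .e] 2) = true := by decide +kernel
theorem chk_cf : triv (rp [.c, .f] 2) = true := by decide +kernel
theorem chk_cg : triv (rp [.c, .g] 2) = true := by decide +kernel
theorem chk_de : triv (rp [.d, .e] 3) = true := by decide +kernel
theorem chk_df : triv (rp [.d, .f] 2) = true := by decide +kernel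
theorem chk_dg : triv (rp [.d, .g] 2) = true := by decide +kernel
theorem chk_ef : triv (rp [.e, .f] 2) = true := by decide +kernel
theorem chk_eg : triv (rp [.e, .g] 2) = true := by decide +kernel
theorem chk_fg : triv (rp [.f, .g] 4) = true := by decide +kernel
theorem chk_x1 : triv (.a :: rp [.d, .c] 4) = true := by decide +kernel
theorem chk_x2 : triv (.a :: rp [.g, .f] 2) = true := by decide +kernel
theorem chk_x3 : triv (rp [.a, .b, .c, .f] 5) = true := by decide +kernel
theorem chk_x4 : triv (rp [.b, .f, .g] 5) = true := by decide +kernel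
theorem chk_x5 : triv (rp (rp [.b, .c, .d, .c, .d] 5 ++ [.e]) 3) = true := by decide +kernel

theorem cox (x y : Suz.Gen) : (gp x * gp y) ^ coxLabel Suz.edges x y = 1 := by
  cases x <;> cases y
  · exact (pow_one _).trans (gp_sq _)
  · exact pair_rel chk_ab
  · exact pair_rel chk_ac
  · exact pair_rel chk_ad
  · exact pair_rel chk_ae
  · exact pair_rel chk_af
  · exact pair_rel chk_ag
  · exact pair_rel_symm (pair_rel chk_ab)
  · exact (pow_one _).trans (gp_sq _)
  · exact pair_rel chk_bc
  · exact pair_rel chk_bd
  · exact pair_rel chk_be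
  · exact pair_rel chk_bf
  · exact pair_rel chk_bg
  · exact pair_rel_symm (pair_rel chk_ac)
  · exact pair_rel_symm (pair_rel chk_bc)
  · exact (pow_one _).trans (gp_sq _)
  · exact pair_rel chk_cd
  · exact pair_rel chk_ce
  · exact pair_rel chk_cf
  · exact pair_rel chk_cg
  · exact pair_rel_symm (pair_rel chk_ad)
  · exact pair_rel_symm (pair_rel chk_bd)
  · exact pair_rel_symm (pair_rel chk_cd)
  · exact (pow_one _).trans (gp_sq _)
  · exact pair_rel chk_de
  · exact pair_rel chk_df
  · exact pair_rel chk_dg
  · exact pair_rel_symm (pair_rel chk_ae)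
  · exact pair_rel_symm (pair_rel chk_be)
  · exact pair_rel_symm (pair_rel chk_ce)
  · exact pair_rel_symm (pair_rel chk_de)
  · exact (pow_one _).trans (gp_sq _)
  · exact pair_rel chk_ef
  · exact pair_rel chk_eg
  · exact pair_rel_symm (pair_rel chk_af)
  · exact pair_rel_symm (pair_rel chk_bf)
  · exact pair_rel_symm (pair_rel chk_cf)
  · exact pair_rel_symm (pair_rel chk_df)
  · exact pair_rel_symm (pair_rel chk_ef)
  · exact (pow_one _).trans (gp_sq _)
  · exact pair_rel chk_fg
  · exact pair_rel_symm (pair_rel chk_ag)
  · exact pair_rel_symm (pair_rel chk_bg)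
  · exact pair_rel_symm (pair_rel chk_cg)
  · exact pair_rel_symm (pair_rel chk_dg)
  · exact pair_rel_symm (pair_rel chk_eg)
  · exact pair_rel_symm (pair_rel chk_fg)
  · exact (pow_one _).trans (gp_sq _)

theorem inv_pair (x y : Suz.Gen) : (gp x * gp y)⁻¹ = gp y * gp x := by
  rw [mul_inv_rev, inv_eq_of_mul_eq_one_right (gp_sq x), inv_eq_of_mul_eq_one_right (gp_sq y)]

theorem rels_hold : ∀ r ∈ (coxRelators Suz.edges ∪ {r | r ∈ Suz.extra} : Set (FreeGroup Suz.Gen)),
    FreeGroup.lift gp r = 1 := by
  refine cox_lift_eq_one gp Suz.edges Suz.extra (fun x _ y _ => cox x y) ?_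
  intro r hr
  rw [Suz.extra, List.mem_cons, List.mem_cons, List.mem_cons, List.mem_cons, List.mem_singleton] at hr
  rcases hr with rfl | rfl | rfl | rfl | rfl
  · have h := triv_spec chk_x1
    rw [List.map_cons, List.prod_cons, rp_prod] at h
    simp only [List.map_cons, List.map_nil, List.prod_cons, List.prod_nil, mul_one] at h
    simp only [map_mul, map_inv, map_pow, FreeGroup.lift_apply_of]
    rw [← inv_pow, inv_pair]
    exact h
  · have h := triv_spec chk_x2
    rw [List.map_cons, List.prod_cons, rp_prod] at h
    simp only [List.map_cons, List.map_nil, List.prod_cons, List.prod_nil, mul_one] at h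
    simp only [map_mul, map_inv, map_pow, FreeGroup.lift_apply_of]
    rw [← inv_pow, inv_pair]
    exact h
  · have h := triv_spec chk_x3
    rw [rp_prod] at h
    simp only [List.map_cons, List.map_nil, List.prod_cons, List.prod_nil, mul_one] at h
    simp only [map_mul, map_pow, FreeGroup.lift_apply_of, mul_assoc]
    exact h
  · have h := triv_spec chk_x4
    rw [rp_prod] at h
    simp only [List.map_cons, List.map_nil, List.prod_cons, List.prod_nil, mul_one] at h
    simp only [map_mul, map_pow, FreeGroup.lift_apply_of, mul_assoc]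
    exact h
  · have h := triv_spec chk_x5
    rw [rp_prod, List.map_append, List.prod_append, rp_prod] at h
    simp only [List.map_cons, List.map_nil, List.prod_cons, List.prod_nil, mul_one] at h
    simp only [map_mul, map_pow, FreeGroup.lift_apply_of, mul_assoc]
    exact h

/-- The permutation representation of degree 1782 (identity above 1781). -/
noncomputable def φ : Suz →* Equiv.Perm ℕ := PresentedGroup.toGroup rels_hold

theorem φ_of (x : Suz.Gen) : φ (PresentedGroup.of x) = gp x := PresentedGroup.toGroup.of rels_hold

theorem φ_word (w : List Suz.Gen) :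
    φ ((w.map fun x => (PresentedGroup.of x : Suz)).prod) = wperm (wd w) := by
  rw [wperm_wd, map_list_prod, List.map_map]
  congr 1

end Cfsg.Agent.SporadicRecognition.SuzPhi
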